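import Mathlib
import Cfsg.Agent.Lib.PGroup.CountPElements

/-!
Frobenius' theorem: if `m` divides the order of `G`, then `m` divides the number of solutions of
`g ^ m = 1`.
-/

set_option autoImplicit false

universe u

namespace CfsgLib.Frobenius.Divisibility

variable {G : Type u} [Group G] [Finite G]

/-- The number of elements of a given order `d` is a multiple of `φ d`. -/
theorem totient_dvd_card (d : ℕ) : Nat.totient d ∣ Nat.card {g : G // orderOf g = d} := by
  classical
  haveI := Fintype.ofFinite G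
  rw [Nat.card_eq_fintype_card, Fintype.card_subtype]
  rw [Finset.card_eq_sum_card_fiberwise (f := fun x => Subgroup.zpowers x)
    (t := (Finset.univ.filter fun g : G => orderOf g = d).image fun x => Subgroup.zpowers x)
    (fun x hx => Finset.mem_image_of_mem _ hx)]
  refine Finset.dvd_sum fun D hD => ?_
  obtain ⟨x, hx, rfl⟩ := Finset.mem_image.1 hD
  have hxd : orderOf x = d := (Finset.mem_filter.1 hx).2
  refine Eq.dvd ?_
  rw [← IsCyclic.card_orderOf_eq_totient (α := Subgroup.zpowers x) (d := d)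
    (by rw [Fintype.card_zpowers, hxd]), ← Finset.card_map (Function.Embedding.subtype _)]
  congr 1
  ext y
  simp only [Finset.mem_filter, Finset.mem_map, Finset.mem_univ, true_and,
    Function.Embedding.coe_subtype]
  constructor
  · rintro ⟨⟨y, hy⟩, hyo, rfl⟩
    rw [Subgroup.orderOf_mk] at hyo
    refine ⟨hyo, Subgroup.eq_of_le_of_card_ge (Subgroup.zpowers_le.2 hy) ?_⟩
    rw [Nat.card_zpowers, Nat.card_zpowers, hxd, hyo]
  · rintro ⟨hyo, hy⟩
    exact ⟨⟨y, hy ▸ Subgroup.mem_zpowers y⟩, by rw [Subgroup.orderOf_mk, hyo], rfl⟩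

/-- Frobenius' theorem for a prime power. -/
theorem prime_pow {p : ℕ} [hp : Fact p.Prime] {a : ℕ} (ha : p ^ a ∣ Nat.card G) :
    p ^ a ∣ Nat.card {g : G // g ^ p ^ a = 1} := by
  classical
  haveI := Fintype.ofFinite G
  have hle : a ≤ (Nat.card G).factorization p :=
    (hp.out.pow_dvd_iff_le_factorization Nat.card_pos.ne').1 ha
  suffices h : ∀ k, ∀ b, b + k = (Nat.card G).factorization p →
      p ^ b ∣ Nat.card {g : G // g ^ p ^ b = 1} from
    h _ a (Nat.add_sub_cancel' hle)
  intro k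
  induction k with
  | zero =>
    intro b hb
    rw [add_zero] at hb
    subst hb
    have h := CfsgLib.PGroup.CountPElements.pow_dvd_card (G := G) (p := p) (Nat.ordProj_dvd _ _)
    refine h.trans (Eq.dvd (Nat.card_congr (Equiv.subtypeEquivRight fun g => ?_)))
    refine ⟨fun ⟨k, hk⟩ => orderOf_dvd_iff_pow_eq_one.1 ?_, fun hg => ?_⟩
    · rw [hk]
      exact pow_dvd_pow p ((hp.out.pow_dvd_iff_le_factorization Nat.card_pos.ne').1
        (hk ▸ orderOf_dvd_natCard g))
    · obtain ⟨j, -, hj⟩ := (Nat.dvd_prime_pow hp.out).1 (orderOf_dvd_of_pow_eq_one hg)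
      exact ⟨j, hj⟩
  | succ k ih =>
    intro b hb
    have h1 := (pow_dvd_pow p (Nat.le_succ b)).trans (ih (b + 1) (by omega))
    have h2 : p ^ b ∣ Nat.card {g : G // orderOf g = p ^ (b + 1)} := by
      refine dvd_trans ?_ (totient_dvd_card (G := G) (p ^ (b + 1)))
      rw [Nat.totient_prime_pow_succ hp.out]
      exact dvd_mul_right _ _
    have hsplit : Nat.card {g : G // g ^ p ^ (b + 1) = 1} =
        Nat.card {g : G // g ^ p ^ b = 1} + Nat.card {g : G // orderOf g = p ^ (b + 1)} := by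
      rw [Nat.card_eq_fintype_card, Nat.card_eq_fintype_card, Nat.card_eq_fintype_card,
        Fintype.card_subtype, Fintype.card_subtype, Fintype.card_subtype,
        ← Finset.card_union_of_disjoint]
      · congr 1
        ext g
        simp only [Finset.mem_union, Finset.mem_filter, Finset.mem_univ, true_and,
          ← orderOf_dvd_iff_pow_eq_one, Nat.dvd_prime_pow hp.out]
        constructor
        · rintro ⟨j, hj, e⟩
          rcases Nat.lt_or_ge j (b + 1) with h | h
          · exact Or.inl ⟨j, Nat.lt_succ_iff.1 h, e⟩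
          · exact Or.inr (by rw [e, le_antisymm hj h])
        · rintro (⟨j, hj, e⟩ | e)
          · exact ⟨j, hj.trans (Nat.le_succ b), e⟩
          · exact ⟨b + 1, le_rfl, e⟩
      · rw [Finset.disjoint_left]
        intro g hg hg'
        simp only [Finset.mem_filter, Finset.mem_univ, true_and,
          ← orderOf_dvd_iff_pow_eq_one] at hg hg'
        rw [hg', Nat.pow_dvd_pow_iff_le_right hp.out.one_lt] at hg
        omega
    exact (Nat.dvd_add_left h2).1 (hsplit ▸ h1)

/-- `p`-part of Frobenius' theorem. -/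
theorem prime_part {p : ℕ} [hp : Fact p.Prime] {a n : ℕ} (hn : ¬ p ∣ n)
    (ha : p ^ a ∣ Nat.card G) : p ^ a ∣ Nat.card {g : G // g ^ (p ^ a * n) = 1} := by
  classical
  haveI := Fintype.ofFinite G
  let S := (Finset.univ : Finset G).filter fun y => y ^ n = 1
  let C : G → Subgroup G := fun y => Subgroup.centralizer {y}
  let c : G → ℕ := fun y => Nat.card {x : C y // (x : G) ^ p ^ a = 1}
  have hcop : Nat.Coprime (p ^ a) n := (hp.out.coprime_iff_not_dvd.2 hn).pow_left a
  have hS : ∀ y ∈ S, ¬ p ∣ orderOf y := fun y hy h =>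
    hn (h.trans (orderOf_dvd_of_pow_eq_one (Finset.mem_filter.1 hy).2))
  have hdec : Nat.card {g : G // g ^ (p ^ a * n) = 1} = ∑ y ∈ S, c y := by
    rw [← Finset.sum_coe_sort S c]
    simp only [c]
    rw [← Nat.card_sigma]
    refine (Nat.card_congr (Equiv.ofBijective
      (fun z : Σ y : S, {x : C y.1 // (x : G) ^ p ^ a = 1} =>
        (⟨(z.2.1 : G) * z.1.1, ?_⟩ : {g : G // g ^ (p ^ a * n) = 1})) ⟨?_, ?_⟩)).symm
    · have hc : Commute (z.2.1 : G) z.1.1 := Subgroup.mem_centralizer_singleton_iff.1 z.2.1.2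
      rw [hc.mul_pow, pow_mul, z.2.2, one_pow, one_mul, mul_comm, pow_mul,
        (Finset.mem_filter.1 z.1.2).2, one_pow]
    · rintro ⟨⟨y, hy⟩, ⟨⟨x, hx⟩, hxp⟩⟩ ⟨⟨y', hy'⟩, ⟨⟨x', hx'⟩, hxp'⟩⟩ h
      have h' : x * y = x' * y' := congrArg Subtype.val h
      obtain rfl : x = x' := CfsgLib.PGroup.CountPElements.decomp_left_unique (p := p)
        (Subgroup.mem_centralizer_singleton_iff.1 hx) (Subgroup.mem_centralizer_singleton_iff.1 hx')
        (CfsgLib.PGroup.Basic.exists_orderOf_eq_pow_of_pow_eq_one hxp)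
        (CfsgLib.PGroup.Basic.exists_orderOf_eq_pow_of_pow_eq_one hxp')
        (hS y hy) (hS y' hy') h'
      obtain rfl : y = y' := mul_left_cancel h'
      rfl
    · rintro ⟨g, hg⟩
      have e := Nat.gcd_eq_gcd_ab (p ^ a) n
      rw [hcop.gcd_eq_one, Nat.cast_one] at e
      set i := Nat.gcdA (p ^ a) n
      set j := Nat.gcdB (p ^ a) n
      refine ⟨⟨⟨g ^ (((p ^ a : ℕ) : ℤ) * i), Finset.mem_filter.2 ⟨Finset.mem_univ _, ?_⟩⟩,
        ⟨g ^ ((n : ℤ) * j), Subgroup.mem_centralizer_singleton_iff.2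
          ((Commute.refl g).zpow_zpow _ _).eq⟩, ?_⟩, Subtype.ext ?_⟩
      · rw [← zpow_natCast, ← zpow_mul,
          show ((p ^ a : ℕ) : ℤ) * i * (n : ℤ) = ((p ^ a * n : ℕ) : ℤ) * i by push_cast; ring,
          zpow_mul, zpow_natCast, hg, one_zpow]
      · show (g ^ ((n : ℤ) * j)) ^ p ^ a = 1
        rw [← zpow_natCast, ← zpow_mul,
          show (n : ℤ) * j * ((p ^ a : ℕ) : ℤ) = ((p ^ a * n : ℕ) : ℤ) * j by push_cast; ring,
          zpow_mul, zpow_natCast, hg, one_zpow]
      · show g ^ ((n : ℤ) * j) * g ^ (((p ^ a : ℕ) : ℤ) * i) = g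
        rw [← zpow_add, add_comm, ← e, zpow_one]
  rw [hdec, ← Finset.sum_fiberwise_of_maps_to (t := (Finset.univ : Finset (ConjClasses G)))
    (g := ConjClasses.mk) (fun _ _ => Finset.mem_univ _)]
  refine Finset.dvd_sum fun cl _ => ?_
  rcases Finset.eq_empty_or_nonempty (S.filter fun y => ConjClasses.mk y = cl) with he | ⟨y, hy⟩
  · rw [he, Finset.sum_empty]; exact dvd_zero _
  simp only [Finset.mem_filter, S, Finset.mem_univ, true_and] at hy
  obtain ⟨hyn, rfl⟩ := hy
  have hfib : ∀ z, z ∈ (S.filter fun w => ConjClasses.mk w = ConjClasses.mk y) ↔ IsConj y z := by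
    intro z
    simp only [Finset.mem_filter, S, Finset.mem_univ, true_and, ConjClasses.mk_eq_mk_iff_isConj]
    refine ⟨fun h => h.2.symm, fun h => ⟨?_, h.symm⟩⟩
    obtain ⟨g, rfl⟩ := isConj_iff.1 h
    rw [conj_pow, hyn, mul_one, mul_inv_cancel]
  have hconst : ∀ z ∈ (S.filter fun w => ConjClasses.mk w = ConjClasses.mk y), c z = c y := by
    intro z hz
    obtain ⟨g, rfl⟩ := isConj_iff.1 ((hfib z).1 hz)
    symm
    refine Nat.card_congr (Equiv.subtypeEquiv
      { toFun := fun x => (⟨g * x * g⁻¹, ?_⟩ : C (g * y * g⁻¹))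
        invFun := fun x => ⟨g⁻¹ * x * g, ?_⟩
        left_inv := fun x => Subtype.ext (by simp [mul_assoc])
        right_inv := fun x => Subtype.ext (by simp [mul_assoc]) } (fun x => ?_))
    · have hx := Subgroup.mem_centralizer_singleton_iff.1 x.2
      rw [Subgroup.mem_centralizer_singleton_iff]
      calc g * x * g⁻¹ * (g * y * g⁻¹) = g * (x * y) * g⁻¹ := by group
        _ = g * (y * x) * g⁻¹ := by rw [hx]
        _ = g * y * g⁻¹ * (g * x * g⁻¹) := by group
    · have hx := Subgroup.mem_centralizer_singleton_iff.1 x.2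
      rw [Subgroup.mem_centralizer_singleton_iff]
      calc g⁻¹ * x * g * y = g⁻¹ * (x * (g * y * g⁻¹)) * g := by group
        _ = g⁻¹ * (g * y * g⁻¹ * x) * g := by rw [hx]
        _ = y * (g⁻¹ * x * g) := by group
    · simp [conj_pow]
  rw [Finset.sum_congr rfl hconst, Finset.sum_const, smul_eq_mul]
  have hcard : (S.filter fun w => ConjClasses.mk w = ConjClasses.mk y).card = (C y).index := by
    rw [← CfsgLib.PGroup.Basic.conj_card_eq_index y, Nat.card_eq_fintype_card,
      Fintype.card_of_subtype _ hfib]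
  rw [hcard]
  have hI0 : (C y).index ≠ 0 := Subgroup.index_ne_zero_of_finite
  set v := min a ((Nat.card (C y)).factorization p)
  have hv : p ^ v ∣ c y := by
    have h1 : p ^ v ∣ Nat.card {x : C y // x ^ p ^ v = 1} := prime_pow
      ((pow_dvd_pow p (min_le_right _ _)).trans (Nat.ordProj_dvd _ _))
    refine h1.trans (Eq.dvd (Nat.card_congr (Equiv.subtypeEquivRight fun x => ?_)))
    constructor
    · intro hx
      have h2 : x ^ p ^ a = 1 := orderOf_dvd_iff_pow_eq_one.1
        ((orderOf_dvd_of_pow_eq_one hx).trans (pow_dvd_pow p (min_le_left _ _)))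
      simpa using congrArg Subtype.val h2
    · intro hx
      apply orderOf_dvd_iff_pow_eq_one.1
      obtain ⟨j, hj, e⟩ := (Nat.dvd_prime_pow hp.out).1
        (orderOf_dvd_of_pow_eq_one (show x ^ p ^ a = 1 from Subtype.ext (by simpa using hx)))
      rw [e]
      exact pow_dvd_pow p (le_min hj ((hp.out.pow_dvd_iff_le_factorization Nat.card_pos.ne').1
        (e ▸ orderOf_dvd_natCard x)))
  refine dvd_trans ?_ (Nat.mul_dvd_mul (Nat.ordProj_dvd (C y).index p) hv)
  rw [← pow_add]
  refine pow_dvd_pow p ?_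
  rw [hp.out.pow_dvd_iff_le_factorization Nat.card_pos.ne', ← (C y).card_mul_index,
    Nat.factorization_mul Nat.card_pos.ne' hI0, Finsupp.add_apply] at ha
  omega

/-- Frobenius' theorem. -/
theorem dvd_card_pow_eq_one {m : ℕ} (hm : m ∣ Nat.card G) :
    m ∣ Nat.card {g : G // g ^ m = 1} := by
  refine (Nat.dvd_iff_prime_pow_dvd_dvd _ _).2 fun p k hp hpk => ?_
  have := Fact.mk hp
  have hm0 : m ≠ 0 := by rintro rfl; exact Nat.card_pos.ne' (Nat.eq_zero_of_zero_dvd hm)
  obtain ⟨a, n, hn, rfl⟩ := Nat.exists_eq_pow_mul_and_not_dvd hm0 p hp.ne_one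
  have hka : k ≤ a := by
    have h1 : (p ^ k).Coprime n := (hp.coprime_iff_not_dvd.2 hn).pow_left k
    exact (Nat.pow_dvd_pow_iff_le_right hp.one_lt).1 (h1.dvd_of_dvd_mul_right hpk)
  exact (pow_dvd_pow p hka).trans (prime_part hn ((dvd_mul_right _ _).trans hm))

end CfsgLib.Frobenius.Divisibility
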