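import Mathlib

/-! # Abelian `p`-groups with at most `p` elements of order dividing `p` are cyclic -/

namespace CfsgLib.Frobenius.AbelianRankOne

universe u

theorem card_pow_prime_pow_le {G : Type u} [CommGroup G] [Finite G] (p : ℕ)
    (h : Nat.card (powMonoidHom p : G →* G).ker ≤ p) :
    ∀ k, Nat.card (powMonoidHom (p ^ k) : G →* G).ker ≤ p ^ k := by
  intro k
  induction k with
  | zero =>
    have : (powMonoidHom (p ^ 0) : G →* G).ker = ⊥ := by
      ext x; simp
    rw [this]; simp
  | succ k ih =>
    let f : (powMonoidHom (p ^ (k + 1)) : G →* G).ker →* (powMonoidHom (p ^ k) : G →* G).ker :=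
      ((powMonoidHom p).comp (powMonoidHom (p ^ (k + 1)) : G →* G).ker.subtype).codRestrict _
        fun x => by
          have hx : (x : G) ^ p ^ (k + 1) = 1 := x.2
          rw [MonoidHom.mem_ker]
          show ((x : G) ^ p) ^ p ^ k = 1
          rw [← pow_mul, ← pow_succ']; exact hx
    have hker : Nat.card f.ker ≤ p := by
      refine le_trans (Nat.card_le_card_of_injective
        (fun x : f.ker => (⟨x.1.1, (congrArg Subtype.val x.2 : (x.1.1 : G) ^ p = 1)⟩ :
          (powMonoidHom p : G →* G).ker)) fun a b hab => ?_) h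
      exact Subtype.ext (Subtype.ext (congrArg Subtype.val hab : _))
    calc Nat.card (powMonoidHom (p ^ (k + 1)) : G →* G).ker
        = Nat.card f.range * Nat.card f.ker := by
          rw [Subgroup.card_eq_card_quotient_mul_card_subgroup f.ker,
            Nat.card_congr (QuotientGroup.quotientKerEquivRange f).toEquiv]
      _ ≤ p ^ k * p := Nat.mul_le_mul ((Subgroup.card_le_card_group _).trans ih) hker
      _ = p ^ (k + 1) := (pow_succ p k).symm

/-- An abelian `p`-group with at most `p` solutions of `x ^ p = 1` is cyclic. -/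
theorem isCyclic {G : Type u} [CommGroup G] [Finite G] (p : ℕ) [Fact p.Prime] (hG : IsPGroup p G)
    (h : Nat.card (powMonoidHom p : G →* G).ker ≤ p) : IsCyclic G := by
  classical
  haveI := Fintype.ofFinite G
  refine isCyclic_of_card_pow_eq_one_le fun n hn => ?_
  obtain ⟨N, hN⟩ := IsPGroup.iff_card.mp hG
  obtain ⟨k, -, hk⟩ := (Nat.dvd_prime_pow (Fact.out : p.Prime)).mp
    (hN ▸ Nat.gcd_dvd_right n (Nat.card G))
  refine le_trans ?_ ((card_pow_prime_pow_le p h k).trans (hk ▸ Nat.gcd_le_left _ hn))
  rw [Nat.card_eq_fintype_card, Fintype.card_subtype]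
  refine Finset.card_le_card fun x hx => ?_
  simp only [Finset.mem_filter, Finset.mem_univ, true_and] at hx ⊢
  show x ^ p ^ k = 1
  rw [← hk, ← orderOf_dvd_iff_pow_eq_one]
  exact Nat.dvd_gcd (orderOf_dvd_of_pow_eq_one hx) (hN ▸ orderOf_dvd_natCard x)

/-- A finite group whose Sylow subgroups are normal and cyclic is cyclic. -/
theorem isCyclic_of_sylow {G : Type u} [Group G] [Finite G] [Group.IsNilpotent G]
    (h : ∀ (p : ℕ) [Fact p.Prime] (P : Sylow p G), IsCyclic P) : IsCyclic G := by
  obtain ⟨e⟩ := Group.isNilpotent_of_finite_tfae.out 0 4 |>.mp (inferInstance : Group.IsNilpotent G)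
  have hcomm : ∀ a b : G, a * b = b * a := fun a b => by
    apply e.symm.injective
    rw [map_mul, map_mul]
    funext q P
    haveI := Fact.mk (Nat.prime_of_mem_primeFactors q.2)
    haveI := h q P
    exact IsMulCommutative.is_comm.comm _ _
  letI : CommGroup G := { (inferInstance : Group G) with mul_comm := hcomm }
  rw [IsCyclic.iff_exponent_eq_card]
  refine Nat.dvd_antisymm Group.exponent_dvd_nat_card
    ((Nat.factorization_prime_le_iff_dvd Nat.card_pos.ne' Monoid.exponent_ne_zero_of_finite).mp
      fun p hp => ?_)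
  haveI := Fact.mk hp
  obtain ⟨P⟩ : Nonempty (Sylow p G) := inferInstance
  haveI := h p P
  obtain ⟨g, hg⟩ := IsCyclic.exists_ofOrder_eq_natCard (α := P)
  have hdvd : p ^ (Nat.card G).factorization p ∣ Monoid.exponent G := by
    rw [← P.card_eq_multiplicity, ← hg, ← Subgroup.orderOf_coe]
    exact Monoid.order_dvd_exponent _
  exact (hp.pow_dvd_iff_le_factorization Monoid.exponent_ne_zero_of_finite).mp hdvd

end CfsgLib.Frobenius.AbelianRankOne
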