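import Cfsg.Agent.Lib.PGroup.Frattini
import Cfsg.Agent.Lib.Coprime.Action

/-!
Automorphisms of order prime to `p` of a `p`-group with a small Frattini quotient.
-/

set_option autoImplicit false

namespace CfsgLib.Frobenius.FrattiniAction

variable {G : Type*} [Group G] [Finite G] {p : ℕ} [Fact p.Prime]

/-- A `p'`-element normalising a `p`-group `Q` with `|Q/Φ(Q)| ≤ p ^ d`, none of whose prime divisors
divides some `p ^ i - 1`, `1 ≤ i ≤ d`, centralises `Q`. -/
theorem centralizes {Q : Subgroup G} (hQ : IsPGroup p Q) (d : ℕ)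
    (hd : Nat.card (Q ⧸ frattini Q) ≤ p ^ d) {g : G}
    (hg : g ∈ Subgroup.normalizer (Q : Set G)) (ho : (orderOf g).Coprime p)
    (h : ∀ q : ℕ, q.Prime → q ∣ orderOf g → ∀ i, 1 ≤ i → i ≤ d → ¬ q ∣ p ^ i - 1) :
    g ∈ Subgroup.centralizer (Q : Set G) := by
  classical
  have hcop : (Nat.card (Subgroup.zpowers g)).Coprime (Nat.card Q) := by
    obtain ⟨k, hk⟩ := hQ.exists_card_eq
    rw [Nat.card_zpowers, hk]
    exact ho.pow_right k
  refine CfsgLib.Coprime.le_centralizer_of_frattini (A := Subgroup.zpowers g)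
    (Subgroup.zpowers_le.2 hg)
    (hcop.coprime_dvd_right (Subgroup.card_subgroup_dvd_card _)) ?_ (Subgroup.mem_zpowers g)
  intro a ha k hk
  let ψ : MulAut Q →* MulAut (Q ⧸ frattini Q) :=
    { toFun := fun α => QuotientGroup.congr _ _ α
        (Subgroup.characteristic_iff_map_eq.1 inferInstance α)
      map_one' := by
        ext x; obtain ⟨x, rfl⟩ := QuotientGroup.mk'_surjective _ x; rfl
      map_mul' := fun α β => by
        ext x; obtain ⟨x, rfl⟩ := QuotientGroup.mk'_surjective _ x; rfl }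
  set f := ψ.comp Q.normalizerMonoidHom with hf
  set γ := f ⟨g, hg⟩ with hγ
  suffices h1 : γ = 1 by
    obtain ⟨i, rfl⟩ := ha
    have h2 : f (⟨g, hg⟩ ^ i) = 1 := by rw [map_zpow, ← hγ, h1, one_zpow]
    have h3 := DFunLike.congr_fun h2 (QuotientGroup.mk ⟨k, hk⟩)
    have h4 : ((⟨g ^ i * k * (g ^ i)⁻¹, ?_⟩ : Q) : Q ⧸ frattini Q) = (⟨k, hk⟩ : Q) := h3
    · rw [QuotientGroup.eq_iff_div_mem] at h4
      exact ⟨_, h4, by simp [commutatorElement_def, div_eq_mul_inv]⟩
    · exact (Subgroup.mem_normalizer_iff.1 (zpow_mem hg i) k).1 hk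
  by_contra hne
  have hγg : orderOf γ ∣ orderOf g :=
    (orderOf_map_dvd f _).trans (Subgroup.orderOf_coe _).symm.dvd
  obtain ⟨q, hq, hqd⟩ := Nat.exists_prime_and_dvd (mt orderOf_eq_one_iff.1 hne)
  have : Fact q.Prime := ⟨hq⟩
  have hqp : q ≠ p := fun e => hq.not_dvd_one
    (ho ▸ Nat.dvd_gcd (hqd.trans hγg) (e ▸ dvd_rfl))
  set δ := γ ^ (orderOf γ / q)
  have hδ : orderOf δ = q := by
    rw [orderOf_pow, Nat.gcd_eq_right (Nat.div_dvd_of_dvd hqd),
      Nat.div_div_self hqd (orderOf_pos γ).ne']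
  have hZ : IsPGroup q (Subgroup.zpowers δ) :=
    IsPGroup.of_card (n := 1) (by rw [Nat.card_zpowers, hδ, pow_one])
  set V := Q ⧸ frattini Q
  have hmod := hZ.card_modEq_card_fixedPoints V
  let F : Subgroup V := (δ.toMonoidHom).eqLocus (MonoidHom.id _)
  have hfix : MulAction.fixedPoints (Subgroup.zpowers δ) V = (F : Set V) := by
    ext x
    refine ⟨fun hx => hx ⟨δ, Subgroup.mem_zpowers δ⟩, fun hx a => ?_⟩
    obtain ⟨_, j, rfl⟩ := a
    have : Subgroup.zpowers δ ≤ MulAction.stabilizer (MulAut V) x :=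
      Subgroup.zpowers_le.mpr (show δ • x = x from hx)
    exact this ⟨j, rfl⟩
  rw [hfix] at hmod
  obtain ⟨d', hd'⟩ := (hQ.to_quotient (frattini Q)).exists_card_eq
  obtain ⟨c, hc⟩ := ((hQ.to_quotient (frattini Q)).to_subgroup F).exists_card_eq
  have hpp : p.Prime := Fact.out
  have hcd : c < d' := by
    by_contra hle
    have htop : F = ⊤ := Subgroup.eq_top_of_le_card F (by
      rw [hd', hc]; exact Nat.pow_le_pow_right hpp.pos (not_lt.1 hle))
    have h1 : δ = 1 := MulEquiv.ext fun x => (htop ▸ Subgroup.mem_top x : x ∈ F)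
    rw [h1, orderOf_one] at hδ
    exact hq.ne_one hδ.symm
  have hd'd : d' ≤ d := (Nat.pow_le_pow_iff_right hpp.one_lt).1 (hd' ▸ hd)
  refine h q hq (hqd.trans hγg) (d' - c) (by omega) (by omega) ?_
  have h5 := (Nat.modEq_iff_dvd' (Nat.pow_le_pow_right hpp.pos hcd.le)).1
    (show p ^ c ≡ p ^ d' [MOD q] by
      have := hmod.symm
      rw [hd'] at this
      exact (show Nat.card (F : Set V) = p ^ c from hc) ▸ this)
  rw [show d' = c + (d' - c) by omega, pow_add, ← Nat.mul_sub_one] at h5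
  exact (Nat.Coprime.pow_right c ((Nat.coprime_primes hq hpp).2 hqp)).dvd_of_dvd_mul_left h5

/-- A group with a cyclic subgroup of index at most two needs two generators. -/
theorem card_frattini_quotient_le_four {Q : Subgroup G} (hQ : IsPGroup 2 Q) (u v : Q)
    (h : Subgroup.closure ({u, v} : Set Q) = ⊤) : Nat.card (Q ⧸ frattini Q) ≤ 2 ^ 2 := by
  classical
  have : Fact (Nat.Prime 2) := ⟨Nat.prime_two⟩
  let _ : CommGroup (Q ⧸ frattini Q) :=
    { (inferInstance : Group (Q ⧸ frattini Q)) with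
      mul_comm := CfsgLib.PGroup.Frattini.quotient_mul_comm hQ }
  have h1 := card_dvd_exponent_pow_rank' (Q ⧸ frattini Q)
    (CfsgLib.PGroup.Frattini.quotient_pow_eq_one hQ)
  have h2 : Group.rank (Q ⧸ frattini Q) ≤ 2 := by
    refine (Group.rank_le_of_surjective (QuotientGroup.mk' _) (QuotientGroup.mk'_surjective _)).trans ?_
    refine (Group.rank_le (S := ({u, v} : Finset Q)) (by simpa using h)).trans ?_
    exact (Finset.card_insert_le _ _).trans (by simp)
  exact (Nat.le_of_dvd (pow_pos two_pos _) h1).trans (Nat.pow_le_pow_right two_pos h2)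

end CfsgLib.Frobenius.FrattiniAction
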