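import Mathlib
import Cfsg.Agent.Lib.PGroup.Frattini
import Cfsg.Agent.Lib.TwoGroups.CyclicMax

/-!
A metacyclic 2-group whose automorphism group is not a 2-group is `Q₈` or homocyclic of rank two.
-/

set_option autoImplicit false
set_option linter.style.haveILetI false

open scoped commutatorElement

namespace CfsgLib.Frobenius.MetacyclicTwo

variable {X : Type*} [Group X] [Finite X]

theorem eq_one_of_fix_frattini (hX : IsPGroup 2 X) {a b : X}
    (hgen : Subgroup.closure {a, b} = ⊤) {φ : MulAut X} {q : ℕ} [Fact q.Prime] (hq : q ≠ 2)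
    (hφ : φ ^ q = 1) (h : ∀ x, x⁻¹ * φ x ∈ frattini X) : φ = 1 := by
  classical
  haveI := Fintype.ofFinite X
  let t : Fin 2 → X ⧸ frattini X := fun i => ((![a, b] i : X) : X ⧸ frattini X)
  let T := {s : Fin 2 → X // ∀ i, (s i : X ⧸ frattini X) = t i}
  haveI : Fintype T := Fintype.ofFinite T
  let f : Function.End T := fun s => ⟨fun i => φ (s.1 i), fun i => by
    rw [← s.2 i]; exact (QuotientGroup.eq.mpr (h (s.1 i))).symm⟩
  have hf : ∀ (m : ℕ) (s : T) (i : Fin 2), ((f ^ m) s).1 i = (φ ^ m) (s.1 i) := by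
    intro m s i
    induction m with
    | zero => rfl
    | succ m ih =>
      rw [pow_succ', pow_succ']
      show φ (((f ^ m) s).1 i) = φ ((φ ^ m) (s.1 i))
      rw [ih]
  have hfq : f ^ q ^ 1 = 1 := funext fun s => Subtype.ext (funext fun i => by
    rw [pow_one, hf, hφ]; rfl)
  have hmod := Equiv.Perm.card_fixedPoints_modEq hfq
  have hT : Fintype.card T = Nat.card (frattini X) ^ 2 := by
    rw [← Nat.card_eq_fintype_card, CfsgLib.PGroup.Frattini.card_fiber_tuples, Fintype.card_fin]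
  obtain ⟨k, hk⟩ := IsPGroup.iff_card.mp (hX.to_subgroup (frattini X))
  have hndvd : ¬ q ∣ Fintype.card T := by
    rw [hT, hk, ← pow_mul]
    intro hd
    exact hq ((Nat.prime_dvd_prime_iff_eq Fact.out Nat.prime_two).mp
      ((Fact.out : q.Prime).dvd_of_dvd_pow hd))
  obtain ⟨⟨s, hs⟩⟩ : Nonempty f.fixedPoints := by
    rw [← Fintype.card_pos_iff]
    refine Nat.pos_of_ne_zero fun h0 => hndvd ?_
    rw [Nat.modEq_zero_iff_dvd.symm]
    exact h0 ▸ hmod
  have hsgen : Subgroup.closure (Set.range s.1) = ⊤ := by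
    rw [CfsgLib.PGroup.Frattini.closure_range_eq_top_iff]
    simp_rw [s.2]
    show Subgroup.closure (Set.range fun i => ((![a, b] i : X) : X ⧸ frattini X)) = ⊤
    rw [← CfsgLib.PGroup.Frattini.closure_range_eq_top_iff, Matrix.range_cons, Matrix.range_cons,
      Matrix.range_empty, Set.union_empty, Set.singleton_union]
    exact hgen
  have hle : Subgroup.closure (Set.range s.1) ≤ φ.toMonoidHom.eqLocus (MonoidHom.id X) := by
    rw [Subgroup.closure_le]
    rintro _ ⟨i, rfl⟩
    exact congrArg (fun u : T => u.1 i) hs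
  exact MulEquiv.ext fun x => hle (hsgen.ge (Subgroup.mem_top x))

theorem quot_card_le (hX : IsPGroup 2 X) {a b : X} (hgen : Subgroup.closure {a, b} = ⊤) :
    Nat.card (X ⧸ frattini X) ≤ 4 := by
  classical
  have hc := CfsgLib.PGroup.Frattini.quotient_mul_comm hX
  have hsq : ∀ u : X ⧸ frattini X, u * u = 1 := fun u => by
    rw [← pow_two]; exact CfsgLib.PGroup.Frattini.quotient_pow_eq_one hX u
  set A : X ⧸ frattini X := QuotientGroup.mk a
  set B : X ⧸ frattini X := QuotientGroup.mk b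
  let S : Subgroup (X ⧸ frattini X) :=
    { carrier := {1, A, B, A * B}
      one_mem' := by simp
      mul_mem' := by
        intro u v hu hv
        simp only [Set.mem_insert_iff, Set.mem_singleton_iff] at hu hv ⊢
        have e1 : A * (A * B) = B := by rw [← mul_assoc, hsq, one_mul]
        have e2 : B * (A * B) = A := by rw [hc A B, ← mul_assoc, hsq, one_mul]
        have e3 : A * B * A = B := by rw [hc A B, mul_assoc, hsq, mul_one]
        have e4 : A * B * B = A := by rw [mul_assoc, hsq, mul_one]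
        rcases hu with rfl | rfl | rfl | rfl <;> rcases hv with rfl | rfl | rfl | rfl <;>
          simp [hsq, hc B A, e1, e2, e3, e4]
      inv_mem' := by
        intro u hu
        rwa [inv_eq_of_mul_eq_one_right (hsq u)] }
  have hS : S = ⊤ := by
    refine top_unique ?_
    rw [← Subgroup.map_top_of_surjective _ (QuotientGroup.mk'_surjective (frattini X)), ← hgen,
      MonoidHom.map_closure, Subgroup.closure_le]
    rintro _ ⟨x, hx, rfl⟩
    rcases hx with rfl | rfl
    · show A ∈ S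
      simp [S, ← SetLike.mem_coe]
    · show B ∈ S
      simp [S, ← SetLike.mem_coe]
  haveI := Fintype.ofFinite (X ⧸ frattini X)
  rw [Nat.card_eq_fintype_card]
  calc Fintype.card (X ⧸ frattini X) ≤ ({1, A, B, A * B} : Finset (X ⧸ frattini X)).card := by
        refine Finset.card_le_card fun u _ => ?_
        have := hS.ge (Subgroup.mem_top u)
        simpa [S, ← SetLike.mem_coe] using this
    _ ≤ 4 := by
        refine (Finset.card_insert_le _ _).trans (Nat.succ_le_succ ?_)
        refine (Finset.card_insert_le _ _).trans (Nat.succ_le_succ ?_)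
        exact (Finset.card_insert_le _ _).trans (by simp)

/-- An odd automorphism moves every element outside the Frattini subgroup, and invariant subgroups
over it are trivial. -/
theorem free (hX : IsPGroup 2 X) {a b : X} (hgen : Subgroup.closure {a, b} = ⊤) {φ : MulAut X} {q : ℕ}
    [Fact q.Prime] (hq : q ≠ 2) (hφ : φ ^ q = 1) (hφ1 : φ ≠ 1) :
    (∀ x, x⁻¹ * φ x ∈ frattini X → x ∈ frattini X) ∧
      ∀ U : Subgroup X, (∀ x ∈ U, φ x ∈ U) → (∃ x ∈ U, x ∉ frattini X) → U = ⊤ := by
  classical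
  haveI := Fintype.ofFinite (X ⧸ frattini X)
  have h4 : Fintype.card (X ⧸ frattini X) ≤ 4 := by
    rw [← Nat.card_eq_fintype_card]; exact quot_card_le hX hgen
  let ψ : (X ⧸ frattini X) →* (X ⧸ frattini X) := QuotientGroup.map _ _ φ.toMonoidHom
    ((Subgroup.characteristic_iff_comap_eq.mp inferInstance φ).ge)
  have hψ : ∀ x : X, ψ (x : X ⧸ frattini X) = ((φ x : X) : X ⧸ frattini X) := fun x => rfl
  have hinj : Function.Injective ψ := by
    refine Finite.injective_iff_surjective.mpr fun u => ?_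
    obtain ⟨x, rfl⟩ := QuotientGroup.mk'_surjective _ u
    exact ⟨(φ.symm x : X), by rw [hψ, MulEquiv.apply_symm_apply]; rfl⟩
  have hfree : ∀ u, ψ u = u → u = 1 := by
    intro u hu
    by_contra hu1
    have hsq : ∀ v, ψ (ψ v) = v := by
      intro v
      by_contra hv
      have h1 : ψ v ≠ v := fun e => hv (by rw [e, e])
      have h2 : v ≠ 1 := fun e => hv (by rw [e, map_one, map_one])
      have h3 : v ≠ u := fun e => hv (by rw [e, hu, hu])
      have h5 : ψ v ≠ 1 := fun e => h2 (hinj (by rw [e, map_one]))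
      have h6 : ψ v ≠ u := fun e => h3 (hinj (by rw [e, hu]))
      have h7 : ψ (ψ v) ≠ 1 := fun e => h5 (hinj (by rw [e, map_one]))
      have h8 : ψ (ψ v) ≠ u := fun e => h6 (hinj (by rw [e, hu]))
      have h9 : ψ (ψ v) ≠ ψ v := fun e => h1 (hinj e)
      have hc : ({1, u, v, ψ v, ψ (ψ v)} : Finset (X ⧸ frattini X)).card = 5 := by
        simp [Ne.symm hu1, Ne.symm h2, Ne.symm h3, Ne.symm h5, Ne.symm h6, Ne.symm h7, Ne.symm h8,
          Ne.symm h1, Ne.symm hv, Ne.symm h9]
      have := Finset.card_le_univ ({1, u, v, ψ v, ψ (ψ v)} : Finset (X ⧸ frattini X))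
      omega
    have hstep : ∀ (m : ℕ) (x : X), (((φ ^ (2 * m)) x : X) : X ⧸ frattini X) = x := by
      intro m x
      induction m with
      | zero => rfl
      | succ m ih =>
        rw [show 2 * (m + 1) = 2 * m + 1 + 1 by ring, pow_succ', pow_succ', MulAut.mul_apply,
          MulAut.mul_apply, ← hψ, ← hψ, ih]
        exact hsq _
    obtain ⟨m, hm⟩ := (Fact.out : q.Prime).odd_of_ne_two hq
    refine hφ1 (eq_one_of_fix_frattini hX hgen hq hφ fun x => ?_)
    refine QuotientGroup.eq.mp ?_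
    have e : (((φ ^ q) x : X) : X ⧸ frattini X) = x := by rw [hφ]; rfl
    rw [hm, pow_succ', MulAut.mul_apply, ← hψ, hstep, hψ] at e
    exact e.symm
  refine ⟨fun x hx => ?_, ?_⟩
  · rw [← QuotientGroup.eq_one_iff]
    exact hfree _ (by rw [hψ]; exact (QuotientGroup.eq.mpr hx).symm)
  · rintro U hU ⟨x, hxU, hx⟩
    set u : X ⧸ frattini X := QuotientGroup.mk x with hu
    have hu1 : u ≠ 1 := by rwa [Ne, hu, QuotientGroup.eq_one_iff]
    have h2 : ψ u ≠ u := fun e => hu1 (hfree u e)
    have h3 : ψ u ≠ 1 := fun e => hu1 (hinj (by rw [e, map_one]))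
    have hsq : u * u = 1 := by rw [← pow_two]; exact CfsgLib.PGroup.Frattini.quotient_pow_eq_one hX u
    have h4' : u * ψ u ≠ 1 := fun e => h2 (by rw [← mul_eq_one_iff_inv_eq.mp e]; exact inv_eq_of_mul_eq_one_right hsq)
    have h5 : u * ψ u ≠ u := fun e => h3 (mul_eq_left.mp e)
    have h6 : u * ψ u ≠ ψ u := fun e => hu1 (mul_eq_right.mp e)
    have hc : ({1, u, ψ u, u * ψ u} : Finset (X ⧸ frattini X)).card = 4 := by
      simp [Ne.symm hu1, Ne.symm h2, Ne.symm h3, Ne.symm h4', Ne.symm h5, Ne.symm h6]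
    have huniv : ({1, u, ψ u, u * ψ u} : Finset (X ⧸ frattini X)) = Finset.univ :=
      Finset.eq_univ_of_card _ (le_antisymm (Finset.card_le_univ _) (hc ▸ h4))
    have hmap : U.map (QuotientGroup.mk' (frattini X)) = ⊤ := by
      refine top_unique fun v _ => ?_
      have hx' : u ∈ U.map (QuotientGroup.mk' (frattini X)) := ⟨x, hxU, rfl⟩
      have hφx : ψ u ∈ U.map (QuotientGroup.mk' (frattini X)) := ⟨φ x, hU x hxU, rfl⟩
      have hv := huniv.ge (Finset.mem_univ v)
      simp only [Finset.mem_insert, Finset.mem_singleton] at hv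
      rcases hv with rfl | rfl | rfl | rfl
      · exact one_mem _
      · exact hx'
      · exact hφx
      · exact mul_mem hx' hφx
    refine frattini_nongenerating ?_
    rw [← QuotientGroup.ker_mk' (frattini X), ← Subgroup.comap_map_eq, hmap, Subgroup.comap_top]

theorem pow_four_mul {Y : Type*} [Group Y] (hz : ∀ a b : Y, Commute ⁅a, b⁆ a ∧ Commute ⁅a, b⁆ b ∧ ⁅a, b⁆ * ⁅a, b⁆ = 1) :
    ∀ (a b : Y) (m : ℕ), (a * b) ^ (4 * m) = a ^ (4 * m) * b ^ (4 * m) := by
  have hsq : ∀ a b : Y, Commute (a ^ 2) b := by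
    intro a b
    obtain ⟨h1, -, h3⟩ := hz a b
    show a ^ 2 * b = b * a ^ 2
    rw [pow_two]
    calc a * a * b = a * (⁅a, b⁆ * b * a) := by rw [commutatorElement_def]; group
      _ = (⁅a, b⁆ * a) * b * a := by rw [h1.eq]; group
      _ = ⁅a, b⁆ * (⁅a, b⁆ * b * a) * a := by rw [commutatorElement_def]; group
      _ = (⁅a, b⁆ * ⁅a, b⁆) * (b * (a * a)) := by group
      _ = b * (a * a) := by rw [h3, one_mul]
  intro a b m
  obtain ⟨h1, h2, h3⟩ := hz b a
  have hab : (a * b) ^ 2 = ⁅b, a⁆ * (a ^ 2 * b ^ 2) := by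
    rw [pow_two, pow_two, pow_two]
    calc a * b * (a * b) = a * (⁅b, a⁆ * a * b) * b := by rw [commutatorElement_def]; group
      _ = (a * ⁅b, a⁆) * a * (b * b) := by group
      _ = _ := by rw [← h2.eq]; group
  have hc : Commute ⁅b, a⁆ (a ^ 2 * b ^ 2) := (h2.pow_right 2).mul_right (h1.pow_right 2)
  calc (a * b) ^ (4 * m) = ((a * b) ^ 2) ^ (2 * m) := by rw [← pow_mul]; ring_nf
    _ = (⁅b, a⁆ ^ 2) ^ m * (a ^ 2 * b ^ 2) ^ (2 * m) := by rw [hab, hc.mul_pow, pow_mul ⁅b, a⁆]
    _ = (a ^ 2) ^ (2 * m) * (b ^ 2) ^ (2 * m) := by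
        rw [pow_two ⁅b, a⁆, h3, one_pow, one_mul, (hsq a (b ^ 2)).mul_pow]
    _ = a ^ (4 * m) * b ^ (4 * m) := by rw [← pow_mul, ← pow_mul]; ring_nf

theorem main {X : Type*} [Group X] [Finite X] (hX : IsPGroup 2 X) (N : Subgroup X) [N.Normal]
    (hN : IsCyclic N) (hQ : IsCyclic (X ⧸ N)) (hA : ¬ IsPGroup 2 (MulAut X)) :
    Nonempty (X ≃* QuaternionGroup 2) ∨
      ∃ n : ℕ, Nonempty (X ≃* Multiplicative (ZMod (2 ^ n)) × Multiplicative (ZMod (2 ^ n))) := by
  classical
  haveI : Fact (Nat.Prime 2) := ⟨Nat.prime_two⟩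
  -- an automorphism of odd prime order
  obtain ⟨q, φ, hqp, hq, hφ, hφ1⟩ : ∃ (q : ℕ) (φ : MulAut X), q.Prime ∧ q ≠ 2 ∧ φ ^ q = 1 ∧ φ ≠ 1 := by
    haveI : Finite (MulAut X) := Finite.of_injective (fun e : MulAut X => (e : X → X))
      fun _ _ h => MulEquiv.ext (congrFun h)
    by_contra hc
    push Not at hc
    refine hA (IsPGroup.of_card (n := (Nat.card (MulAut X)).primeFactorsList.length) ?_)
    refine Nat.eq_prime_pow_of_unique_prime_dvd Nat.card_pos.ne' fun {d} hd hdd => ?_
    haveI := Fact.mk hd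
    obtain ⟨φ, hφ⟩ := exists_prime_orderOf_dvd_card' d hdd
    by_contra hd2
    have := hc d φ hd hd2 (hφ ▸ pow_orderOf_eq_one φ)
    rw [this, orderOf_one] at hφ
    exact hd.ne_one hφ.symm
  haveI := Fact.mk hqp
  -- generators
  obtain ⟨⟨a, haN⟩, ha⟩ := hN.exists_generator
  have hNa : Subgroup.zpowers a = N := by
    refine le_antisymm (Subgroup.zpowers_le.mpr haN) fun x hx => ?_
    obtain ⟨i, hi⟩ := Subgroup.mem_zpowers_iff.mp (ha ⟨x, hx⟩)
    exact ⟨i, by simpa using congrArg Subtype.val hi⟩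
  obtain ⟨b', hb'⟩ := hQ.exists_generator
  obtain ⟨b, rfl⟩ := QuotientGroup.mk'_surjective N b'
  have hdec : ∀ x : X, ∃ (i : ℤ) (j : ℕ), x = a ^ i * b ^ j := by
    intro x
    obtain ⟨j, hj⟩ := (mem_powers_iff_mem_zpowers).mpr (hb' (QuotientGroup.mk' N x))
    have hj' : x * (b ^ j)⁻¹ ∈ N := by
      rw [← QuotientGroup.eq_one_iff, QuotientGroup.mk_mul, QuotientGroup.mk_inv, QuotientGroup.mk_pow,
        mul_inv_eq_one]
      exact hj.symm
    rw [← hNa] at hj'
    obtain ⟨i, hi⟩ := Subgroup.mem_zpowers_iff.mp hj'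
    exact ⟨i, j, by rw [hi]; group⟩
  have hgen : Subgroup.closure {a, b} = ⊤ := by
    refine top_unique fun x _ => ?_
    obtain ⟨i, j, rfl⟩ := hdec x
    exact mul_mem (zpow_mem (Subgroup.subset_closure (by simp)) i)
      (pow_mem (Subgroup.subset_closure (by simp)) j)
  obtain ⟨hfree, hinv⟩ := free hX hgen hq hφ hφ1
  have hnofree : ∀ U : Subgroup X, (∀ x ∈ U, φ x ∈ U) → U ≠ ⊤ → U ≤ frattini X := fun U hU hUt x hx => by
    by_contra h
    exact hUt (hinv U hU ⟨x, hx, h⟩)
  haveI := hX.isNilpotent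
  have haΦ : a ∉ frattini X := by
    intro h
    have hb : Subgroup.zpowers b = ⊤ := by
      refine frattini_nongenerating (top_unique ?_)
      rw [← hgen, Subgroup.closure_le]
      rintro x (h' | h') <;> rw [h']
      · exact Subgroup.mem_sup_right h
      · exact Subgroup.mem_sup_left (Subgroup.mem_zpowers b)
    have hbΦ : b ∈ frattini X := by
      refine hfree b ?_
      obtain ⟨i, hi⟩ := Subgroup.mem_zpowers_iff.mp (hb.ge (Subgroup.mem_top (φ b)))
      have hqc := CfsgLib.PGroup.Frattini.quotient_pow_eq_one hX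
      rw [← QuotientGroup.eq, ← hi, QuotientGroup.mk_zpow]
      rcases Int.even_or_odd i with ⟨r, rfl⟩ | ⟨r, rfl⟩
      · exfalso
        have h1 : ((φ b : X) : X ⧸ frattini X) = 1 := by
          rw [← hi, QuotientGroup.mk_zpow, ← two_mul, zpow_mul, show (b : X ⧸ frattini X) ^ (2 : ℤ) = 1 by
            rw [show (2 : ℤ) = ((2 : ℕ) : ℤ) from rfl, zpow_natCast]; exact hqc _, one_zpow]
        have h2 : φ b ∈ frattini X := (QuotientGroup.eq_one_iff _).mp h1
        have h3 : b ∈ frattini X := by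
          have hc := (Subgroup.characteristic_iff_comap_eq.mp (inferInstance : (frattini X).Characteristic) φ).le
          exact hc h2
        have : (frattini X) = ⊤ := top_unique (hb ▸ Subgroup.zpowers_le.mpr h3)
        have h4 : (⊥ : Subgroup X) = ⊤ := frattini_nongenerating (by rw [this, sup_top_eq])
        exact hφ1 (MulEquiv.ext fun x => by
          rw [Subgroup.mem_bot.mp (h4.ge (Subgroup.mem_top x)), map_one, map_one])
      · rw [zpow_add_one, zpow_mul, show (b : X ⧸ frattini X) ^ (2 : ℤ) = 1 by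
          rw [show (2 : ℤ) = ((2 : ℕ) : ℤ) from rfl, zpow_natCast]; exact hqc _, one_zpow, one_mul]
    have h4 : (⊥ : Subgroup X) = ⊤ := frattini_nongenerating (top_unique (by
      rw [bot_sup_eq, ← hb, Subgroup.zpowers_le]; exact hbΦ))
    exact hφ1 (MulEquiv.ext fun x => by
      rw [Subgroup.mem_bot.mp (h4.ge (Subgroup.mem_top x)), map_one, map_one])
  -- exponent modulo an invariant subgroup with abelian quotient
  have hexp : ∀ W : Subgroup X, W ≤ frattini X → (∀ x y : X, ⁅x, y⁆ ∈ W) → (∀ x ∈ W, φ x ∈ W) →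
      ∃ n : ℕ, (∀ x : X, x ^ (2 ^ n) ∈ W) ∧ ∀ x : X, x ∉ frattini X → ∀ m, m < n → x ^ (2 ^ m) ∉ W := by
    intro W hW hWc hWφ
    haveI hWn : W.Normal := ⟨fun w hw g => by
      have := mul_mem (hWc g w) hw
      rwa [commutatorElement_def, inv_mul_cancel_right] at this⟩
    obtain ⟨l, hl⟩ := IsPGroup.iff_card.mp hX
    have hex : ∃ n, ∀ x : X, x ^ (2 ^ n) ∈ W := ⟨l, fun x => by rw [← hl, pow_card_eq_one']; exact one_mem W⟩
    refine ⟨Nat.find hex, Nat.find_spec hex, fun x hx m hm hxm => ?_⟩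
    refine Nat.find_min hex hm fun y => ?_
    let U : Subgroup X :=
      { carrier := {z | z ^ (2 ^ m) ∈ W}
        one_mem' := by simp
        inv_mem' := fun {z} hz => by
          show z⁻¹ ^ (2 ^ m) ∈ W
          rw [inv_pow]; exact inv_mem hz
        mul_mem' := fun {z w} hz hw => by
          show (z * w) ^ (2 ^ m) ∈ W
          rw [← QuotientGroup.eq_one_iff, QuotientGroup.mk_pow, QuotientGroup.mk_mul,
            (show Commute (z : X ⧸ W) (w : X ⧸ W) by
              rw [← commutatorElement_eq_one_iff_commute, ← QuotientGroup.mk'_apply, ← QuotientGroup.mk'_apply,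
                ← map_commutatorElement, QuotientGroup.mk'_apply, QuotientGroup.eq_one_iff]
              exact hWc z w).mul_pow,
            ← QuotientGroup.mk_pow, ← QuotientGroup.mk_pow, (QuotientGroup.eq_one_iff _).mpr hz,
            (QuotientGroup.eq_one_iff _).mpr hw, one_mul] }
    have hU : U = ⊤ := hinv U (fun z hz => by
      show φ z ^ (2 ^ m) ∈ W
      rw [← map_pow]; exact hWφ _ hz) ⟨x, hxm, hx⟩
    exact hU.ge (Subgroup.mem_top y)
  by_cases hab : ∀ x y : X, x * y = y * x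
  · -- homocyclic
    right
    obtain ⟨n, hn, hn'⟩ := hexp ⊥ bot_le
      (fun x y => Subgroup.mem_bot.mpr (commutatorElement_eq_one_iff_mul_comm.mpr (hab x y)))
      (fun x hx => by rw [Subgroup.mem_bot.mp hx, map_one]; exact one_mem _)
    simp only [Subgroup.mem_bot] at hn hn'
    have hao : orderOf a = 2 ^ n := by
      obtain ⟨m, hm, e⟩ := (Nat.dvd_prime_pow Nat.prime_two).mp (orderOf_dvd_of_pow_eq_one (hn a))
      rcases hm.lt_or_eq with h | h
      · exact absurd (by rw [← e]; exact pow_orderOf_eq_one a) (hn' a haΦ m h)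
      · rw [e, h]
    refine ⟨n, ?_⟩
    have hindep : ∀ (i : ℤ) (j : ℕ), a ^ i * b ^ j = 1 → (2 ^ n : ℤ) ∣ i ∧ 2 ^ n ∣ j := by
      intro i j hij
      have hkey : 2 ^ n ∣ j → (2 ^ n : ℤ) ∣ i := by
        rintro ⟨r, rfl⟩
        rw [pow_mul, hn, one_pow, mul_one] at hij
        have := orderOf_dvd_iff_zpow_eq_one.mpr hij
        rwa [hao, Nat.cast_pow, Nat.cast_ofNat] at this
      suffices h : 2 ^ n ∣ j from ⟨hkey h, h⟩
      by_contra hj
      -- the 2-part of `j`
      have hj0 : j ≠ 0 := by rintro rfl; exact hj (dvd_zero _)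
      obtain ⟨s, o, ho, rfl⟩ := Nat.exists_eq_pow_mul_and_not_dvd hj0 2 (by norm_num)
      have hs : s < n := by
        by_contra hs
        exact hj (Dvd.dvd.mul_right (pow_dvd_pow 2 (by omega)) o)
      have hoc : Nat.Coprime o (2 ^ n) :=
        (Nat.prime_two.coprime_iff_not_dvd.mpr ho).symm.pow_right n
      have hi : (2 ^ s : ℤ) ∣ i := by
        have h1 : a ^ (i * (2 ^ (n - s) : ℕ)) = 1 := by
          have := congrArg (fun u => u ^ (2 ^ (n - s))) hij
          simp only [one_pow] at this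
          rw [(Commute.pow_right (hab _ _ : Commute (a ^ i) b) _).mul_pow, ← pow_mul, mul_right_comm,
            ← pow_add, show s + (n - s) = n by omega, pow_mul b, hn, one_pow, mul_one,
            ← zpow_natCast, ← zpow_mul] at this
          exact this
        have h2 := orderOf_dvd_iff_zpow_eq_one.mpr h1
        rw [hao, show (2 ^ n : ℕ) = 2 ^ s * 2 ^ (n - s) by rw [← pow_add]; congr 1; omega,
          Nat.cast_mul] at h2
        have := Int.dvd_of_mul_dvd_mul_right (by positivity) h2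
        simpa using this
      obtain ⟨r, rfl⟩ := hi
      set c := a ^ r * b ^ o with hc
      have hc1 : c ^ (2 ^ s) = 1 := by
        rw [hc, Commute.mul_pow (hab (a ^ r) (b ^ o)), ← pow_mul, mul_comm o, ← zpow_natCast,
          ← zpow_mul, mul_comm r, ← hij]
        push_cast
        rfl
      have hcΦ : c ∈ frattini X := by
        by_contra h
        exact hn' c h s hs hc1
      have hacb : Subgroup.zpowers a = ⊤ := by
        refine frattini_nongenerating (top_unique ?_)
        rw [← hgen, Subgroup.closure_le]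
        rintro x (rfl | rfl)
        · exact Subgroup.mem_sup_left (Subgroup.mem_zpowers x)
        · have hbo : x ^ o ∈ Subgroup.zpowers a ⊔ frattini X := by
            have e : x ^ o = (a ^ r)⁻¹ * c := by rw [hc]; group
            rw [e]
            exact mul_mem (Subgroup.mem_sup_left (inv_mem (zpow_mem (Subgroup.mem_zpowers a) r)))
              (Subgroup.mem_sup_right hcΦ)
          obtain ⟨m, hm⟩ := exists_pow_eq_self_of_coprime (x := x)
            (hoc.coprime_dvd_right (orderOf_dvd_of_pow_eq_one (hn x)))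
          rw [SetLike.mem_coe, ← hm]
          exact pow_mem hbo m
      have hbΦ' : ∀ x : X, (x : X ⧸ frattini X) = 1 ∨ (x : X ⧸ frattini X) = a := fun x => by
        obtain ⟨u, hu⟩ := Subgroup.mem_zpowers_iff.mp (hacb.ge (Subgroup.mem_top x))
        have hsq : (a : X ⧸ frattini X) ^ (2 : ℤ) = 1 := by
          rw [show (2 : ℤ) = ((2 : ℕ) : ℤ) from rfl, zpow_natCast]
          exact CfsgLib.PGroup.Frattini.quotient_pow_eq_one hX _
        rcases Int.even_or_odd u with ⟨w, rfl⟩ | ⟨w, rfl⟩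
        · left; rw [← hu, QuotientGroup.mk_zpow, ← two_mul, zpow_mul, hsq, one_zpow]
        · right; rw [← hu, QuotientGroup.mk_zpow, zpow_add_one, zpow_mul, hsq, one_zpow, one_mul]
      rcases hbΦ' (φ a) with h | h
      · rw [QuotientGroup.eq_one_iff] at h
        exact haΦ ((Subgroup.characteristic_iff_comap_eq.mp (inferInstance : (frattini X).Characteristic) φ).le h)
      · exact haΦ (hfree a (QuotientGroup.eq.mp h.symm))
    let e : Multiplicative (ZMod (2 ^ n)) × Multiplicative (ZMod (2 ^ n)) → X :=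
      fun u => a ^ (Multiplicative.toAdd u.1).val * b ^ (Multiplicative.toAdd u.2).val
    have hval : ∀ (g : X) (u v : ZMod (2 ^ n)), g ^ (u + v).val = g ^ u.val * g ^ v.val := fun g u v => by
      rw [← pow_add, ZMod.val_add]
      exact (pow_eq_pow_mod _ (hn g)).symm
    let f : Multiplicative (ZMod (2 ^ n)) × Multiplicative (ZMod (2 ^ n)) →* X :=
      MonoidHom.mk' e fun u v => by
        show a ^ (Multiplicative.toAdd u.1 + Multiplicative.toAdd v.1).val *
          b ^ (Multiplicative.toAdd u.2 + Multiplicative.toAdd v.2).val = _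
        rw [hval, hval]
        exact Commute.mul_mul_mul_comm (hab _ _) _ _
    refine ⟨(MulEquiv.ofBijective f ⟨(injective_iff_map_eq_one f).mpr fun u hu => ?_, fun x => ?_⟩).symm⟩
    · have hu' : a ^ ((Multiplicative.toAdd u.1).val : ℤ) * b ^ (Multiplicative.toAdd u.2).val = 1 := by
        rw [zpow_natCast]; exact hu
      obtain ⟨h1, h2⟩ := hindep _ _ hu'
      have h1' : 2 ^ n ∣ (Multiplicative.toAdd u.1).val := by exact_mod_cast h1
      refine Prod.ext (Multiplicative.toAdd.injective ?_) (Multiplicative.toAdd.injective ?_)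
      · exact (ZMod.val_eq_zero _).mp (Nat.eq_zero_of_dvd_of_lt h1' (ZMod.val_lt _))
      · exact (ZMod.val_eq_zero _).mp (Nat.eq_zero_of_dvd_of_lt h2 (ZMod.val_lt _))
    · obtain ⟨i, j, rfl⟩ := hdec x
      refine ⟨(Multiplicative.ofAdd (i : ZMod (2 ^ n)), Multiplicative.ofAdd (j : ZMod (2 ^ n))), ?_⟩
      show a ^ ((i : ZMod (2 ^ n))).val * b ^ ((j : ZMod (2 ^ n))).val = _
      rw [ZMod.val_natCast, ← pow_eq_pow_mod _ (hn b)]
      congr 1
      rw [← zpow_natCast, ZMod.val_intCast, ← hao]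
      exact zpow_mod_orderOf a i
  -- the non-abelian case
  left
  push Not at hab
  haveI : IsMulCommutative (X ⧸ N) := IsCyclic.isMulCommutative
  have hC'N : ∀ x y : X, ⁅x, y⁆ ∈ N := fun x y => by
    rw [← QuotientGroup.eq_one_iff, ← QuotientGroup.mk'_apply, map_commutatorElement,
      commutatorElement_eq_one_iff_mul_comm]
    exact mul_comm' _ _
  have hmemC : ∀ x y : X, ⁅x, y⁆ ∈ commutator X := fun x y =>
    Subgroup.commutator_mem_commutator (Subgroup.mem_top x) (Subgroup.mem_top y)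
  have hC'Φ : commutator X ≤ frattini X := by
    rw [commutator_def, Subgroup.commutator_le]
    exact fun x _ y _ => CfsgLib.PGroup.Frattini.commutatorElement_mem_frattini hX x y
  have hC'le : commutator X ≤ N := by
    rw [commutator_def, Subgroup.commutator_le]
    exact fun x _ y _ => hC'N x y
  haveI hC'cyc : IsCyclic (commutator X) := Subgroup.isCyclic_of_le hC'le
  -- `φ` centralises the derived subgroup
  have hφC : ∀ x ∈ commutator X, φ x = x := by
    have hinvC : ∀ x ∈ commutator X, φ x ∈ commutator X :=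
      fun x hx => (Subgroup.characteristic_iff_comap_eq.mp (inferInstance : (commutator X).Characteristic) φ).ge hx
    have hmap : (commutator X).map φ.toMonoidHom = commutator X :=
      Subgroup.characteristic_iff_map_eq.mp inferInstance φ
    let θ : MulAut (commutator X) :=
      (Subgroup.equivMapOfInjective (commutator X) φ.toMonoidHom φ.injective).trans (MulEquiv.subgroupCongr hmap)
    have hθ : ∀ (m : ℕ) (x : commutator X), (((θ ^ m) x : commutator X) : X) = (φ ^ m) (x : X) := by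
      intro m x
      induction m with
      | zero => rfl
      | succ m ih =>
        rw [pow_succ', pow_succ', MulAut.mul_apply, MulAut.mul_apply, ← ih]
        rfl
    have hθq : θ ^ q = 1 := MulEquiv.ext fun x => Subtype.ext (by rw [hθ, hφ]; rfl)
    haveI : Finite (MulAut (commutator X)) := Finite.of_injective (fun e : MulAut _ => (e : _ → _))
      fun _ _ h => MulEquiv.ext (congrFun h)
    obtain ⟨l, hl⟩ := IsPGroup.iff_card.mp (hX.to_subgroup (commutator X))
    have h2 : orderOf θ ∣ Nat.totient (2 ^ l) := by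
      rw [← hl, ← IsCyclic.card_mulAut]; exact orderOf_dvd_natCard θ
    have h3 : θ = 1 := by
      rw [← orderOf_eq_one_iff]
      rcases (Nat.dvd_prime hqp).mp (orderOf_dvd_of_pow_eq_one hθq) with h | h
      · exact h
      · exfalso
        rw [h] at h2
        rcases Nat.eq_zero_or_pos l with rfl | hl0
        · exact hqp.ne_one (Nat.eq_one_of_dvd_one (by simpa using h2))
        · rw [Nat.totient_prime_pow Nat.prime_two hl0] at h2
          exact hq ((Nat.prime_dvd_prime_iff_eq hqp Nat.prime_two).mp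
            (hqp.dvd_of_dvd_pow (dvd_trans h2 (by norm_num : 2 ^ (l - 1) * (2 - 1) ∣ 2 ^ (l - 1)))))
    intro x hx
    have := hθ 1 ⟨x, hx⟩
    rw [pow_one, pow_one, h3] at this
    exact this.symm
  -- a generator of the derived subgroup and its squares
  obtain ⟨⟨c, hcC⟩, hcgen⟩ := hC'cyc.exists_generator
  have hcmem : ∀ x ∈ commutator X, ∃ i : ℤ, x = c ^ i := fun x hx => by
    obtain ⟨i, hi⟩ := Subgroup.mem_zpowers_iff.mp (hcgen ⟨x, hx⟩)
    exact ⟨i, by simpa using (congrArg Subtype.val hi).symm⟩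
  have hc1 : c ≠ 1 := by
    rintro rfl
    obtain ⟨x, y, hxy⟩ := hab
    obtain ⟨i, hi⟩ := hcmem _ (hmemC x y)
    exact hxy (commutatorElement_eq_one_iff_mul_comm.mp (by rw [hi, one_zpow]))
  let D := Subgroup.zpowers (c ^ 2)
  have hDc : D ≤ commutator X := Subgroup.zpowers_le.mpr (pow_mem hcC 2)
  haveI hDn : D.Normal := by
    refine ⟨fun x hx g => ?_⟩
    obtain ⟨i, rfl⟩ := Subgroup.mem_zpowers_iff.mp hx
    obtain ⟨r, hr⟩ := hcmem _ (Subgroup.Normal.conj_mem inferInstance c hcC g)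
    rw [← conj_zpow, ← conj_pow, hr, ← zpow_natCast, ← zpow_mul, ← zpow_mul]
    exact Subgroup.mem_zpowers_iff.mpr ⟨r * i, by rw [← zpow_natCast, ← zpow_mul]; ring_nf⟩
  have hcD : c ∉ D := by
    intro h
    obtain ⟨i, hi⟩ := Subgroup.mem_zpowers_iff.mp h
    rw [← zpow_natCast, ← zpow_mul] at hi
    have h1 : c ^ ((2 : ℕ) * i - 1) = 1 := by rw [zpow_sub_one, hi, mul_inv_cancel]
    have h2 := orderOf_dvd_iff_zpow_eq_one.mpr h1
    obtain ⟨l, hl⟩ := IsPGroup.iff_orderOf.mp hX c
    rcases Nat.eq_zero_or_pos l with rfl | hl0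
    · exact hc1 (orderOf_eq_one_iff.mp (by rw [hl, pow_zero]))
    · have : (2 : ℤ) ∣ 2 * i - 1 := dvd_trans (by rw [hl]; exact_mod_cast dvd_pow_self 2 hl0.ne') h2
      omega
  obtain ⟨n, hn, hn'⟩ := hexp (commutator X) hC'Φ hmemC
    (fun x hx => by rw [hφC x hx]; exact hx)
  have hn0 : n ≠ 0 := by
    rintro rfl
    exact haΦ (hC'Φ (by simpa using hn a))
  -- `a ^ (2 ^ n)` generates the derived subgroup
  obtain ⟨v, hv⟩ : ∃ v : ℤ, c = a ^ v := by
    obtain ⟨v, hv⟩ := Subgroup.mem_zpowers_iff.mp (hNa.ge (hC'le hcC))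
    exact ⟨v, hv.symm⟩
  obtain ⟨r, hr⟩ : ∃ r : ℕ, c = (a ^ 2 ^ n) ^ r := by
    obtain ⟨l, hl⟩ := IsPGroup.iff_orderOf.mp hX a
    obtain ⟨w, hw⟩ : ∃ w : ℕ, c = a ^ w := by
      obtain ⟨w, hw⟩ := (mem_powers_iff_mem_zpowers (x := a) (y := c)).mpr ⟨v, hv.symm⟩
      exact ⟨w, hw.symm⟩
    by_cases hw0 : w = 0
    · exact absurd (by rw [hw, hw0, pow_zero]) hc1
    obtain ⟨s, o, ho, rfl⟩ := Nat.exists_eq_pow_mul_and_not_dvd hw0 2 (by norm_num)
    by_cases hs : n ≤ s
    · exact ⟨2 ^ (s - n) * o, by rw [hw, ← pow_mul, ← mul_assoc, ← pow_add, Nat.add_sub_cancel' hs]⟩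
    exfalso
    refine hn' a haΦ s (by omega) ?_
    have hcop : Nat.Coprime o (orderOf (a ^ 2 ^ s)) := by
      obtain ⟨l', hl'⟩ := IsPGroup.iff_orderOf.mp hX (a ^ 2 ^ s)
      rw [hl']
      exact (Nat.prime_two.coprime_iff_not_dvd.mpr ho).symm.pow_right l'
    obtain ⟨m, hm⟩ := exists_pow_eq_self_of_coprime hcop
    rw [← hm, ← pow_mul a, ← hw]
    exact pow_mem hcC m
  have hn1 : n = 1 := by
    by_contra hne
    have hn2 : 2 ≤ n := by omega
    -- the power map modulo `D`
    have hz : ∀ u v : X ⧸ D, Commute ⁅u, v⁆ u ∧ Commute ⁅u, v⁆ v ∧ ⁅u, v⁆ * ⁅u, v⁆ = 1 := by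
      intro u v
      obtain ⟨x, rfl⟩ := QuotientGroup.mk'_surjective D u
      obtain ⟨y, rfl⟩ := QuotientGroup.mk'_surjective D v
      rw [← map_commutatorElement]
      have hsq : ∀ w ∈ commutator X, w ^ 2 ∈ D := fun w hw => by
        obtain ⟨i, rfl⟩ := hcmem w hw
        exact Subgroup.mem_zpowers_iff.mpr ⟨i, by rw [← zpow_natCast, ← zpow_mul, ← zpow_natCast, ← zpow_mul, mul_comm]⟩
      have hcomm : ∀ w ∈ commutator X, ∀ g : X, Commute (QuotientGroup.mk' D w) (QuotientGroup.mk' D g) := by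
        intro w hw g
        obtain ⟨i, rfl⟩ := hcmem w hw
        rw [map_zpow]
        refine Commute.zpow_left ?_ i
        rw [← commutatorElement_eq_one_iff_commute, ← map_commutatorElement, QuotientGroup.mk'_apply,
          QuotientGroup.eq_one_iff]
        obtain ⟨j, hj⟩ := hcmem _ (hmemC c g)
        obtain ⟨k, hk⟩ := hcmem _ (Subgroup.Normal.conj_mem inferInstance c hcC g)
        have hkk : k % 2 = 1 := by
          rcases Int.emod_two_eq_zero_or_one k with h | h
          · exfalso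
            obtain ⟨k', rfl⟩ := Int.dvd_of_emod_eq_zero h
            refine hcD ?_
            have h1 : g * c * g⁻¹ ∈ D := Subgroup.mem_zpowers_iff.mpr ⟨k', by rw [hk, ← zpow_natCast, ← zpow_mul]; rfl⟩
            have := hDn.conj_mem _ h1 g⁻¹
            simpa [mul_assoc] using this
          · exact h
        rw [show ⁅c, g⁆ = c * (g * c * g⁻¹)⁻¹ by rw [commutatorElement_def]; group, hk]
        refine Subgroup.mem_zpowers_iff.mpr ⟨(1 - k) / 2, ?_⟩
        rw [← zpow_natCast, ← zpow_mul, ← zpow_neg, ← zpow_one_add]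
        congr 1
        omega
      exact ⟨hcomm _ (hmemC x y) x, hcomm _ (hmemC x y) y,
        by rw [← pow_two, ← map_pow, QuotientGroup.mk'_apply, QuotientGroup.eq_one_iff]; exact hsq _ (hmemC x y)⟩
    obtain ⟨m, hm⟩ : ∃ m, 2 ^ n = 4 * m := ⟨2 ^ (n - 2), by
      rw [show (4 : ℕ) = 2 ^ 2 by norm_num, ← pow_add]; congr 1; omega⟩
    let f : X →* X ⧸ D := MonoidHom.mk' (fun x => (x : X ⧸ D) ^ (2 ^ n)) fun x y => by
      rw [QuotientGroup.mk_mul, hm]
      exact pow_four_mul hz _ _ m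
    have hf : ∀ x : X, f x = ((x ^ (2 ^ n) : X) : X ⧸ D) := fun x => rfl
    have hfφ : ∀ x, φ x ∈ f.ker ↔ x ∈ f.ker := fun x => by
      rw [MonoidHom.mem_ker, MonoidHom.mem_ker, hf, hf, ← map_pow, hφC _ (hn x)]
    have hker : f.ker = ⊤ := by
      refine hinv _ (fun x hx => (hfφ x).mpr hx) ⟨a⁻¹ * φ a, ?_, fun h => haΦ (hfree a h)⟩
      rw [MonoidHom.mem_ker, map_mul, map_inv, hf, hf, ← map_pow, hφC _ (hn a), inv_mul_cancel]
    refine hcD ?_
    have h1 : a ^ 2 ^ n ∈ D := (QuotientGroup.eq_one_iff _).mp (hker.ge (Subgroup.mem_top a))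
    rw [hr]
    exact pow_mem h1 r
  subst hn1
  simp only [pow_one] at hn hn' hr
  -- so `N` has index two
  have ha2 : a ^ 2 ∈ commutator X := hn a
  have hb2N : b ^ 2 ∈ N := hC'le (hn b)
  have hbN : b ∉ N := by
    intro h
    obtain ⟨x, y, hxy⟩ := hab
    have hxN : ∀ x : X, x ∈ Subgroup.zpowers a := fun x => by
      obtain ⟨i, j, rfl⟩ := hdec x
      exact mul_mem (zpow_mem (Subgroup.mem_zpowers a) i) (pow_mem (hNa.ge h) j)
    obtain ⟨i, rfl⟩ := Subgroup.mem_zpowers_iff.mp (hxN x)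
    obtain ⟨j, rfl⟩ := Subgroup.mem_zpowers_iff.mp (hxN y)
    exact hxy (Commute.zpow_zpow_self a i j).eq
  have hcard : Nat.card X = 2 * orderOf a := by
    rw [← N.card_mul_index, ← hNa, Nat.card_zpowers, hNa, mul_comm]
    congr 1
    rw [Subgroup.index_eq_card, ← orderOf_eq_card_of_forall_mem_zpowers hb']
    refine orderOf_eq_prime ?_ ?_
    · rw [← map_pow, QuotientGroup.mk'_apply, QuotientGroup.eq_one_iff]; exact hb2N
    · rwa [Ne, QuotientGroup.mk'_apply, QuotientGroup.eq_one_iff]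
  obtain ⟨k, hk⟩ := IsPGroup.iff_orderOf.mp hX a
  -- `b` inverts `a ^ 2`-many
  have hX' : Nat.card X = 2 ^ (k + 1) := by rw [hcard, hk, pow_succ, mul_comm]
  obtain ⟨u, hu⟩ : ∃ u : ℤ, b * a * b⁻¹ = a ^ u := by
    obtain ⟨u, hu⟩ := Subgroup.mem_zpowers_iff.mp (hNa.ge (Subgroup.Normal.conj_mem inferInstance a haN b))
    exact ⟨u, hu.symm⟩
  -- the derived subgroup lies in the powers of `[b, a]`
  have hT : commutator X ≤ Subgroup.zpowers (a ^ (u - 1)) := by
    haveI hTn : (Subgroup.zpowers (a ^ (u - 1))).Normal := by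
      refine ⟨fun x hx g => ?_⟩
      obtain ⟨i, rfl⟩ := Subgroup.mem_zpowers_iff.mp hx
      obtain ⟨w, hw⟩ := Subgroup.mem_zpowers_iff.mp (hNa.ge (Subgroup.Normal.conj_mem inferInstance a haN g))
      rw [← conj_zpow, ← conj_zpow, ← hw, ← zpow_mul, ← zpow_mul]
      exact Subgroup.mem_zpowers_iff.mpr ⟨i * w, by rw [← zpow_mul]; ring_nf⟩
    have hcab : Commute ((a : X) : X ⧸ Subgroup.zpowers (a ^ (u - 1))) (b : X) := by
      rw [← commutatorElement_eq_one_iff_commute, ← commutatorElement_inv, inv_eq_one,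
        ← QuotientGroup.mk'_apply, ← QuotientGroup.mk'_apply, ← map_commutatorElement,
        QuotientGroup.mk'_apply, QuotientGroup.eq_one_iff, commutatorElement_def, hu]
      exact Subgroup.mem_zpowers_iff.mpr ⟨1, by rw [zpow_one, zpow_sub_one]⟩
    rw [commutator_def, Subgroup.commutator_le]
    intro x _ y _
    rw [← QuotientGroup.eq_one_iff, ← QuotientGroup.mk'_apply, map_commutatorElement,
      commutatorElement_eq_one_iff_commute]
    obtain ⟨i, j, rfl⟩ := hdec x
    obtain ⟨i', j', rfl⟩ := hdec y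
    simp only [map_mul, map_zpow, map_pow, QuotientGroup.mk'_apply]
    refine Commute.mul_left (Commute.mul_right ?_ ?_) (Commute.mul_right ?_ ?_)
    · exact Commute.zpow_zpow_self _ _ _
    · exact (hcab.zpow_left i).pow_right j'
    · exact (hcab.symm.pow_left j).zpow_right i'
    · exact Commute.pow_pow_self _ _ _
  have hk2 : 2 ≤ k := by
    by_contra h
    refine hc1 ?_
    have h2 : a ^ 2 = 1 := by
      rw [← orderOf_dvd_iff_pow_eq_one, hk]
      exact dvd_trans (pow_dvd_pow 2 (by omega : k ≤ 1)) (by norm_num)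
    rw [hr, h2, one_pow]
  obtain ⟨w, hw⟩ := Subgroup.mem_zpowers_iff.mp (hT ha2)
  have hdvd : (2 ^ k : ℤ) ∣ (u - 1) * w - 2 := by
    have h1 : a ^ ((u - 1) * w - 2) = 1 := by
      rw [zpow_sub, zpow_mul, hw, show (2 : ℤ) = ((2 : ℕ) : ℤ) from rfl, zpow_natCast, mul_inv_cancel]
    have h2 := orderOf_dvd_iff_zpow_eq_one.mpr h1
    rwa [hk, Nat.cast_pow, Nat.cast_ofNat] at h2
  -- fixed powers of `a`
  have hfix : ∀ x ∈ N, b * x * b⁻¹ = x → x * x = 1 := by
    intro x hx hbx
    obtain ⟨i, rfl⟩ := Subgroup.mem_zpowers_iff.mp (hNa.ge hx)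
    rw [← conj_zpow, hu, ← zpow_mul] at hbx
    have h1 : a ^ ((u - 1) * i) = 1 := by rw [sub_mul, one_mul, zpow_sub, hbx, mul_inv_cancel]
    have h2 := orderOf_dvd_iff_zpow_eq_one.mpr h1
    rw [hk, Nat.cast_pow, Nat.cast_ofNat] at h2
    rw [← zpow_add, ← orderOf_dvd_iff_zpow_eq_one, hk, Nat.cast_pow, Nat.cast_ofNat]
    have h3 : (2 ^ k : ℤ) ∣ ((u - 1) * i) * w - i * ((u - 1) * w - 2) :=
      dvd_sub (h2.mul_right w) (hdvd.mul_left i)
    convert h3 using 1
    ring
  -- elements outside `N` have order at most four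
  have hout : ∀ x : X, x ∉ N → x ^ 4 = 1 := by
    intro x hx
    obtain ⟨i, j, rfl⟩ := hdec x
    have hj : ∃ i' : ℤ, a ^ i * b ^ j = a ^ i' * b := by
      rcases Nat.even_or_odd' j with ⟨t, rfl | rfl⟩
      · exact absurd (N.mul_mem (zpow_mem haN i) (by rw [pow_mul]; exact pow_mem hb2N t)) hx
      · obtain ⟨d, hd⟩ := Subgroup.mem_zpowers_iff.mp (hNa.ge (pow_mem hb2N t))
        exact ⟨i + d, by rw [pow_succ, pow_mul, ← hd, ← mul_assoc, ← zpow_add]⟩
    obtain ⟨i', hi'⟩ := hj
    rw [hi']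
    set y := a ^ i' * b with hy
    have hyN : y ^ 2 ∈ N := hC'le (hn y)
    have hyfix : b * y ^ 2 * b⁻¹ = y ^ 2 := by
      have hcomm : Commute (a ^ i') (y ^ 2) := by
        obtain ⟨d, hd⟩ := Subgroup.mem_zpowers_iff.mp (hNa.ge hyN)
        rw [← hd]
        exact Commute.zpow_zpow_self a i' d
      have hb' : b = (a ^ i')⁻¹ * y := by rw [hy, inv_mul_cancel_left]
      rw [hb']
      have h5 : y * y ^ 2 = y ^ 2 * y := by rw [pow_two]; group
      calc (a ^ i')⁻¹ * y * y ^ 2 * ((a ^ i')⁻¹ * y)⁻¹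
          = (a ^ i')⁻¹ * (y * y ^ 2) * y⁻¹ * a ^ i' := by group
        _ = (a ^ i')⁻¹ * y ^ 2 * a ^ i' := by rw [h5]; group
        _ = y ^ 2 := by rw [hcomm.inv_left.eq, inv_mul_cancel_right]
    have := hfix _ hyN hyfix
    rwa [← pow_add] at this
  -- so the order is eight
  have hk' : k = 2 := by
    by_contra hne
    have h8 : ¬ a ^ 4 = 1 := by
      rw [← orderOf_dvd_iff_pow_eq_one, hk, show (4 : ℕ) = 2 ^ 2 by norm_num, Nat.pow_dvd_pow_iff_le_right (by norm_num)]
      omega
    have haN' : φ a ∈ N := by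
      by_contra h
      exact h8 (φ.injective (by rw [map_pow, map_one]; exact hout _ h))
    have : N = ⊤ := by
      refine hinv N (fun x hx => ?_) ⟨a, haN, haΦ⟩
      obtain ⟨i, rfl⟩ := Subgroup.mem_zpowers_iff.mp (hNa.ge hx)
      rw [map_zpow]
      exact zpow_mem haN' i
    exact hbN (this ▸ Subgroup.mem_top b)
  subst hk'
  have hao : orderOf a = 4 := by rw [hk]; norm_num
  have hb' : φ a ∉ N := by
    intro h
    have : N = ⊤ := by
      refine hinv N (fun x hx => ?_) ⟨a, haN, haΦ⟩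
      obtain ⟨i, rfl⟩ := Subgroup.mem_zpowers_iff.mp (hNa.ge hx)
      rw [map_zpow]
      exact zpow_mem h i
    exact hbN (this ▸ Subgroup.mem_top b)
  refine CfsgLib.TwoGroups.CyclicMax.quaternion_iso (m := 2) (a := a) (b := φ a) two_ne_zero hao
    (by rw [hX']; norm_num) (by rwa [hNa]) ?_ ?_
  · rw [← pow_two, ← map_pow, hφC _ ha2]
  · obtain ⟨d, hd⟩ := Subgroup.mem_zpowers_iff.mp (hNa.ge (Subgroup.Normal.conj_mem inferInstance a haN (φ a)))
    rw [← hd]
    have hd0 : ((d % 4) : ℤ) = 3 := by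
      have hmod : ∀ e : ℤ, a ^ e = a ^ (e % 4) := fun e => by
        rw [← zpow_mod_orderOf a e, hao]; norm_num
      have hsq : a ^ (2 * d) = a ^ (2 : ℤ) := by
        rw [mul_comm, zpow_mul, hd, show (2 : ℤ) = ((2 : ℕ) : ℤ) from rfl, zpow_natCast, conj_pow, zpow_natCast]
        have : φ a * a ^ 2 = a ^ 2 * φ a := by
          have h6 : φ a * φ (a ^ 2) = φ (a ^ 2) * φ a := by rw [← map_mul, ← map_mul, (Commute.self_pow a 2).eq]
          rwa [hφC _ ha2] at h6
        rw [this, mul_inv_cancel_right]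
      have h4 : (4 : ℤ) ∣ 2 * d - 2 := by
        have h1 : a ^ (2 * d - 2) = 1 := by rw [zpow_sub, hsq, mul_inv_cancel]
        have h2 := orderOf_dvd_iff_zpow_eq_one.mpr h1
        rwa [hao] at h2
      rcases (show d % 4 = 1 ∨ d % 4 = 3 by omega) with h | h
      · exfalso
        have hcomm : Commute (φ a) a := by
          have := hd.symm
          rw [hmod d, h, zpow_one] at this
          exact mul_inv_eq_iff_eq_mul.mp this
        obtain ⟨x, y, hxy⟩ := hab
        have hall : ∀ x : X, ∃ i j : ℤ, x = a ^ i * φ a ^ j := by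
          intro x
          have hi2 : N.index = 2 := by
            rw [← hNa]; exact CfsgLib.TwoGroups.CyclicMax.index_zpowers (k := 2) hX' (by rw [hao]; norm_num)
          by_cases hx : x ∈ N
          · obtain ⟨i, hi⟩ := Subgroup.mem_zpowers_iff.mp (hNa.ge hx)
            exact ⟨i, 0, by rw [zpow_zero, mul_one, hi]⟩
          · have hxb : x * φ a ∈ N :=
              (Subgroup.mul_mem_iff_of_index_two hi2).mpr (iff_of_false hx hb')
            obtain ⟨i, hi⟩ := Subgroup.mem_zpowers_iff.mp (hNa.ge hxb)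
            exact ⟨i, -1, by rw [hi, zpow_neg_one, mul_inv_cancel_right]⟩
        obtain ⟨i, j, rfl⟩ := hall x
        obtain ⟨i', j', rfl⟩ := hall y
        exact hxy (Commute.mul_left (Commute.mul_right (Commute.zpow_zpow_self _ _ _) (hcomm.symm.zpow_zpow _ _))
          (Commute.mul_right (hcomm.zpow_zpow _ _) (Commute.zpow_zpow_self _ _ _))).eq
      · exact h
    rw [← zpow_mod_orderOf a d, hao, show ((4 : ℕ) : ℤ) = 4 from rfl, hd0,
      eq_inv_iff_mul_eq_one, ← zpow_add_one, show (3 : ℤ) + 1 = ((4 : ℕ) : ℤ) from rfl, zpow_natCast, ← hao,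
      pow_orderOf_eq_one]

end CfsgLib.Frobenius.MetacyclicTwo
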