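import Mathlib

/-!
Elements of prime-power order generate: a subgroup containing the relevant primary parts of `y`
contains `y`.  Trivial-intersection Sylow subgroups.
-/

set_option autoImplicit false

open scoped Pointwise

namespace CfsgLib.Frobenius.Elements

variable {G : Type*} [Group G]

/-- If `H` contains every power of `y` of prime-power order, then it contains `y`. -/
theorem mem_of_primary [Finite G] {H : Subgroup G} {y : G}
    (h : ∀ z ∈ Subgroup.zpowers y, (∃ q b : ℕ, q.Prime ∧ q ∣ orderOf y ∧ orderOf z = q ^ b) →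
      z ∈ H) : y ∈ H := by
  suffices ∀ n, ∀ w ∈ Subgroup.zpowers y, orderOf w = n → w ∈ H from
    this _ y (Subgroup.mem_zpowers y) rfl
  intro n
  induction n using Nat.recOnPrimeCoprime with
  | zero => exact fun w _ hw => absurd hw (orderOf_pos w).ne'
  | prime_pow q b hq =>
    intro w hwy hw
    rcases Nat.eq_zero_or_pos b with hb | hb
    · rw [hb, pow_zero, orderOf_eq_one_iff] at hw; exact hw ▸ H.one_mem
    · refine h w hwy ⟨q, b, hq, ?_, hw⟩
      exact ((dvd_pow_self q hb.ne').trans (hw ▸ dvd_rfl)).trans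
        (orderOf_dvd_of_mem_zpowers hwy)
  | coprime a b ha hb hab iha ihb =>
    intro w hwy hw
    have h1 : w ^ a ∈ H := ihb _ (pow_mem hwy _) (by
      rw [orderOf_pow, hw, Nat.gcd_eq_right (dvd_mul_right a b),
        Nat.mul_div_cancel_left _ (by omega)])
    have h2 : w ^ b ∈ H := iha _ (pow_mem hwy _) (by
      rw [orderOf_pow, hw, Nat.gcd_eq_right (dvd_mul_left b a),
        Nat.mul_div_cancel _ (by omega)])
    have e := Nat.gcd_eq_gcd_ab a b
    rw [hab] at e
    have : w ^ ((1 : ℕ) : ℤ) ∈ H := by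
      rw [e, zpow_add, zpow_mul, zpow_mul, zpow_natCast, zpow_natCast]
      exact mul_mem (zpow_mem h1 _) (zpow_mem h2 _)
    simpa using this

/-- In a finite group with trivially intersecting Sylow `p`-subgroups (normalizer form) two Sylow
`p`-subgroups containing a common non-identity element coincide. -/
theorem sylow_eq_of_mem [Finite G] {p : ℕ} [Fact p.Prime] (P : Sylow p G)
    (hTI : ∀ g : G, g ∉ Subgroup.normalizer ((P : Subgroup G) : Set G) →
      (P : Subgroup G) ⊓ (MulAut.conj g • (P : Subgroup G)) = ⊥)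
    {A B : Sylow p G} {x : G} (hxA : x ∈ (A : Subgroup G)) (hxB : x ∈ (B : Subgroup G))
    (hx : x ≠ 1) : A = B := by
  obtain ⟨a, rfl⟩ := MulAction.exists_smul_eq G P A
  obtain ⟨b, rfl⟩ := MulAction.exists_smul_eq G P B
  rw [Sylow.coe_subgroup_smul, Subgroup.mem_pointwise_smul_iff_inv_smul_mem] at hxA hxB
  have hmem : a⁻¹ * b ∈ Subgroup.normalizer ((P : Subgroup G) : Set G) := by
    by_contra hn
    have h := hTI _ hn
    have hy : a⁻¹ * x * a ∈ (P : Subgroup G) ⊓ MulAut.conj (a⁻¹ * b) • (P : Subgroup G) := by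
      refine ⟨by simp at hxA; exact hxA, ?_⟩
      refine Subgroup.mem_pointwise_smul_iff_inv_smul_mem.mpr ?_
      simp [mul_assoc] at hxB ⊢; exact hxB
    rw [h, Subgroup.mem_bot] at hy
    exact hx (by
      have := congrArg (fun z => a * z * a⁻¹) hy
      simpa [mul_assoc] using this)
  replace hmem : (a⁻¹ * b) • P = P := Sylow.smul_eq_iff_mem_normalizer.mpr hmem
  rw [mul_smul, inv_smul_eq_iff] at hmem
  exact hmem.symm

end CfsgLib.Frobenius.Elements
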