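import Mathlib
import Cfsg.Agent.Lib.PGroup.Basic

/-!
Abelian subgroups of index `p`.
-/

set_option autoImplicit false

universe u

open scoped commutatorElement

namespace CfsgLib.Frobenius.IndexP

variable {S : Type u} [Group S] [Finite S] {p : ℕ} [hp : Fact p.Prime]

theorem normal_of_index (hS : IsPGroup p S) {A : Subgroup S} (hA : A.index = p) : A.Normal := by
  refine A.normal_of_index_eq_minFac_card ?_
  obtain ⟨n, hn⟩ := IsPGroup.iff_card.mp hS
  rcases n with _ | n
  · have := A.index_dvd_card
    rw [hA, hn, pow_zero, Nat.dvd_one] at this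
    exact absurd this hp.out.ne_one
  · rw [hn, Nat.pow_minFac (Nat.succ_ne_zero n), hp.out.minFac_eq, hA]

theorem eq_top_of_le {A M : Subgroup S} (hA : A.index = p) (hAM : A ≤ M) {x : S} (hxM : x ∈ M)
    (hxA : x ∉ A) : M = ⊤ := by
  rcases (Nat.dvd_prime hp.out).mp (hA ▸ Subgroup.index_dvd_of_le hAM) with h | h
  · exact Subgroup.index_eq_one.mp h
  · have h1 := Subgroup.relIndex_mul_index hAM
    rw [h, hA] at h1
    have h2 : A.relIndex M = 1 := Nat.eq_of_mul_eq_mul_right hp.out.pos (by rw [h1, one_mul])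
    exact absurd (Subgroup.relIndex_eq_one.mp h2 hxM) hxA

/-- A normal subgroup of order `p` is central. -/
theorem le_center_of_card (hS : IsPGroup p S) {Z : Subgroup S} [Z.Normal] (hZ : Nat.card Z = p) :
    Z ≤ Subgroup.center S := by
  classical
  intro z hz
  rcases eq_or_ne z 1 with rfl | hz1
  · exact one_mem _
  have hsub : {y : S | IsConj z y} ⊆ (Z : Set S) \ {1} := by
    intro y hy
    obtain ⟨c, rfl⟩ := isConj_iff.mp hy
    refine ⟨Subgroup.Normal.conj_mem inferInstance z hz c, fun h => hz1 ?_⟩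
    simpa using h
  have hlt : Nat.card {y : S // IsConj z y} < p := by
    refine lt_of_le_of_lt (Nat.card_mono (Set.toFinite _) hsub) ?_
    rw [Nat.card_coe_set_eq, Set.ncard_diff (by simp : ({1} : Set S) ⊆ Z), Set.ncard_singleton,
      ← Nat.card_coe_set_eq, SetLike.coe_sort_coe, hZ]
    have := hp.out.pos; omega
  rw [CfsgLib.PGroup.Basic.conj_card_eq_index] at hlt
  obtain ⟨k, hk⟩ := hS.index (Subgroup.centralizer ({z} : Set S))
  rcases k with _ | k
  · refine Subgroup.mem_center_iff.mpr fun g => ?_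
    have h : Subgroup.centralizer ({z} : Set S) = ⊤ := Subgroup.index_eq_one.mp (by rw [hk, pow_zero])
    exact Subgroup.mem_centralizer_singleton_iff.mp (h ▸ Subgroup.mem_top g : g ∈ Subgroup.centralizer ({z} : Set S))
  · rw [hk] at hlt
    exact absurd (Nat.le_self_pow (Nat.succ_ne_zero k) p) (not_le.mpr hlt)

/-- An abelian subgroup of index `p` in a nonabelian group contains the centre. -/
theorem center_le (hna : ¬ IsMulCommutative S) {A : Subgroup S} (hA : IsMulCommutative A)
    (hAi : A.index = p) : Subgroup.center S ≤ A := by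
  intro z hz
  by_contra hzA
  apply hna
  have hAz : A ≤ Subgroup.centralizer (A : Set S) := Subgroup.le_centralizer_iff_isMulCommutative.mpr hA
  have h1 : Subgroup.centralizer (A : Set S) = ⊤ :=
    eq_top_of_le hAi hAz (Subgroup.center_le_centralizer _ hz) hzA
  have h2 : A ≤ Subgroup.center S := fun a ha => Subgroup.mem_center_iff.mpr fun g =>
    (Subgroup.mem_centralizer_iff.mp (h1 ▸ Subgroup.mem_top g : g ∈ Subgroup.centralizer (A : Set S)) a ha).symm
  have h3 : Subgroup.center S = ⊤ := eq_top_of_le hAi h2 hz hzA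
  exact ⟨⟨fun a b => (Subgroup.mem_center_iff.mp (h3 ▸ Subgroup.mem_top a : a ∈ Subgroup.center S) b).symm⟩⟩

/-- `|S : Z(S)| = p |S'|`. -/
theorem index_center (hS : IsPGroup p S) (hna : ¬ IsMulCommutative S) {A : Subgroup S}
    (hA : IsMulCommutative A) (hAi : A.index = p) :
    (Subgroup.center S).index = p * Nat.card (commutator S) := by
  haveI := normal_of_index hS hAi
  have hAcomm : ∀ a ∈ A, ∀ b ∈ A, a * b = b * a := fun a ha b hb =>
    congrArg Subtype.val (hA.is_comm.comm ⟨a, ha⟩ ⟨b, hb⟩)
  obtain ⟨x, hx⟩ : ∃ x, x ∉ A := by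
    by_contra h
    push Not at h
    rw [(Subgroup.eq_top_iff' A).mpr h, Subgroup.index_top] at hAi
    exact hp.out.ne_one hAi.symm
  have hmem : ∀ a ∈ A, ⁅a, x⁆ ∈ A := fun a ha => by
    rw [show ⁅a, x⁆ = a * (x * a⁻¹ * x⁻¹) by rw [commutatorElement_def]; group]
    exact mul_mem ha (Subgroup.Normal.conj_mem inferInstance _ (inv_mem ha) x)
  let f : A →* A :=
    { toFun := fun a => ⟨⁅(a : S), x⁆, hmem _ a.2⟩
      map_one' := Subtype.ext (commutatorElement_one_left x)
      map_mul' := fun a b => Subtype.ext (by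
        show ⁅(a : S) * b, x⁆ = ⁅(a : S), x⁆ * ⁅(b : S), x⁆
        rw [hAcomm _ (hmem _ a.2) _ (hmem _ b.2)]
        have h : (a : S) * ⁅(b : S), x⁆ * (a : S)⁻¹ = ⁅(b : S), x⁆ := by
          rw [hAcomm _ a.2 _ (hmem _ b.2), mul_inv_cancel_right]
        calc ⁅(a : S) * b, x⁆ = ((a : S) * ⁅(b : S), x⁆ * (a : S)⁻¹) * ⁅(a : S), x⁆ := by
              simp only [commutatorElement_def]; group
          _ = _ := by rw [h]) }
  have hgen : Subgroup.closure ((A : Set S) ∪ {x}) = ⊤ :=
    eq_top_of_le hAi (fun a ha => Subgroup.subset_closure (Or.inl ha)) (Subgroup.subset_closure (Or.inr rfl)) hx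
  -- kernel
  have hker : f.ker = (Subgroup.center S).subgroupOf A := by
    ext a
    rw [MonoidHom.mem_ker, Subgroup.mem_subgroupOf]
    constructor
    · intro h
      have h' : ⁅(a : S), x⁆ = 1 := congrArg Subtype.val h
      rw [commutatorElement_eq_one_iff_mul_comm] at h'
      refine Subgroup.mem_center_iff.mpr fun g => ?_
      have hg : g ∈ Subgroup.centralizer ({(a : S)} : Set S) := by
        have hle : Subgroup.closure ((A : Set S) ∪ {x}) ≤ Subgroup.centralizer ({(a : S)} : Set S) := by
          rw [Subgroup.closure_le]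
          rintro y (hy | rfl)
          · exact Subgroup.mem_centralizer_singleton_iff.mpr (hAcomm _ hy _ a.2)
          · exact Subgroup.mem_centralizer_singleton_iff.mpr h'.symm
        exact hle (hgen ▸ Subgroup.mem_top g)
      exact Subgroup.mem_centralizer_singleton_iff.mp hg
    · intro h
      exact Subtype.ext (commutatorElement_eq_one_iff_mul_comm.mpr ((Subgroup.mem_center_iff.mp h x).symm))
  -- range
  set I : Subgroup S := f.range.map A.subtype with hI
  have hIA : I ≤ A := Subgroup.map_subtype_le _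
  have hIn : I.Normal := by
    have hle : Subgroup.closure ((A : Set S) ∪ {x}) ≤ Subgroup.normalizer (I : Set S) := by
      rw [Subgroup.closure_le]
      rintro y hy
      rw [SetLike.mem_coe, Subgroup.mem_normalizer_iff]
      suffices hconj : ∀ i ∈ I, y * i * y⁻¹ ∈ I by
        intro i
        refine ⟨hconj i, fun hi => ?_⟩
        have hfin : ∀ n : ℕ, ∀ j ∈ I, y ^ n * j * (y ^ n)⁻¹ ∈ I := by
          intro n
          induction n with
          | zero => intro j hj; simpa using hj
          | succ n ih =>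
            intro j hj
            rw [pow_succ', mul_inv_rev, show y * y ^ n * j * ((y ^ n)⁻¹ * y⁻¹) = y * (y ^ n * j * (y ^ n)⁻¹) * y⁻¹ by group]
            exact hconj _ (ih j hj)
        have h := hfin (orderOf y - 1) _ hi
        have hinv : y ^ (orderOf y - 1) = y⁻¹ := by
          rw [eq_inv_iff_mul_eq_one, ← pow_succ, Nat.sub_add_cancel (orderOf_pos y), pow_orderOf_eq_one]
        rwa [hinv, show y⁻¹ * (y * i * y⁻¹) * y⁻¹⁻¹ = i by group] at h
      rintro _ ⟨_, ⟨a, rfl⟩, rfl⟩
      rcases hy with hy | rfl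
      · refine ⟨f a, ⟨a, rfl⟩, ?_⟩
        show ⁅(a : S), x⁆ = y * ⁅(a : S), x⁆ * y⁻¹
        rw [hAcomm _ hy _ (hmem _ a.2), mul_inv_cancel_right]
      · refine ⟨f ⟨y * a * y⁻¹, Subgroup.Normal.conj_mem inferInstance _ a.2 y⟩, ⟨_, rfl⟩, ?_⟩
        show ⁅y * (a : S) * y⁻¹, y⁆ = y * ⁅(a : S), y⁆ * y⁻¹
        simp only [commutatorElement_def]; group
    exact Subgroup.normalizer_eq_top_iff.mp (top_le_iff.mp (hgen ▸ hle))
  have hIeq : commutator S = I := by
    refine le_antisymm ?_ ?_
    · let q := QuotientGroup.mk' I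
      rw [← QuotientGroup.ker_mk' I]
      have hq : ∀ a ∈ A, q a * q x = q x * q a := fun a ha => by
        rw [← commutatorElement_eq_one_iff_mul_comm, ← map_commutatorElement, QuotientGroup.mk'_apply,
          QuotientGroup.eq_one_iff]
        exact ⟨f ⟨a, ha⟩, ⟨_, rfl⟩, rfl⟩
      rw [commutator_def, Subgroup.commutator_le]
      intro g _ h _
      rw [MonoidHom.mem_ker, map_commutatorElement, commutatorElement_eq_one_iff_mul_comm]
      have h1 : ∀ y ∈ (A : Set S) ∪ {x}, ∀ z ∈ (A : Set S) ∪ {x}, q y * q z = q z * q y := by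
        rintro y (hy | rfl) z (hz | rfl)
        · rw [← map_mul, hAcomm y hy z hz, map_mul]
        · exact hq y hy
        · exact (hq z hz).symm
        · rfl
      have h2 : ∀ y ∈ (A : Set S) ∪ {x}, ∀ h : S, q y * q h = q h * q y := fun y hy h => by
        have hle : Subgroup.closure ((A : Set S) ∪ {x}) ≤ (Subgroup.centralizer ({q y} : Set (S ⧸ I))).comap q := by
          rw [Subgroup.closure_le]
          exact fun z hz => Subgroup.mem_centralizer_singleton_iff.mpr (h1 z hz y hy)
        exact (Subgroup.mem_centralizer_singleton_iff.mp (hle (hgen ▸ Subgroup.mem_top h))).symm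
      have hle : Subgroup.closure ((A : Set S) ∪ {x}) ≤ (Subgroup.centralizer ({q h} : Set (S ⧸ I))).comap q := by
        rw [Subgroup.closure_le]
        exact fun z hz => Subgroup.mem_centralizer_singleton_iff.mpr (h2 z hz h)
      exact Subgroup.mem_centralizer_singleton_iff.mp (hle (hgen ▸ Subgroup.mem_top g))
    · rintro _ ⟨_, ⟨a, rfl⟩, rfl⟩
      exact Subgroup.commutator_mem_commutator (Subgroup.mem_top _) (Subgroup.mem_top _)
  have h1 : Nat.card f.ker * Nat.card f.range = Nat.card A := by
    rw [← Subgroup.index_ker f]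
    exact Subgroup.card_mul_index f.ker
  have h2 : Nat.card f.ker = Nat.card (Subgroup.center S) := by
    rw [hker]
    exact Nat.card_congr (Subgroup.subgroupOfEquivOfLe (center_le hna hA hAi)).toEquiv
  have h3 : Nat.card f.range = Nat.card (commutator S) := by
    rw [hIeq, Subgroup.card_map_of_injective A.subtype_injective]
  have h4 := A.card_mul_index
  rw [← h1, h2, h3, hAi, ← Subgroup.card_mul_index (Subgroup.center S), mul_assoc] at h4
  rw [← Nat.eq_of_mul_eq_mul_left Nat.card_pos h4, mul_comm]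

/-- Two abelian subgroups of index `p` force a centre of index `p ^ 2`. -/
theorem index_center_of_two (hS : IsPGroup p S) (hna : ¬ IsMulCommutative S) {A B : Subgroup S}
    (hA : IsMulCommutative A) (hAi : A.index = p) (hB : IsMulCommutative B) (hBi : B.index = p)
    (hne : B ≠ A) : (Subgroup.center S).index = p ^ 2 := by
  obtain ⟨y, hyB, hyA⟩ : ∃ y ∈ B, y ∉ A := by
    by_contra h
    push Not at h
    refine hne (Subgroup.eq_of_le_of_card_ge h ?_)
    have e1 := A.card_mul_index
    have e2 := B.card_mul_index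
    rw [hAi] at e1; rw [hBi, ← e1] at e2
    exact (Nat.eq_of_mul_eq_mul_right hp.out.pos e2).ge
  have hcen : A ⊓ B = Subgroup.center S := by
    refine le_antisymm (fun z hz => Subgroup.mem_center_iff.mpr fun g => ?_)
      (le_inf (center_le hna hA hAi) (center_le hna hB hBi))
    have h : Subgroup.centralizer ({z} : Set S) = ⊤ := eq_top_of_le hAi
      (fun a ha => Subgroup.mem_centralizer_singleton_iff.mpr (congrArg Subtype.val (hA.is_comm.comm ⟨a, ha⟩ ⟨z, hz.1⟩)))
      (Subgroup.mem_centralizer_singleton_iff.mpr (congrArg Subtype.val (hB.is_comm.comm ⟨y, hyB⟩ ⟨z, hz.2⟩))) hyA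
    exact Subgroup.mem_centralizer_singleton_iff.mp (h ▸ Subgroup.mem_top g : g ∈ Subgroup.centralizer ({z} : Set S))
  haveI := normal_of_index hS hAi
  have h1 : A.relIndex B = p := by
    rcases (Nat.dvd_prime hp.out).mp (hAi ▸ Subgroup.relIndex_dvd_index_of_normal A B) with h | h
    · exact absurd (Subgroup.relIndex_eq_one.mp h hyB) hyA
    · exact h
  rw [← hcen, ← Subgroup.relIndex_mul_index (inf_le_right : A ⊓ B ≤ B), Subgroup.inf_relIndex_right, h1, hBi, sq]

end CfsgLib.Frobenius.IndexP
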