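import Mathlib

/-!
Schur's theorem on permutation groups with a regular cyclic subgroup of order `p^m`, `m ≥ 2`:
if such a group is not doubly transitive then a proper nontrivial subgroup of the cyclic group
gives an invariant partition.
-/

set_option autoImplicit false

namespace CfsgLib.Frobenius.SchurCyclic

open Finset

variable {n : ℕ} [NeZero n] (G : Subgroup (Equiv.Perm (ZMod n)))

/-- `T` is the neighbourhood of `0` in a `G`-invariant relation commuting with translations. -/
def Inv (T : Finset (ZMod n)) : Prop :=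
  ∀ σ ∈ G, ∀ a b : ZMod n, b - a ∈ T → σ b - σ a ∈ T

open Classical in
/-- The suborbit of `x`. -/
noncomputable def orb (x : ZMod n) : Finset (ZMod n) :=
  univ.filter fun b => ∃ σ ∈ G, σ 0 = 0 ∧ σ x = b

variable {G}

theorem mem_orb {x b : ZMod n} : b ∈ orb G x ↔ ∃ σ ∈ G, σ 0 = 0 ∧ σ x = b := by
  simp [orb]

theorem self_mem_orb (x : ZMod n) : x ∈ orb G x := mem_orb.2 ⟨1, one_mem _, rfl, rfl⟩

theorem orb_subset {x : ZMod n} {T : Finset (ZMod n)} (hT : Inv G T) (hx : x ∈ T) : orb G x ⊆ T := by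
  intro b hb
  obtain ⟨σ, hσ, h0, rfl⟩ := mem_orb.1 hb
  simpa [h0] using hT σ hσ 0 x (by simpa using hx)

theorem zero_not_mem_orb {x : ZMod n} (hx : x ≠ 0) : (0 : ZMod n) ∉ orb G x := by
  intro h
  obtain ⟨σ, -, h0, h1⟩ := mem_orb.1 h
  exact hx (σ.injective (h1.trans h0.symm))

variable (htr : ∀ a : ZMod n, Equiv.addRight a ∈ G)
include htr

theorem inv_orb (x : ZMod n) : Inv G (orb G x) := by
  intro σ hσ a b hab
  obtain ⟨τ, hτ, h0, h1⟩ := mem_orb.1 hab
  refine mem_orb.2 ⟨Equiv.addRight (-(σ a)) * σ * Equiv.addRight a * τ,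
    mul_mem (mul_mem (mul_mem (htr _) hσ) (htr _)) hτ, ?_, ?_⟩
  · simp [h0]
  · simp [h1, sub_eq_add_neg]

theorem orb_eq_of_mem {x y : ZMod n} (h : y ∈ orb G x) : orb G y = orb G x := by
  refine Finset.Subset.antisymm (orb_subset (inv_orb htr x) h) ?_
  obtain ⟨σ, hσ, h0, h1⟩ := mem_orb.1 h
  refine orb_subset (inv_orb htr y) (mem_orb.2 ⟨σ⁻¹, inv_mem hσ, ?_, ?_⟩)
  · rw [Equiv.Perm.inv_eq_iff_eq]; exact h0.symm
  · rw [Equiv.Perm.inv_eq_iff_eq]; exact h1.symm

omit htr

/-- Translation matrices. -/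
def transMat (n q : ℕ) [NeZero n] : Multiplicative (ZMod n) →* Matrix (ZMod n) (ZMod n) (ZMod q) where
  toFun t := Matrix.of fun a b => if b = a + t.toAdd then 1 else 0
  map_one' := by ext a b; simp [Matrix.one_apply, eq_comm]
  map_mul' s t := by
    ext a b
    rw [Matrix.mul_apply, Finset.sum_eq_single (a + s.toAdd)]
    · simp [add_assoc]
    · intro c _ hc; simp [hc]
    · simp

/-- Multiplication by a prime not dividing `n` preserves invariance (Schur). -/
theorem inv_image_prime {T : Finset (ZMod n)} (hT : Inv G T) {q : ℕ} (hq : q.Prime)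
    (hqn : q.Coprime n) : Inv G (T.image fun x => (q : ZMod n) * x) := by
  classical
  haveI : Fact q.Prime := ⟨hq⟩
  haveI : CharP (AddMonoidAlgebra (ZMod q) (ZMod n)) q := charP_of_injective_algebraMap
    (algebraMap (ZMod q) (AddMonoidAlgebra (ZMod q) (ZMod n))).injective q
  let ψ := AddMonoidAlgebra.lift (ZMod q) (Matrix (ZMod n) (ZMod n) (ZMod q)) (ZMod n) (transMat n q)
  let f : AddMonoidAlgebra (ZMod q) (ZMod n) := ∑ t ∈ T, AddMonoidAlgebra.single t 1
  have hψ : ∀ t : ZMod n, ψ (AddMonoidAlgebra.single t 1) = transMat n q (Multiplicative.ofAdd t) := by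
    intro t; simp [ψ]
  have hf : f ^ q = ∑ t ∈ T, AddMonoidAlgebra.single ((q : ZMod n) * t) 1 := by
    rw [sum_pow_char]
    refine Finset.sum_congr rfl fun t _ => ?_
    rw [AddMonoidAlgebra.single_pow, one_pow, nsmul_eq_mul]
  set A := ψ f with hA
  have hAab : ∀ a b, A a b = if b - a ∈ T then 1 else 0 := by
    intro a b
    simp only [hA, f, map_sum, hψ, Matrix.sum_apply, transMat, MonoidHom.coe_mk, OneHom.coe_mk,
      Matrix.of_apply, toAdd_ofAdd]
    simp only [← sub_eq_iff_eq_add' (a := b), Finset.sum_ite_eq]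
  have hqu : IsUnit (q : ZMod n) := (ZMod.isUnit_iff_coprime q n).2 hqn
  have hAq : ∀ a b, (A ^ q) a b = if b - a ∈ T.image (fun x => (q : ZMod n) * x) then 1 else 0 := by
    intro a b
    rw [hA, ← map_pow, hf]
    simp only [map_sum, hψ, Matrix.sum_apply, transMat, MonoidHom.coe_mk, OneHom.coe_mk,
      Matrix.of_apply, toAdd_ofAdd, ← sub_eq_iff_eq_add' (a := b)]
    rw [← Finset.sum_ite_eq (T.image fun x => (q : ZMod n) * x) (b - a) fun _ => (1 : ZMod q),
      Finset.sum_image fun x _ y _ h => hqu.mul_left_cancel h]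
  intro σ hσ a b hab
  have hsub : A.submatrix σ σ = A := by
    ext c d
    rw [Matrix.submatrix_apply, hAab, hAab]
    refine if_congr ⟨fun h => ?_, hT σ hσ c d⟩ rfl rfl
    simpa using hT σ⁻¹ (inv_mem hσ) _ _ h
  have hpow : (A ^ q).submatrix σ σ = A ^ q := by
    have h1 := map_pow (Matrix.reindexAlgEquiv (ZMod q) (ZMod q) σ.symm) A q
    have h2 : ∀ B : Matrix (ZMod n) (ZMod n) (ZMod q),
        Matrix.reindexAlgEquiv (ZMod q) (ZMod q) σ.symm B = B.submatrix σ σ := fun B => rfl
    rw [h2, h2, hsub] at h1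
    exact h1
  have h3 := congrFun (congrFun hpow a) b
  rw [Matrix.submatrix_apply, hAq, hAq, if_pos hab] at h3
  by_contra hne
  rw [if_neg hne] at h3
  exact zero_ne_one h3

/-- Multiplication by units preserves invariance. -/
theorem inv_image_unit {T : Finset (ZMod n)} (hT : Inv G T) (u : (ZMod n)ˣ) :
    Inv G (T.image fun x => (u : ZMod n) * x) := by
  have key : ∀ k : ℕ, k ≠ 0 → k.Coprime n → ∀ T : Finset (ZMod n), Inv G T →
      Inv G (T.image fun x => (k : ZMod n) * x) := by
    intro k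
    induction k using induction_on_primes with
    | zero => intro h; exact absurd rfl h
    | one => intro _ _ T hT; simpa using hT
    | prime_mul q k hq ih =>
      intro h hc T hT
      have hk : k ≠ 0 := fun e => h (by simp [e])
      have h2 := inv_image_prime (ih hk (Nat.Coprime.coprime_mul_left hc) T hT) hq
        (Nat.Coprime.coprime_mul_right hc)
      rw [Finset.image_image] at h2
      convert h2 using 2
      ext x; simp [mul_assoc]
  rcases Nat.eq_zero_or_pos (u : ZMod n).val with h | h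
  · have hu : IsUnit (u : ZMod n) := u.isUnit
    rw [(ZMod.val_eq_zero _).1 h] at hu
    have h01 : (0 : ZMod n) = 1 := isUnit_zero_iff.1 hu
    intro σ _ a b hab
    have : σ b - σ a = b - a := (subsingleton_of_zero_eq_one h01).elim _ _
    rwa [this]
  · have h2 := key _ h.ne' (ZMod.val_coe_unit_coprime u) T hT
    simpa [ZMod.natCast_val] using h2

include htr

theorem orb_unit_mul (u : (ZMod n)ˣ) (x : ZMod n) :
    orb G ((u : ZMod n) * x) = (orb G x).image fun y => (u : ZMod n) * y := by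
  refine Finset.Subset.antisymm (orb_subset (inv_image_unit (inv_orb htr x) u)
    (mem_image_of_mem _ (self_mem_orb x))) fun y hy => ?_
  obtain ⟨z, hz, rfl⟩ := mem_image.1 hy
  have h1 : orb G x ⊆ (orb G ((u : ZMod n) * x)).image fun y => ((u⁻¹ : (ZMod n)ˣ) : ZMod n) * y :=
    orb_subset (inv_image_unit (inv_orb htr _) u⁻¹)
      (mem_image.2 ⟨_, self_mem_orb _, by rw [← mul_assoc, Units.inv_mul, one_mul]⟩)
  obtain ⟨w, hw, rfl⟩ := mem_image.1 (h1 hz)
  rwa [← mul_assoc, Units.mul_inv, one_mul]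

omit htr

end CfsgLib.Frobenius.SchurCyclic

namespace CfsgLib.Frobenius.SchurCyclic

open Finset

variable {p m : ℕ} [hp : Fact p.Prime] {G : Subgroup (Equiv.Perm (ZMod (p ^ m)))}

instance : NeZero (p ^ m) := ⟨pow_ne_zero _ hp.out.ne_zero⟩

theorem exists_pow_mul_unit {x : ZMod (p ^ m)} (hx : x ≠ 0) :
    ∃ (j : ℕ) (v : (ZMod (p ^ m))ˣ), j < m ∧ x = (p : ZMod (p ^ m)) ^ j * v := by
  have hv : x.val ≠ 0 := fun h => hx ((ZMod.val_eq_zero x).1 h)
  obtain ⟨j, w, hw, hjw⟩ := Nat.exists_eq_pow_mul_and_not_dvd hv p hp.out.ne_one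
  have hc : w.Coprime (p ^ m) := ((hp.out.coprime_iff_not_dvd.2 hw).symm).pow_right m
  refine ⟨j, ZMod.unitOfCoprime w hc, ?_, ?_⟩
  · by_contra h
    push Not at h
    have h1 := ZMod.val_lt x
    have h2 : p ^ m ≤ x.val := by
      rw [hjw]
      exact (Nat.pow_le_pow_right hp.out.pos h).trans
        (Nat.le_mul_of_pos_right _ (Nat.pos_of_ne_zero fun e => hw (e ▸ dvd_zero p)))
    omega
  · rw [ZMod.coe_unitOfCoprime, ← Nat.cast_pow, ← Nat.cast_mul, ← hjw, ZMod.natCast_val, ZMod.cast_id]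

theorem natCast_p_pow_self : (p : ZMod (p ^ m)) ^ m = 0 := by
  rw [← Nat.cast_pow, ZMod.natCast_self]

variable (htr : ∀ a : ZMod (p ^ m), Equiv.addRight a ∈ G)
include htr

/-- Schur: an invariant proper nontrivial subgroup, or double transitivity. -/
theorem exists_subgroup (hm : 2 ≤ m)
    (h2 : ¬ ∀ a b c d : ZMod (p ^ m), a ≠ b → c ≠ d → ∃ σ ∈ G, σ a = c ∧ σ b = d) :
    ∃ D : AddSubgroup (ZMod (p ^ m)), D ≠ ⊥ ∧ D ≠ ⊤ ∧ (p : ZMod (p ^ m)) ^ (m - 1) ∈ D ∧
      ∀ σ ∈ G, ∀ a b, b - a ∈ D → σ b - σ a ∈ D := by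
  classical
  set z0 : ZMod (p ^ m) := (p : ZMod (p ^ m)) ^ (m - 1) with hz0
  have hpz0 : (p : ZMod (p ^ m)) * z0 = 0 := by
    rw [hz0, ← pow_succ', show m - 1 + 1 = m by omega, natCast_p_pow_self]
  have hnu : ∀ x : ZMod (p ^ m), (∃ c, x = (p : ZMod (p ^ m)) * c) → ¬ IsUnit x := by
    rintro _ ⟨c, rfl⟩ h
    have h1 : IsUnit (p : ZMod (p ^ m)) := isUnit_of_mul_isUnit_left h
    rw [ZMod.isUnit_iff_coprime, Nat.coprime_pow_right_iff (by omega), Nat.coprime_self] at h1
    exact hp.out.ne_one h1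
  by_cases hcase : ∀ x : ZMod (p ^ m), x ≠ 0 → ∃ v : (ZMod (p ^ m))ˣ, (v : ZMod (p ^ m)) ∈ orb G x
  · exfalso
    set T := orb G (1 : ZMod (p ^ m)) with hT
    have horb : ∀ x : ZMod (p ^ m), x ≠ 0 → ∃ v : (ZMod (p ^ m))ˣ,
        orb G x = T.image fun y => (v : ZMod (p ^ m)) * y := by
      intro x hx
      obtain ⟨v, hv⟩ := hcase x hx
      exact ⟨v, by rw [← orb_eq_of_mem htr hv, hT, ← orb_unit_mul htr, mul_one]⟩
    have hz0ne : z0 ≠ 0 := by
      rw [hz0, ← Nat.cast_pow, Ne, ZMod.natCast_eq_zero_iff]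
      intro h
      have := (Nat.pow_dvd_pow_iff_le_right hp.out.one_lt).1 h
      omega
    obtain ⟨v0, hv0⟩ := horb z0 hz0ne
    obtain ⟨z1, hz1, hz1e⟩ := mem_image.1 (hv0 ▸ self_mem_orb z0 : z0 ∈ _)
    have hpz1 : (p : ZMod (p ^ m)) * z1 = 0 := by
      refine v0.isUnit.mul_left_cancel ?_
      rw [mul_left_comm, hz1e, hpz0, mul_zero]
    -- units congruent to `1` modulo `p` fix `T`
    have hfix : ∀ u : (ZMod (p ^ m))ˣ, (∃ c, (u : ZMod (p ^ m)) = 1 + (p : ZMod (p ^ m)) * c) →
        T.image (fun y => (u : ZMod (p ^ m)) * y) = T := by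
      rintro u ⟨c, hc⟩
      have he : orb G z1 = T := orb_eq_of_mem htr hz1
      have hu : (u : ZMod (p ^ m)) * z1 = z1 := by
        rw [hc, add_mul, one_mul, mul_right_comm, hpz1, zero_mul, add_zero]
      rw [← he, ← orb_unit_mul htr, hu]
    have hper : ∀ x ∈ T, (p : ZMod (p ^ m)) * x ≠ 0 → ∀ z : ZMod (p ^ m), (p : ZMod (p ^ m)) * z = 0 →
        x + z ∈ T := by
      intro x hx hpx z hz
      obtain ⟨j, v, -, hjv⟩ := exists_pow_mul_unit (x := x) (fun h => hpx (by rw [h, mul_zero]))
      have hj2 : j + 2 ≤ m := by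
        by_contra h
        apply hpx
        rw [hjv, ← mul_assoc, ← pow_succ', show j + 1 = m + (j + 1 - m) by omega, pow_add,
          natCast_p_pow_self, zero_mul, zero_mul]
      rcases eq_or_ne z 0 with rfl | hzne
      · simpa using hx
      obtain ⟨i, w, hi, hiw⟩ := exists_pow_mul_unit hzne
      have hie : i = m - 1 := by
        by_contra h
        have : ((p : ZMod (p ^ m)) ^ (i + 1)) = 0 := by
          refine w.isUnit.mul_right_cancel ?_
          rw [zero_mul, pow_succ', mul_assoc, ← hiw, hz]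
        rw [← Nat.cast_pow, ZMod.natCast_eq_zero_iff] at this
        have := (Nat.pow_dvd_pow_iff_le_right hp.out.one_lt).1 this
        omega
      set c := (p : ZMod (p ^ m)) ^ (m - 1 - j - 1) * w * ((v⁻¹ : (ZMod (p ^ m))ˣ) : ZMod (p ^ m)) with hc
      have hnil : IsNilpotent ((p : ZMod (p ^ m)) * c) :=
        ⟨m, by rw [mul_pow, natCast_p_pow_self, zero_mul]⟩
      have hu : IsUnit (1 + (p : ZMod (p ^ m)) * c) := hnil.isUnit_one_add
      rw [← hfix hu.unit ⟨c, hu.unit_spec⟩]
      refine mem_image.2 ⟨x, hx, ?_⟩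
      rw [hu.unit_spec, add_mul, one_mul]
      congr 1
      rw [hiw, hie, hc, hjv]
      rw [show m - 1 = 1 + (m - 1 - j - 1) + j by omega, pow_add, pow_add, pow_one,
        show 1 + (m - 1 - j - 1) + j - j - 1 = m - 1 - j - 1 by omega]
      calc (p : ZMod (p ^ m)) * ((p : ZMod (p ^ m)) ^ (m - 1 - j - 1) * w * ((v⁻¹ : (ZMod (p ^ m))ˣ) : ZMod (p ^ m))) *
            ((p : ZMod (p ^ m)) ^ j * v)
          = (p : ZMod (p ^ m)) * (p : ZMod (p ^ m)) ^ (m - 1 - j - 1) * (p : ZMod (p ^ m)) ^ j * w *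
              (((v⁻¹ : (ZMod (p ^ m))ˣ) : ZMod (p ^ m)) * v) := by ring
        _ = _ := by rw [Units.inv_mul, mul_one]
    let P1 : Finset (ZMod (p ^ m)) := univ.filter fun x => (p : ZMod (p ^ m)) * x = 0
    set k := T.card with hk
    set s := (T ∩ P1).card with hs
    let c : ZMod (p ^ m) → ℕ := fun z => (T.filter fun w => w - z ∈ T).card
    have hcinv : ∀ x, ∀ y ∈ orb G x, c x ≤ c y := by
      intro x y hy
      obtain ⟨σ, hσ, h0, rfl⟩ := mem_orb.1 hy
      refine Finset.card_le_card_of_injOn σ (fun w hw => ?_) σ.injective.injOn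
      rw [mem_coe, mem_filter] at hw
      rw [mem_coe, mem_filter]
      exact ⟨by simpa [h0] using inv_orb htr 1 σ hσ 0 w (by simpa using hw.1),
        inv_orb htr 1 σ hσ x w hw.2⟩
    have hlow : ∀ z, z ≠ 0 → k - s ≤ c z := by
      intro z hz
      obtain ⟨v, hv⟩ := horb z hz
      set y := (v : ZMod (p ^ m)) * z1 with hy
      have hyorb : y ∈ orb G z := hv ▸ mem_image_of_mem _ hz1
      have hpy : (p : ZMod (p ^ m)) * y = 0 := by rw [hy, mul_left_comm, hpz1, mul_zero]
      have h1 : k - s ≤ c y := by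
        rw [hk, hs, ← Finset.card_sdiff_add_card_inter T P1, Nat.add_sub_cancel]
        refine Finset.card_le_card fun w hw => ?_
        rw [mem_sdiff, mem_filter] at hw
        refine mem_filter.2 ⟨hw.1, ?_⟩
        rw [sub_eq_add_neg]
        exact hper w hw.1 (fun h => hw.2 ⟨mem_univ _, h⟩) _ (by rw [mul_neg, hpy, neg_zero])
      exact h1.trans (hcinv y z (by rw [orb_eq_of_mem htr hyorb]; exact self_mem_orb z))
    have hsum : ∑ z, c z = k * k := by
      simp only [c, Finset.card_filter]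
      rw [Finset.sum_comm]
      have : ∀ w ∈ T, ∑ z, (if w - z ∈ T then 1 else 0) = k := by
        intro w _
        refine (Equiv.sum_comp (Equiv.subLeft w) (fun t => if t ∈ T then (1 : ℕ) else 0)).trans ?_
        rw [hk, Finset.sum_boole, Nat.cast_id, Finset.filter_univ_mem]
      rw [Finset.sum_congr rfl this, Finset.sum_const, smul_eq_mul]
    have hc0 : c 0 = k := by simp [c, hk]
    have hsum' : (p ^ m - 1) * (k - s) + k ≤ k * k := by
      rw [← hsum, ← Finset.sum_erase_add univ c (mem_univ (0 : ZMod (p ^ m))), hc0]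
      refine Nat.add_le_add_right ?_ k
      calc (p ^ m - 1) * (k - s) = (univ.erase (0 : ZMod (p ^ m))).card * (k - s) := by
            rw [Finset.card_erase_of_mem (mem_univ _), Finset.card_univ, ZMod.card]
        _ ≤ _ := by
            rw [← smul_eq_mul, ← Finset.sum_const]
            exact Finset.sum_le_sum fun z hz => hlow z (mem_erase.1 hz).1
    -- a second suborbit
    obtain ⟨x, hx0, hxT⟩ : ∃ x : ZMod (p ^ m), x ≠ 0 ∧ x ∉ T := by
      by_contra hcon
      push Not at hcon
      refine h2 fun a b a' b' hab hab' => ?_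
      have h1 := hcon (b - a) (sub_ne_zero.2 (Ne.symm hab))
      have h1' := hcon (b' - a') (sub_ne_zero.2 (Ne.symm hab'))
      obtain ⟨τ, hτ, h0, hτ1⟩ := mem_orb.1 ((orb_eq_of_mem htr h1).symm ▸ h1' : b' - a' ∈ orb G (b - a))
      refine ⟨Equiv.addRight a' * τ * Equiv.addRight (-a), mul_mem (mul_mem (htr _) hτ) (htr _), ?_, ?_⟩
      · simp [h0]
      · simp [← sub_eq_add_neg, hτ1]
    obtain ⟨v, hv⟩ := horb x hx0
    set T' := T.image fun y => (v : ZMod (p ^ m)) * y with hT'
    have hvinj : Function.Injective fun y : ZMod (p ^ m) => (v : ZMod (p ^ m)) * y :=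
      fun a b h => v.isUnit.mul_left_cancel h
    have hdisj : Disjoint T T' := by
      rw [Finset.disjoint_left]
      intro y hy hy'
      rw [← hv] at hy'
      have h1 : orb G x = T := (orb_eq_of_mem htr hy').symm.trans (orb_eq_of_mem htr hy)
      exact hxT (h1 ▸ self_mem_orb x)
    have h0T : (0 : ZMod (p ^ m)) ∉ T := by
      haveI : Fact (1 < p ^ m) := ⟨Nat.one_lt_pow (by omega) hp.out.one_lt⟩
      exact zero_not_mem_orb one_ne_zero
    have h0T' : (0 : ZMod (p ^ m)) ∉ T' := by rw [← hv]; exact zero_not_mem_orb hx0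
    have hn : 2 * k ≤ p ^ m - 1 := by
      have h1 : (T ∪ T').card ≤ (univ.erase (0 : ZMod (p ^ m))).card := Finset.card_le_card fun y hy =>
        mem_erase.2 ⟨fun h => by rcases mem_union.1 hy with h' | h' <;> simp_all, mem_univ _⟩
      rw [Finset.card_union_of_disjoint hdisj, Finset.card_erase_of_mem (mem_univ _), Finset.card_univ,
        ZMod.card, hT', Finset.card_image_of_injective _ hvinj, ← two_mul] at h1
      exact h1
    have hP1 : P1.card ≤ p := by
      have hsub : P1 ⊆ (Finset.range p).image fun a : ℕ => (a : ZMod (p ^ m)) * z0 := by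
        intro z hz
        rw [mem_filter] at hz
        rcases eq_or_ne z 0 with rfl | hzne
        · exact mem_image.2 ⟨0, mem_range.2 hp.out.pos, by simp⟩
        obtain ⟨i, w, hi, hiw⟩ := exists_pow_mul_unit hzne
        have hie : i = m - 1 := by
          by_contra h
          have : ((p : ZMod (p ^ m)) ^ (i + 1)) = 0 := by
            refine w.isUnit.mul_right_cancel ?_
            rw [zero_mul, pow_succ', mul_assoc, ← hiw, hz.2]
          rw [← Nat.cast_pow, ZMod.natCast_eq_zero_iff] at this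
          have := (Nat.pow_dvd_pow_iff_le_right hp.out.one_lt).1 this
          omega
        refine mem_image.2 ⟨(w : ZMod (p ^ m)).val % p, mem_range.2 (Nat.mod_lt _ hp.out.pos), ?_⟩
        have e : ((w : ZMod (p ^ m)).val : ZMod (p ^ m)) =
            (((w : ZMod (p ^ m)).val % p : ℕ) : ZMod (p ^ m)) + (p : ZMod (p ^ m)) * (((w : ZMod (p ^ m)).val / p : ℕ) : ZMod (p ^ m)) := by
          rw [← Nat.cast_mul, ← Nat.cast_add, Nat.mod_add_div]
        rw [ZMod.natCast_val, ZMod.cast_id] at e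
        rw [hiw, hie, ← hz0]
        conv_rhs => rw [e]
        rw [mul_add, ← mul_assoc z0, mul_comm z0 (p : ZMod (p ^ m)), hpz0, zero_mul, add_zero, mul_comm]
      exact (Finset.card_le_card hsub).trans (Finset.card_image_le.trans_eq (Finset.card_range p))
    have hs2 : 2 * s + 1 ≤ p := by
      refine le_trans ?_ hP1
      have h1 : ((T ∩ P1) ∪ (T ∩ P1).image fun y => (v : ZMod (p ^ m)) * y) ⊆ P1.erase 0 := by
        intro y hy
        rcases mem_union.1 hy with h | h
        · rw [mem_inter] at h; exact mem_erase.2 ⟨fun e => h0T (e ▸ h.1), h.2⟩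
        · obtain ⟨w, hw, rfl⟩ := mem_image.1 h
          rw [mem_inter, mem_filter] at hw
          refine mem_erase.2 ⟨fun e => h0T' (e ▸ mem_image_of_mem _ hw.1), mem_filter.2 ⟨mem_univ _, ?_⟩⟩
          rw [mul_left_comm, hw.2.2, mul_zero]
      have hd : Disjoint (T ∩ P1) ((T ∩ P1).image fun y => (v : ZMod (p ^ m)) * y) :=
        hdisj.mono inter_subset_left (image_subset_image inter_subset_left)
      have h0 : (0 : ZMod (p ^ m)) ∈ P1 := mem_filter.2 ⟨mem_univ _, mul_zero _⟩
      have h2 := Finset.card_le_card h1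
      rw [Finset.card_union_of_disjoint hd, Finset.card_image_of_injective _ hvinj,
        Finset.card_erase_of_mem h0, ← hs] at h2
      have := Finset.card_pos.2 ⟨0, h0⟩
      omega
    have hkp : p ≤ k := by
      have h1T : (1 : ZMod (p ^ m)) ∈ T := self_mem_orb 1
      have hp1 : (p : ZMod (p ^ m)) * 1 ≠ 0 := by
        rw [mul_one, Ne, ZMod.natCast_eq_zero_iff]
        intro h
        have h3 : p ^ m ≤ p ^ 1 := by rw [pow_one]; exact Nat.le_of_dvd hp.out.pos h
        have := (Nat.pow_le_pow_iff_right hp.out.one_lt).1 h3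
        omega
      refine (Finset.card_range p).ge.trans ?_
      refine Finset.card_le_card_of_injOn (fun a : ℕ => 1 + (a : ZMod (p ^ m)) * z0) (fun a _ => ?_) ?_
      · exact hper 1 h1T hp1 _ (by rw [mul_left_comm, hpz0, mul_zero])
      · intro a ha b hb hab
        have h3 := add_left_cancel hab
        simp only [hz0, ← Nat.cast_pow, ← Nat.cast_mul, ZMod.natCast_eq_natCast_iff'] at h3
        have hlt : ∀ c, c < p → c * p ^ (m - 1) < p ^ m := by
          intro c hc
          calc c * p ^ (m - 1) < p * p ^ (m - 1) := Nat.mul_lt_mul_of_pos_right hc (pow_pos hp.out.pos _)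
            _ = p ^ m := by rw [← pow_succ', show m - 1 + 1 = m by omega]
        rw [Nat.mod_eq_of_lt (hlt a (mem_range.1 ha)), Nat.mod_eq_of_lt (hlt b (mem_range.1 hb))] at h3
        exact Nat.eq_of_mul_eq_mul_right (pow_pos hp.out.pos _) h3
    have h3 : 2 * k * (k - s) + k ≤ k * k :=
      (Nat.add_le_add_right (Nat.mul_le_mul_right _ hn) k).trans hsum'
    have h4 : 2 * (k - s) + 1 ≤ k := by
      have hk0 : 0 < k := hp.out.pos.trans_le hkp
      refine Nat.le_of_mul_le_mul_left ?_ hk0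
      calc k * (2 * (k - s) + 1) = 2 * k * (k - s) + k := by ring
        _ ≤ k * k := h3
    omega
  · push Not at hcase
    obtain ⟨x, hx, hxu⟩ := hcase
    set D := AddSubgroup.closure ((orb G x : Finset (ZMod (p ^ m))) : Set (ZMod (p ^ m))) with hD
    have hle : ∀ d ∈ D, ∃ c, d = (p : ZMod (p ^ m)) * c := by
      intro d hd
      induction hd using AddSubgroup.closure_induction with
      | mem y hy =>
        rcases eq_or_ne y 0 with rfl | hy0
        · exact ⟨0, by simp⟩
        obtain ⟨j, v, -, rfl⟩ := exists_pow_mul_unit hy0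
        rcases j with _ | j
        · exact absurd (by simpa using hy) (hxu v)
        · exact ⟨(p : ZMod (p ^ m)) ^ j * v, by rw [pow_succ', mul_assoc]⟩
      | zero => exact ⟨0, by simp⟩
      | add a b _ _ ha hb =>
        obtain ⟨c, rfl⟩ := ha; obtain ⟨d, rfl⟩ := hb
        exact ⟨c + d, by rw [mul_add]⟩
      | neg a _ ha => obtain ⟨c, rfl⟩ := ha; exact ⟨-c, by rw [mul_neg]⟩
    have hxD : x ∈ D := AddSubgroup.subset_closure (self_mem_orb x)
    refine ⟨D, fun h => hx (by rw [h] at hxD; exact hxD), fun h => ?_, ?_, ?_⟩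
    · obtain ⟨c, hc⟩ := hle 1 (h ▸ AddSubgroup.mem_top _)
      exact hnu 1 ⟨c, hc⟩ isUnit_one
    · obtain ⟨j, v, hj, rfl⟩ := exists_pow_mul_unit hx
      have h1 := AddSubgroup.nsmul_mem D hxD (p ^ (m - 1 - j) * ((v⁻¹ : (ZMod (p ^ m))ˣ) : ZMod (p ^ m)).val)
      rw [nsmul_eq_mul, Nat.cast_mul, Nat.cast_pow, ZMod.natCast_val, ZMod.cast_id] at h1
      convert h1 using 1
      calc z0 = (p : ZMod (p ^ m)) ^ (m - 1 - j) * (p : ZMod (p ^ m)) ^ j *
            (((v⁻¹ : (ZMod (p ^ m))ˣ) : ZMod (p ^ m)) * v) := by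
            rw [Units.inv_mul, mul_one, ← pow_add, show m - 1 - j + j = m - 1 by omega]
        _ = _ := by ring
    · intro σ hσ a b hab
      have key : ∀ d ∈ D, ∀ a, σ (a + d) - σ a ∈ D := by
        intro d hd
        induction hd using AddSubgroup.closure_induction with
        | mem y hy => intro a; exact AddSubgroup.subset_closure (inv_orb htr x σ hσ a (a + y) (by simpa using hy))
        | zero => intro a; simp
        | add u w _ _ hu hw =>
          intro a
          have := D.add_mem (hw (a + u)) (hu a)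
          rwa [sub_add_sub_cancel, add_assoc] at this
        | neg u _ hu =>
          intro a
          have := D.neg_mem (hu (a + -u))
          rwa [neg_sub, neg_add_cancel_right] at this
      simpa using key (b - a) hab a

end CfsgLib.Frobenius.SchurCyclic
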