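import Mathlib
import Cfsg.Agent.Lib.Involution.PermUniqueSylow

/-!
Sylow 2-subgroups of symmetric groups, and of alternating groups of degree at least six, are
self-normalising.
-/

set_option autoImplicit false
set_option linter.style.haveILetI false
set_option linter.unusedSectionVars false

namespace CfsgLib.Frobenius.AltSylowTwo

open Equiv CfsgLib.Involution.PermUniqueSylow

universe u

variable {α : Type u} [Fintype α] [DecidableEq α]

theorem swap_commute {z : Perm α} (hz : ∀ a, z (z a) = a) (a : α) :
    Commute (Equiv.swap a (z a)) z := by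
  have h := Equiv.swap_apply_apply z a (z a)
  rw [hz, Equiv.swap_comm (z a) a] at h
  exact eq_mul_inv_iff_mul_eq.mp h

/-- A Sylow 2-subgroup of the centraliser of a pairing contains the pair swaps. -/
theorem swap_mem (T : Sylow 2 (Perm α)) {z : Perm α} (hz : ∀ a, z (z a) = a)
    (hT : (T : Subgroup (Perm α)) ≤ Subgroup.centralizer {z}) (a : α) :
    Equiv.swap a (z a) ∈ (T : Subgroup (Perm α)) := by
  haveI := Fact.mk Nat.prime_two
  let c : Subgroup.centralizer ({z} : Set (Perm α)) :=
    ⟨Equiv.swap a (z a), Subgroup.mem_centralizer_singleton_iff.mpr (swap_commute hz a).eq⟩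
  have hc : c ∈ (pairHom z hz).ker := by
    rw [MonoidHom.mem_ker]
    refine Equiv.ext fun q => Quotient.inductionOn q fun b => ?_
    rw [pairHom_mk, Perm.one_apply]
    refine Quotient.sound ?_
    show b = Equiv.swap a (z a) b ∨ b = z (Equiv.swap a (z a) b)
    by_cases h1 : b = a
    · right; rw [h1, Equiv.swap_apply_left, hz]
    by_cases h2 : b = z a
    · right; rw [h2, Equiv.swap_apply_right]
    · left; rw [Equiv.swap_apply_of_ne_of_ne h1 h2]
  exact (isPGroup_ker_pairHom z hz).le_sylow_of_normal (T.subtype hT) hc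

theorem perm_apply {g w : Perm α} (h : Commute g w) (a : α) : g (w a) = w (g a) :=
  DFunLike.congr_fun h.eq a

/-- Sylow 2-subgroups of symmetric groups are self-normalising. -/
theorem mem_of_mem_normalizer : ∀ (n : ℕ) (α : Type u) [Fintype α] [DecidableEq α], Fintype.card α = n →
    ∀ (T : Sylow 2 (Perm α)) (y : Perm α), y ∈ Subgroup.normalizer ((T : Subgroup (Perm α)) : Set (Perm α)) →
      y ∈ (T : Subgroup (Perm α)) := by
  intro n
  induction n using Nat.strong_induction_on with
  | h n ih =>
  intro α _ _ hn T y hy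
  haveI := Fact.mk Nat.prime_two
  rcases subsingleton_or_nontrivial α with hs | hnt
  · rw [Subsingleton.elim y 1]; exact one_mem _
  obtain ⟨z, hz, hzfix, hT⟩ := exists_pairing_sylow T
  have hcomm : ∀ {g : Perm α}, g ∈ (T : Subgroup (Perm α)) → Commute g z :=
    fun hg => Subgroup.mem_centralizer_singleton_iff.mp (hT hg)
  have hswap := swap_mem T hz hT
  have hyT : ∀ g ∈ (T : Subgroup (Perm α)), y⁻¹ * g * y ∈ (T : Subgroup (Perm α)) := fun g hg =>
    (Subgroup.mem_normalizer_iff''.mp hy g).mp hg
  -- `y` centralises `z`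
  have hyz : Commute y z := by
    refine Equiv.ext fun a => ?_
    show y (z a) = z (y a)
    by_cases ha : z a = a
    · rw [ha]
      by_contra hne
      have h1 : Equiv.swap (y a) (z (y a)) ∈ (T : Subgroup (Perm α)) := hswap (y a)
      have h2 := perm_apply (hcomm (hyT _ h1)) a
      rw [ha] at h2
      have h3 : z ((y⁻¹ * Equiv.swap (y a) (z (y a)) * y) a) = (y⁻¹ * Equiv.swap (y a) (z (y a)) * y) a := h2.symm
      have h4 := hzfix _ _ h3 ha
      simp only [Perm.mul_apply, Equiv.swap_apply_left, Perm.inv_eq_iff_eq] at h4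
      exact hne h4.symm
    · have h1 := hyT _ (hswap (y a))
      have h2 := perm_apply (hcomm h1) a
      simp only [Perm.mul_apply, Equiv.swap_apply_left] at h2
      -- the conjugated swap moves `a` to `z a`
      by_cases hfix : z (y a) = y a
      · exfalso
        have h5 := hyT _ (hswap a)
        have h6 : (y * Equiv.swap a (z a) * y⁻¹) ∈ (T : Subgroup (Perm α)) :=
          (Subgroup.mem_normalizer_iff.mp hy _).mp (hswap a)
        have h7 := perm_apply (hcomm h6) (y a)
        simp only [hfix, Perm.mul_apply, Perm.inv_def, Equiv.symm_apply_apply,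
          Equiv.swap_apply_left] at h7
        exact ha (y.injective (hzfix _ _ h7.symm hfix))
      · by_contra hne
        have hne1 : z a ≠ y⁻¹ (z (y a)) := fun e => hne (by rw [e]; exact y.apply_symm_apply _)
        rw [Equiv.swap_apply_of_ne_of_ne (a := y a) (b := z (y a)) (x := y (z a))
          (fun e => ha (y.injective e)) (fun e => hne e)] at h2
        rw [Perm.inv_def, Equiv.symm_apply_apply] at h2
        have h8 : z (z a) = z (z (y.symm (z (y a)))) := congrArg z h2
        rw [hz, hz] at h8
        have h9 := congrArg y h8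
        rw [Equiv.apply_symm_apply] at h9
        exact hfix h9.symm
  by_cases hfpf : ∀ a, z a ≠ a
  · -- the action on the pairs
    let yC : Subgroup.centralizer ({z} : Set (Perm α)) := ⟨y, Subgroup.mem_centralizer_singleton_iff.mpr hyz.eq⟩
    let TC : Sylow 2 (Subgroup.centralizer ({z} : Set (Perm α))) := T.subtype hT
    have hTC : ∀ g, g ∈ (TC : Subgroup (Subgroup.centralizer ({z} : Set (Perm α)))) ↔ (g : Perm α) ∈ (T : Subgroup (Perm α)) := fun g => by rfl
    have hsurj : Function.Surjective (pairHom z hz) := by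
      intro σ
      let r : Quotient (pairSetoid z hz) → α := Quotient.out
      let q : α → Quotient (pairSetoid z hz) := Quotient.mk (pairSetoid z hz)
      have hr : ∀ a, r (q a) = a ∨ r (q a) = z a := fun a => by
        rcases (Quotient.mk_out (s := pairSetoid z hz) a) with h | h
        · exact Or.inl h.symm
        · exact Or.inr (by have := congrArg z h; rw [hz] at this; exact this.symm)
      have hqz : ∀ a, q (z a) = q a := fun a => Quotient.sound (Or.inr (hz a).symm)
      have hqr : ∀ p, q (r p) = p := fun p => Quotient.out_eq p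
      let F : Perm (Quotient (pairSetoid z hz)) → α → α := fun τ a =>
        if r (q a) = a then r (τ (q a)) else z (r (τ (q a)))
      have hq : ∀ τ a, q (F τ a) = τ (q a) := fun τ a => by
        by_cases h : r (q a) = a
        · simp [F, h, hqr]
        · simp [F, h, hqz, hqr]
      have hinv : ∀ (τ τ' : Perm (Quotient (pairSetoid z hz))), (∀ p, τ' (τ p) = p) → ∀ a, F τ' (F τ a) = a := by
        intro τ τ' h a
        show (if r (q (F τ a)) = F τ a then r (τ' (q (F τ a))) else z (r (τ' (q (F τ a))))) = a
        rw [hq, h]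
        by_cases h1 : r (q a) = a
        · have e : F τ a = r (τ (q a)) := by simp [F, h1]
          rw [e, if_pos rfl, h1]
        · have e : F τ a = z (r (τ (q a))) := by simp [F, h1]
          rw [e, if_neg (fun e' => hfpf _ e'.symm), (hr a).resolve_left h1, hz]
      let f : Perm α := ⟨F σ, F σ⁻¹, hinv σ σ⁻¹ fun p => σ.symm_apply_apply p,
        hinv σ⁻¹ σ fun p => σ.apply_symm_apply p⟩
      have hf : Commute f z := Equiv.ext fun a => by
        show F σ (z a) = z (F σ a)
        simp only [F, hqz]
        by_cases h1 : r (q a) = a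
        · rw [if_neg (fun e => hfpf a (e.symm.trans h1)), if_pos h1]
        · rw [if_pos ((hr a).resolve_left h1), if_neg h1, hz]
      refine ⟨⟨f, Subgroup.mem_centralizer_singleton_iff.mpr hf.eq⟩, Equiv.ext fun p => ?_⟩
      induction p using Quotient.inductionOn with
      | _ a => exact hq σ a
    haveI : Fintype (Quotient (pairSetoid z hz)) := Fintype.ofFinite _
    classical
    obtain ⟨a₀⟩ : Nonempty α := inferInstance
    have hlt : Fintype.card (Quotient (pairSetoid z hz)) < n := by
      rw [← hn]
      refine Fintype.card_lt_of_surjective_not_injective (Quotient.mk (pairSetoid z hz)) Quotient.mk_surjective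
        fun hinj => hfpf a₀ (hinj (Quotient.sound (Or.inr (hz a₀).symm)))
    have hnorm : pairHom z hz yC ∈ Subgroup.normalizer
        (((TC.mapSurjective hsurj : Sylow 2 (Perm (Quotient (pairSetoid z hz)))) : Subgroup (Perm (Quotient (pairSetoid z hz)))) : Set (Perm (Quotient (pairSetoid z hz)))) := by
      refine Subgroup.mem_normalizer_iff''.mpr fun g => ⟨?_, ?_⟩
      · rintro ⟨x, hx, rfl⟩
        exact ⟨yC⁻¹ * x * yC, hyT _ hx, by simp⟩
      · rintro ⟨x, hx, e⟩
        exact ⟨yC * x * yC⁻¹, (Subgroup.mem_normalizer_iff.mp hy _).mp hx, by simp [e, mul_assoc]⟩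
    obtain ⟨x, hx, e⟩ := ih _ hlt _ rfl (TC.mapSurjective hsurj) _ hnorm
    have hk : x⁻¹ * yC ∈ (TC : Subgroup (Subgroup.centralizer ({z} : Set (Perm α)))) :=
      (isPGroup_ker_pairHom z hz).le_sylow_of_normal TC (by
        rw [MonoidHom.mem_ker, map_mul, map_inv, e, inv_mul_cancel])
    have := (TC : Subgroup (Subgroup.centralizer ({z} : Set (Perm α)))).mul_mem hx hk
    rwa [mul_inv_cancel_left, hTC] at this
  · -- one fixed point
    push Not at hfpf
    obtain ⟨c, hc⟩ := hfpf
    have hfixc : ∀ g : Perm α, Commute g z → g c = c := fun g hg => by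
      refine hzfix _ _ ?_ hc
      have := perm_apply hg c
      rw [hc] at this
      exact this.symm
    let α' := {a : α // a ≠ c}
    let ι : Perm α' →* Perm α := Perm.ofSubtype
    have hι : Function.Injective ι := Perm.ofSubtype_injective
    have hlift : ∀ g : Perm α, g c = c → ∃ g' : Perm α', ι g' = g := fun g hg => by
      have h1 : ∀ a, g a ≠ c ↔ a ≠ c := fun a => not_congr ⟨fun e => g.injective (e.trans hg.symm), fun e => by rw [e, hg]⟩
      refine ⟨g.subtypePerm h1, Perm.ofSubtype_subtypePerm h1 fun a ha e => ha ?_⟩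
      rw [e, hg]
    obtain ⟨U, hU⟩ := (T.isPGroup'.comap_of_injective ι hι).exists_le_sylow
    have hTU : (T : Subgroup (Perm α)) ≤ (U : Subgroup (Perm α')).map ι := fun g hg => by
      obtain ⟨g', rfl⟩ := hlift g (hfixc g (hcomm hg))
      exact ⟨g', hU hg, rfl⟩
    have hUT : (U : Subgroup (Perm α')).map ι = (T : Subgroup (Perm α)) :=
      T.is_maximal' (U.isPGroup'.map ι) hTU
    have hlt : Fintype.card α' < n := by
      rw [← hn]; exact Fintype.card_subtype_lt (x := c) (by simp)
    obtain ⟨y', rfl⟩ := hlift y (hfixc y hyz)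
    have hy' : y' ∈ Subgroup.normalizer ((U : Subgroup (Perm α')) : Set (Perm α')) := by
      refine Subgroup.mem_normalizer_iff.mpr fun g => ?_
      have h := Subgroup.mem_normalizer_iff.mp hy (ι g)
      rw [← hUT, ← map_inv, ← map_mul, ← map_mul] at h
      rwa [Subgroup.mem_map_iff_mem hι, Subgroup.mem_map_iff_mem hι] at h
    rw [← hUT]
    exact Subgroup.mem_map_of_mem ι (ih _ hlt α' rfl U y' hy')

/-- A permutation normalising the even part of a Sylow 2-subgroup of the symmetric group of degree at
least six lies in that subgroup. -/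
theorem mem_of_normalize_even (hn : 6 ≤ Fintype.card α) (T : Sylow 2 (Perm α)) {y : Perm α}
    (hy : ∀ g ∈ (T : Subgroup (Perm α)), Perm.sign g = 1 → y * g * y⁻¹ ∈ (T : Subgroup (Perm α))) :
    y ∈ (T : Subgroup (Perm α)) := by
  haveI := Fact.mk Nat.prime_two
  obtain ⟨z, hz, hzfix, hT⟩ := exists_pairing_sylow T
  have hswap := swap_mem T hz hT
  -- the products of two swaps of `z` and their conjugates centralise `z`
  set z' := y⁻¹ * z * y with hz'
  have hz'2 : ∀ a, z' (z' a) = a := fun a => by simp [hz', hz]
  have hcomm : ∀ g ∈ (T : Subgroup (Perm α)), Perm.sign g = 1 → Commute g z' := by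
    intro g hg hs
    have h := Subgroup.mem_centralizer_singleton_iff.mp (hT (hy g hg hs))
    show g * z' = z' * g
    calc g * z' = y⁻¹ * (y * g * y⁻¹ * z) * y := by rw [hz']; group
      _ = y⁻¹ * (z * (y * g * y⁻¹)) * y := by rw [h]
      _ = z' * g := by rw [hz']; group
  have hfix' : ∀ a b, z' a = a → z' b = b → a = b := fun a b ha hb => by
    refine y.injective (hzfix _ _ ?_ ?_)
    · simpa [hz', Perm.inv_eq_iff_eq, eq_comm] using congrArg y ha
    · simpa [hz', Perm.inv_eq_iff_eq, eq_comm] using congrArg y hb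
  -- pairs of `z` are preserved by `z'`
  have hpair : ∀ a, z a ≠ a → z' a = z a := by
    intro a ha
    have hmem : ∀ b, z b ≠ b → b ≠ a → b ≠ z a → z' a ∈ ({a, z a, b, z b} : Finset α) := by
      intro b hb hba hbza
      have hsw : Perm.sign (Equiv.swap a (z a) * Equiv.swap b (z b)) = 1 := by
        rw [Perm.sign_mul, Perm.sign_swap (Ne.symm ha), Perm.sign_swap (Ne.symm hb)]; rfl
      have hc := perm_apply (hcomm _ (mul_mem (hswap a) (hswap b)) hsw) a
      have hzb : a ≠ z b := fun e => hbza (by rw [e, hz])
      simp only [Perm.mul_apply, Equiv.swap_apply_of_ne_of_ne (Ne.symm hba) hzb, Equiv.swap_apply_left] at hc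
      by_contra hnot
      simp only [Finset.mem_insert, Finset.mem_singleton, not_or] at hnot
      rw [Equiv.swap_apply_of_ne_of_ne hnot.2.2.1 hnot.2.2.2, Equiv.swap_apply_of_ne_of_ne hnot.1 hnot.2.1] at hc
      exact ha (z'.injective hc).symm
    have hex : ∀ s : Finset α, s.card ≤ 4 → ∃ b, b ∉ s ∧ z b ≠ b := by
      intro s hs
      by_contra hc
      push Not at hc
      have h2 : (Finset.univ \ s).card ≤ 1 := Finset.card_le_one.mpr fun b hb b' hb' => by
        simp only [Finset.mem_sdiff] at hb hb'
        exact hzfix b b' (hc b hb.2) (hc b' hb'.2)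
      have h3 := Finset.card_le_card_sdiff_add_card (s := (Finset.univ : Finset α)) (t := s)
      rw [Finset.card_univ] at h3
      omega
    obtain ⟨b₁, hb₁, hb₁'⟩ := hex {a, z a} (Finset.card_le_two.trans (by norm_num))
    simp only [Finset.mem_insert, Finset.mem_singleton, not_or] at hb₁
    obtain ⟨b₂, hb₂, hb₂'⟩ := hex {a, z a, b₁, z b₁} Finset.card_le_four
    simp only [Finset.mem_insert, Finset.mem_singleton, not_or] at hb₂
    have m1 := hmem b₁ hb₁' hb₁.1 hb₁.2
    have m2 := hmem b₂ hb₂' hb₂.1 hb₂.2.1
    simp only [Finset.mem_insert, Finset.mem_singleton] at m1 m2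
    have h2 : z' a = a ∨ z' a = z a := by
      rcases m1 with h | h | h | h
      · exact Or.inl h
      · exact Or.inr h
      all_goals
        exfalso
        rcases m2 with h' | h' | h' | h'
      · exact hb₁.1 (h.symm.trans h')
      · exact hb₁.2 (h.symm.trans h')
      · exact hb₂.2.2.1 (h'.symm.trans h)
      · exact hb₂.2.2.2 (z.injective (by rw [hz, ← h', h]))
      · exact hb₁.2 (z.injective (by rw [← h, h', hz]))
      · exact hb₁.1 (z.injective (by rw [← h, h']))
      · exact hb₂.2.2.2 (h'.symm.trans h)
      · exact hb₂.2.2.1 (z.injective (by rw [← h', h]))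
    refine h2.resolve_left fun h => ?_
    have hsw : Perm.sign (Equiv.swap a (z a) * Equiv.swap b₁ (z b₁)) = 1 := by
      rw [Perm.sign_mul, Perm.sign_swap (Ne.symm ha), Perm.sign_swap (Ne.symm hb₁')]; rfl
    have hc := perm_apply (hcomm _ (mul_mem (hswap a) (hswap b₁)) hsw) a
    rw [h] at hc
    have hab : a ≠ z b₁ := fun e => hb₁.2 (by rw [e, hz])
    simp only [Perm.mul_apply, Equiv.swap_apply_of_ne_of_ne (Ne.symm hb₁.1) hab, Equiv.swap_apply_left] at hc
    exact ha (hfix' _ _ hc.symm h)
  have heq : z' = z := by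
    refine Equiv.ext fun a => ?_
    by_cases ha : z a = a
    · rw [ha]
      by_contra hne
      have hb : z (z' a) ≠ z' a := fun e => hne (hzfix _ _ e ha)
      have := hpair _ hb
      rw [hz'2] at this
      have e : z a = z' a := by
        conv_lhs => rw [this]
        rw [hz]
      exact hne (e.symm.trans ha)
    · exact hpair a ha
  have hyz : Commute y z := by
    show y * z = z * y
    calc y * z = y * z' := by rw [heq]
      _ = z * y := by rw [hz']; group
  -- so `y` normalises `T`
  let T' : Sylow 2 (Perm α) := y⁻¹ • T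
  have hT'C : (T' : Subgroup (Perm α)) ≤ Subgroup.centralizer {z} := by
    rintro g hg
    rw [Sylow.coe_subgroup_smul] at hg
    obtain ⟨w, hw, rfl⟩ := hg
    refine Subgroup.mem_centralizer_singleton_iff.mpr ?_
    have h := (((hyz.inv_left).mul_left
      (Subgroup.mem_centralizer_singleton_iff.mp (hT hw) : Commute w z)).mul_left hyz).eq
    simpa [mul_assoc] using h
  have hle : (T : Subgroup (Perm α)) ≤ (T' : Subgroup (Perm α)) := by
    have heven : ∀ g ∈ (T : Subgroup (Perm α)), Perm.sign g = 1 → g ∈ (T' : Subgroup (Perm α)) := by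
      intro g hg hs
      rw [Sylow.coe_subgroup_smul]
      exact ⟨y * g * y⁻¹, hy g hg hs, by simp [mul_assoc]⟩
    obtain ⟨a, ha⟩ : ∃ a, z a ≠ a := by
      by_contra hc
      push Not at hc
      have : Fintype.card α ≤ 1 := Fintype.card_le_one_iff.mpr fun a b => hzfix a b (hc a) (hc b)
      omega
    intro g hg
    rcases Int.units_eq_one_or (Perm.sign g) with h | h
    · exact heven g hg h
    · have h1 := heven (g * Equiv.swap a (z a)) (mul_mem hg (hswap a))
        (by rw [Perm.sign_mul, h, Perm.sign_swap (Ne.symm ha)]; rfl)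
      exact ((T' : Subgroup (Perm α)).mul_mem_cancel_right (swap_mem T' hz hT'C a)).mp h1
  have heq' : T' = T := Sylow.ext (le_antisymm (T.is_maximal' T'.isPGroup' hle).le hle)
  have hinv := mem_of_mem_normalizer _ α rfl T y⁻¹ (Sylow.smul_eq_iff_mem_normalizer.mp heq')
  exact inv_mem_iff.mp hinv

end CfsgLib.Frobenius.AltSylowTwo
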