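import Mathlib
import Cfsg.Agent.Lib.PGroup.Basic

/-!
The automorphism group of a nonabelian finite group `G` has at most `|G|/p` orbits on `G`,
`p` the least prime divisor of `|G|`.
-/

set_option autoImplicit false

universe u

namespace CfsgLib.Frobenius.AutOrbits

open Subgroup MulAction

variable {G : Type u} [Group G]

section counting

variable [Finite G]

theorem isConj_mem_orbit {x y : G} (h : IsConj x y) : y ∈ orbit (MulAut G) x := by
  obtain ⟨c, rfl⟩ := isConj_iff.1 h
  exact ⟨MulAut.conj c, rfl⟩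

theorem index_centralizer_le_orbit (x : G) :
    (centralizer ({x} : Set G)).index ≤ Nat.card (orbit (MulAut G) x) := by
  rw [← CfsgLib.PGroup.Basic.conj_card_eq_index]
  exact Nat.card_le_card_of_injective (fun y => ⟨y.1, isConj_mem_orbit y.2⟩)
    fun a b h => Subtype.ext (by simpa using congrArg Subtype.val h)

/-- Orbit counting with a distinguished set `S` of elements in large orbits. -/
theorem count {p : ℕ} (hp : 0 < p) (e : ℕ) (he : 0 < e)
    (hnc : ∀ x : G, x ∉ center G → p ≤ Nat.card (orbit (MulAut G) x))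
    (S : Set G) (hSZ : ∀ x ∈ S, x ∉ center G)
    (hS : ∀ x ∈ S, e ≤ Nat.card (orbit (MulAut G) x))
    (hmain : Nat.card (center G) * ((p - 1) * e) ≤ Nat.card S * (e - p)) :
    Nat.card (orbitRel.Quotient (MulAut G) G) * p ≤ Nat.card G := by
  classical
  have := Fintype.ofFinite G
  set f : G → ℚ := fun x => 1 / (Nat.card (orbit (MulAut G) x) : ℚ) with hf
  have hsum : ∑ x, f x = (Nat.card (orbitRel.Quotient (MulAut G) G) : ℚ) := by
    haveI : Fintype (orbitRel.Quotient (MulAut G) G) := Fintype.ofFinite _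
    rw [← Finset.sum_fiberwise Finset.univ
      (fun x => (Quotient.mk'' x : orbitRel.Quotient (MulAut G) G)) f, Nat.card_eq_fintype_card,
      ← Finset.card_univ, Finset.card_eq_sum_ones, Nat.cast_sum]
    refine Finset.sum_congr rfl fun q _ => ?_
    obtain ⟨x, rfl⟩ := Quotient.mk''_surjective q
    set s := Finset.univ.filter fun y => (Quotient.mk'' y : orbitRel.Quotient (MulAut G) G) = Quotient.mk'' x
    have hs : ∀ y, y ∈ s ↔ y ∈ orbit (MulAut G) x := fun y => by
      simp only [s, Finset.mem_filter, Finset.mem_univ, true_and, Quotient.eq'', orbitRel_apply]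
    have h1 : ∀ y ∈ s, f y = 1 / (s.card : ℚ) := by
      intro y hy
      have : Nat.card (orbit (MulAut G) y) = s.card := by
        rw [orbit_eq_iff.2 ((hs y).1 hy), ← Nat.card_eq_finsetCard]
        exact Nat.card_congr (Equiv.subtypeEquivRight fun z => (hs z).symm)
      rw [hf]; simp only [this]
    rw [Finset.sum_congr rfl h1, Finset.sum_const, nsmul_eq_mul, Nat.cast_one]
    have hne : (s.card : ℚ) ≠ 0 :=
      Nat.cast_ne_zero.2 (Finset.card_ne_zero_of_mem ((hs x).2 (mem_orbit_self x)))
    field_simp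
  have hpe : (0 : ℚ) < p := Nat.cast_pos.2 hp
  have heq : (0 : ℚ) < e := Nat.cast_pos.2 he
  have hbd : ∀ x, f x ≤ 1 / (p : ℚ) + (if x ∈ center G then 1 - 1 / (p : ℚ) else 0) -
      (if x ∈ S then 1 / (p : ℚ) - 1 / (e : ℚ) else 0) := by
    intro x
    have hpos : 0 < Nat.card (orbit (MulAut G) x) := by
      haveI : Nonempty (orbit (MulAut G) x) := ⟨⟨x, mem_orbit_self x⟩⟩
      exact Nat.card_pos
    by_cases hx : x ∈ center G
    · rw [if_pos hx, if_neg fun h => hSZ x h hx]
      have : f x ≤ 1 := by
        rw [hf]; exact div_le_self zero_le_one (by exact_mod_cast hpos)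
      linarith
    · rw [if_neg hx]
      by_cases hxS : x ∈ S
      · rw [if_pos hxS]
        have : f x ≤ 1 / (e : ℚ) := by
          rw [hf]; exact one_div_le_one_div_of_le heq (by exact_mod_cast hS x hxS)
        linarith
      · rw [if_neg hxS]
        have : f x ≤ 1 / (p : ℚ) := by
          rw [hf]; exact one_div_le_one_div_of_le hpe (by exact_mod_cast hnc x hx)
        linarith
  have h1 := Finset.sum_le_sum (s := Finset.univ) fun x _ => hbd x
  rw [hsum, Finset.sum_sub_distrib, Finset.sum_add_distrib, ← Finset.sum_filter, ← Finset.sum_filter,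
    Finset.sum_const, Finset.sum_const, Finset.sum_const] at h1
  simp only [nsmul_eq_mul, Finset.card_univ, ← Nat.card_eq_fintype_card] at h1
  have eZ : (Finset.univ.filter fun x : G => x ∈ center G).card = Nat.card (center G) := by
    rw [← Nat.card_eq_finsetCard]
    exact Nat.card_congr (Equiv.subtypeEquivRight (by simp))
  have eS : (Finset.univ.filter fun x : G => x ∈ S).card = Nat.card S := by
    rw [← Nat.card_eq_finsetCard]
    exact Nat.card_congr (Equiv.subtypeEquivRight (by simp))
  rw [eZ, eS] at h1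
  have h2 : (Nat.card (center G) : ℚ) * (1 - 1 / (p : ℚ)) ≤ Nat.card S * (1 / (p : ℚ) - 1 / e) := by
    have hZ0 : 0 < Nat.card (center G) := Nat.card_pos
    rcases Nat.lt_or_ge e p with hlt | hge
    · have h0 : Nat.card (center G) * ((p - 1) * e) ≤ 0 := by
        calc _ ≤ _ := hmain
          _ = 0 := by rw [Nat.sub_eq_zero_of_le hlt.le, mul_zero]
      have : 0 < Nat.card (center G) * ((p - 1) * e) :=
        Nat.mul_pos hZ0 (Nat.mul_pos (by omega) he)
      omega
    · have hm : ((Nat.card (center G) : ℚ) * (((p : ℚ) - 1) * e)) ≤ Nat.card S * ((e : ℚ) - p) := by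
        have := (Nat.cast_le (α := ℚ)).2 hmain
        rw [Nat.cast_mul, Nat.cast_mul, Nat.cast_mul, Nat.cast_sub (by omega : 1 ≤ p),
          Nat.cast_sub hge, Nat.cast_one] at this
        exact this
      have e1 : (Nat.card (center G) : ℚ) * (1 - 1 / (p : ℚ)) =
          (Nat.card (center G) : ℚ) * (((p : ℚ) - 1) * e) / (p * e) := by field_simp
      have e2 : (Nat.card S : ℚ) * (1 / (p : ℚ) - 1 / e) =
          (Nat.card S : ℚ) * ((e : ℚ) - p) / (p * e) := by field_simp
      rw [e1, e2]
      exact (div_le_div_iff_of_pos_right (mul_pos hpe heq)).2 hm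
  have h3 : (Nat.card (orbitRel.Quotient (MulAut G) G) : ℚ) ≤ (Nat.card G : ℚ) * (1 / (p : ℚ)) := by
    linarith
  rw [mul_one_div, le_div_iff₀ hpe] at h3
  exact_mod_cast h3

end counting

/-! ### Derivations on a normal subgroup of prime index -/

/-- `P t n h = (h t)^n t^{-n}`. -/
def P (t : G) (n : ℕ) (h : G) : G := (h * t) ^ n * (t ^ n)⁻¹

theorem P_zero (t h : G) : P t 0 h = 1 := by simp [P]

theorem P_one (t h : G) : P t 1 h = h := by simp [P]

theorem P_add (t h : G) (i j : ℕ) : P t (i + j) h = P t i h * (t ^ i * P t j h * (t ^ i)⁻¹) := by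
  simp [P, pow_add, mul_assoc]

theorem P_succ (t h : G) (i : ℕ) : P t (i + 1) h = P t i h * (t ^ i * h * (t ^ i)⁻¹) := by
  rw [P_add, P_one]

variable {M : Subgroup G}

/-- The centre of `M`, as a subgroup of `G`. -/
abbrev W (M : Subgroup G) : Subgroup G := M ⊓ centralizer (M : Set G)

theorem W_comm {a b : G} (ha : a ∈ W M) (hb : b ∈ W M) : a * b = b * a :=
  mem_centralizer_iff.1 hb.2 a ha.1

theorem W_conj [M.Normal] {w : G} (hw : w ∈ W M) (g : G) : g * w * g⁻¹ ∈ W M := by
  refine ⟨Subgroup.Normal.conj_mem inferInstance w hw.1 g, mem_centralizer_iff.2 fun m hm => ?_⟩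
  have hm' : g⁻¹ * m * g ∈ M := Subgroup.Normal.conj_mem' inferInstance m hm g
  have h1 := mem_centralizer_iff.1 hw.2 _ hm'
  calc m * (g * w * g⁻¹) = g * (g⁻¹ * m * g * w) * g⁻¹ := by group
    _ = g * (w * (g⁻¹ * m * g)) * g⁻¹ := by rw [h1]
    _ = g * w * g⁻¹ * m := by group

instance W_normal [M.Normal] : (W M).Normal := ⟨fun w hw g => W_conj hw g⟩

theorem P_mem [M.Normal] (t : G) {h : G} (hh : h ∈ W M) : ∀ n, P t n h ∈ W M := by
  intro n
  induction n with
  | zero => rw [P_zero]; exact one_mem _
  | succ n ih => rw [P_succ]; exact mul_mem ih (W_conj hh _)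

theorem P_mul [M.Normal] (t : G) {a b : G} (ha : a ∈ W M) (hb : b ∈ W M) :
    ∀ n, P t n (a * b) = P t n a * P t n b := by
  intro n
  induction n with
  | zero => simp [P_zero]
  | succ n ih =>
    have h1 : (t ^ n * a * (t ^ n)⁻¹) * P t n b = P t n b * (t ^ n * a * (t ^ n)⁻¹) :=
      W_comm (W_conj ha _) (P_mem t hb n)
    rw [P_succ, P_succ, P_succ, ih]
    calc P t n a * P t n b * (t ^ n * (a * b) * (t ^ n)⁻¹)
        = P t n a * (P t n b * (t ^ n * a * (t ^ n)⁻¹)) * (t ^ n * b * (t ^ n)⁻¹) := by group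
      _ = P t n a * ((t ^ n * a * (t ^ n)⁻¹) * P t n b) * (t ^ n * b * (t ^ n)⁻¹) := by rw [h1]
      _ = P t n a * (t ^ n * a * (t ^ n)⁻¹) * (P t n b * (t ^ n * b * (t ^ n)⁻¹)) := by group

/-- The norm map `h ↦ (h t)^p t^{-p}` on the centre of `M`. -/
def norm (M : Subgroup G) [M.Normal] (t : G) (p : ℕ) : W M →* W M where
  toFun h := ⟨P t p h.1, P_mem t h.2 p⟩
  map_one' := Subtype.ext (by simp [P])
  map_mul' a b := Subtype.ext (P_mul t a.2 b.2 p)

section prime

variable [M.Normal] {p : ℕ} [hp : Fact p.Prime] {t : G}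

theorem pow_mem_iff (hM : M.index = p) (ht : t ∉ M) (k : ℕ) : t ^ k ∈ M ↔ p ∣ k := by
  have hne : (QuotientGroup.mk' M) t ≠ 1 := fun h => ht ((QuotientGroup.eq_one_iff t).1 h)
  have hord : orderOf ((QuotientGroup.mk' M) t) = p := by
    refine orderOf_eq_prime ?_ hne
    rw [← hM, Subgroup.index_eq_card]
    exact pow_card_eq_one'
  rw [← hord, orderOf_dvd_iff_pow_eq_one, ← map_pow]
  exact (QuotientGroup.eq_one_iff _).symm

theorem exists_pow (hM : M.index = p) (ht : t ∉ M) (x : G) : ∃ k : ℕ, x * (t ^ k)⁻¹ ∈ M := by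
  have hne : (QuotientGroup.mk' M) t ≠ 1 := fun h => ht ((QuotientGroup.eq_one_iff t).1 h)
  have hc : Nat.card (G ⧸ M) = p := by rw [← Subgroup.index_eq_card, hM]
  haveI : Finite (G ⧸ M) := Nat.finite_of_card_ne_zero (hc ▸ hp.out.ne_zero)
  obtain ⟨k, hk⟩ : ∃ k : ℕ, ((QuotientGroup.mk' M) t) ^ k = (QuotientGroup.mk' M) x :=
    mem_powers_iff_mem_zpowers.2 (mem_zpowers_of_prime_card hc hne)
  refine ⟨k, (QuotientGroup.eq_one_iff _).1 ?_⟩
  change (QuotientGroup.mk' M) (x * (t ^ k)⁻¹) = 1
  rw [map_mul, map_inv, map_pow, hk, mul_inv_cancel]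

theorem P_period {h : G} (hh : P t p h = 1) : ∀ i j, i % p = j % p → P t i h = P t j h := by
  have h1 : ∀ i q, P t (i + p * q) h = P t i h := by
    intro i q
    induction q with
    | zero => simp
    | succ q ih => rw [Nat.mul_succ, ← Nat.add_assoc, P_add, hh, ih]; group
  intro i j e
  rw [← Nat.mod_add_div i p, ← Nat.mod_add_div j p, h1, h1, e]

/-- The derivation automorphism attached to a norm one element of the centre of `M`. -/
theorem exists_aut (hM : M.index = p) (ht : t ∉ M) {h : G} (hW : h ∈ W M) (hh : P t p h = 1) :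
    ∃ ψ : MulAut G, ∀ (x : G) (k : ℕ), x * (t ^ k)⁻¹ ∈ M → ψ x = P t k h * x := by
  choose kk hkk using exists_pow hM ht
  have huniq : ∀ (x : G) (k : ℕ), x * (t ^ k)⁻¹ ∈ M → P t (kk x) h = P t k h := by
    intro x k hk
    refine P_period hh _ _ ?_
    have h1 : t ^ k * (t ^ kk x)⁻¹ ∈ M := by
      have := mul_mem (inv_mem hk) (hkk x)
      simpa [mul_assoc] using this
    rcases Nat.le_total (kk x) k with hle | hle
    · obtain ⟨d, rfl⟩ := Nat.le.dest hle
      rw [add_comm, pow_add, mul_inv_cancel_right, pow_mem_iff hM ht] at h1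
      obtain ⟨q, rfl⟩ := h1
      simp
    · obtain ⟨d, hd⟩ := Nat.le.dest hle
      rw [← hd, add_comm, pow_add, mul_inv_rev, mul_inv_cancel_left, inv_mem_iff,
        pow_mem_iff hM ht] at h1
      obtain ⟨q, rfl⟩ := h1
      rw [← hd]; simp
  let φ : G →* G :=
    { toFun := fun x => P t (kk x) h * x
      map_one' := by rw [huniq 1 0 (by simp), P_zero, one_mul]
      map_mul' := fun x y => by
        have hxy : x * y * (t ^ (kk x + kk y))⁻¹ ∈ M := by
          have h2 := mul_mem (hkk x)
            (Subgroup.Normal.conj_mem inferInstance _ (hkk y) (t ^ kk x))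
          simpa [pow_add, mul_assoc] using h2
        rw [huniq _ _ hxy, P_add]
        have hD : t ^ kk x * P t (kk y) h * (t ^ kk x)⁻¹ ∈ W M := W_conj (P_mem t hW _) _
        have hc := mem_centralizer_iff.1 hD.2 _ (hkk x)
        have e : x * P t (kk y) h * x⁻¹ = t ^ kk x * P t (kk y) h * (t ^ kk x)⁻¹ := by
          calc x * P t (kk y) h * x⁻¹
              = (x * (t ^ kk x)⁻¹) * (t ^ kk x * P t (kk y) h * (t ^ kk x)⁻¹) * (x * (t ^ kk x)⁻¹)⁻¹ := by
                group
            _ = (t ^ kk x * P t (kk y) h * (t ^ kk x)⁻¹) * (x * (t ^ kk x)⁻¹) * (x * (t ^ kk x)⁻¹)⁻¹ := by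
                rw [hc]
            _ = _ := mul_inv_cancel_right _ _
        rw [← e]
        group }
  have hinj : Function.Injective φ := by
    rw [injective_iff_map_eq_one]
    intro x hx
    change P t (kk x) h * x = 1 at hx
    have hxM : x ∈ M := by
      rw [eq_inv_of_mul_eq_one_right hx]
      exact inv_mem (P_mem t hW _).1
    rwa [huniq x 0 (by simpa using hxM), P_zero, one_mul] at hx
  have hsurj : Function.Surjective φ := by
    intro y
    refine ⟨(P t (kk y) h)⁻¹ * y, ?_⟩
    change P t (kk ((P t (kk y) h)⁻¹ * y)) h * ((P t (kk y) h)⁻¹ * y) = y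
    rw [huniq _ (kk y) (by rw [mul_assoc]; exact mul_mem (inv_mem (P_mem t hW _).1) (hkk y))]
    group
  exact ⟨MulEquiv.ofBijective φ ⟨hinj, hsurj⟩, fun x k hk => by
    change P t (kk x) h * x = _
    rw [huniq x k hk]⟩

/-- Elements outside `M` have orbits at least as large as the norm kernel. -/
theorem ker_le_orbit [Finite G] (hM : M.index = p) (ht : t ∉ M) {x : G} (hx : x ∉ M) :
    Nat.card (norm M t p).ker ≤ Nat.card (orbit (MulAut G) x) := by
  obtain ⟨k, hk⟩ := exists_pow hM ht x
  have hpk : ¬ p ∣ k := fun h => hx (by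
    have := mul_mem hk ((pow_mem_iff hM ht k).2 h)
    simpa using this)
  have hP : ∀ w : (norm M t p).ker, P t p (w.1 : G) = 1 := fun w => congrArg Subtype.val w.2
  choose ψ hψ using fun w : (norm M t p).ker => exists_aut hM ht w.1.2 (hP w)
  refine Nat.card_le_card_of_injective (fun w => ⟨ψ w x, ψ w, rfl⟩) fun a b hab => ?_
  have h1 : P t k (a.1 : G) * x = P t k (b.1 : G) * x := by
    rw [← hψ a x k hk, ← hψ b x k hk]
    exact congrArg Subtype.val hab
  have hk1 : ((a.1 : G) * t) ^ k = ((b.1 : G) * t) ^ k :=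
    mul_right_cancel (mul_right_cancel h1)
  have hp1 : ((a.1 : G) * t) ^ p = ((b.1 : G) * t) ^ p :=
    mul_right_cancel ((hP a).trans (hP b).symm)
  have hg : ((Nat.gcd k p : ℕ) : ℤ) = 1 := by
    rw [(Nat.Coprime.symm ((Nat.Prime.coprime_iff_not_dvd hp.out).2 hpk) : Nat.gcd k p = 1)]
    rfl
  have key : ∀ z : G, z = (z ^ k) ^ Nat.gcdA k p * (z ^ p) ^ Nat.gcdB k p := by
    intro z
    rw [← zpow_natCast z k, ← zpow_natCast z p, ← zpow_mul, ← zpow_mul, ← zpow_add,
      ← Nat.gcd_eq_gcd_ab, hg, zpow_one]
  have h2 : (a.1 : G) * t = (b.1 : G) * t := by rw [key (a.1 * t), hk1, hp1, ← key]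
  exact Subtype.ext (Subtype.ext (mul_right_cancel h2))

/-- The norm lands in the centre of `G`. -/
theorem norm_mem_center (hM : M.index = p) (ht : t ∉ M) (w : W M) :
    (norm M t p w : G) ∈ center G := by
  have hN := (norm M t p w).2
  have htN : t * (norm M t p w : G) = (norm M t p w : G) * t := by
    change t * P t p (w : G) = P t p (w : G) * t
    have hc : (w : G) * P t p (w : G) = P t p (w : G) * w := W_comm w.2 (P_mem t w.2 p)
    have htp : t ^ p * (w : G) = (w : G) * t ^ p :=
      mem_centralizer_iff.1 w.2.2 _ ((pow_mem_iff hM ht p).2 dvd_rfl)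
    have h1 : P t (1 + p) (w : G) = P t (p + 1) (w : G) := by rw [add_comm]
    rw [P_add, P_one, pow_one, P_succ, htp, mul_inv_cancel_right, ← hc] at h1
    have h2 := mul_left_cancel h1
    calc t * P t p (w : G) = t * P t p (w : G) * t⁻¹ * t := by group
      _ = P t p (w : G) * t := by rw [h2]
  refine Subgroup.mem_center_iff.2 fun g => ?_
  obtain ⟨k, hk⟩ := exists_pow hM ht g
  have h1 : g * (t ^ k)⁻¹ * (norm M t p w : G) = (norm M t p w : G) * (g * (t ^ k)⁻¹) :=
    mem_centralizer_iff.1 hN.2 _ hk
  have h2 : t ^ k * (norm M t p w : G) = (norm M t p w : G) * t ^ k :=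
    (Commute.pow_left (htN : Commute t _) k).eq
  calc g * (norm M t p w : G) = g * (t ^ k)⁻¹ * (t ^ k * (norm M t p w : G)) := by group
    _ = g * (t ^ k)⁻¹ * (norm M t p w : G) * t ^ k := by rw [h2]; group
    _ = (norm M t p w : G) * (g * (t ^ k)⁻¹) * t ^ k := by rw [h1]
    _ = (norm M t p w : G) * g := by group

/-- An element outside `M` centralising an element of `W M` forces it to be central. -/
theorem mem_center_of_commute (hM : M.index = p) {x w : G} (hx : x ∉ M) (hw : w ∈ W M)
    (hc : x * w = w * x) : w ∈ center G := by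
  refine Subgroup.mem_center_iff.2 fun g => ?_
  obtain ⟨k, hk⟩ := exists_pow hM hx g
  have h1 : g * (x ^ k)⁻¹ * w = w * (g * (x ^ k)⁻¹) := mem_centralizer_iff.1 hw.2 _ hk
  have h2 : x ^ k * w = w * x ^ k := (Commute.pow_left (hc : Commute x w) k).eq
  calc g * w = g * (x ^ k)⁻¹ * (x ^ k * w) := by group
    _ = g * (x ^ k)⁻¹ * w * x ^ k := by rw [h2]; group
    _ = w * g := by rw [h1]; group

end prime

section final

variable [Finite G] {p : ℕ} [hp : Fact p.Prime]

theorem centralizer_commute {g x : G} :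
    x ∈ centralizer ({g} : Set G) ↔ x * g = g * x := mem_centralizer_singleton_iff

theorem index_ne_one {g : G} (hg : g ∉ center G) : (centralizer ({g} : Set G)).index ≠ 1 := by
  intro h
  refine hg (Subgroup.mem_center_iff.2 fun x => centralizer_commute.1 ?_)
  rw [Subgroup.index_eq_one.1 h]; exact mem_top x

theorem orbits_le (hmin : p = (Nat.card G).minFac) (hna : ¬ IsMulCommutative G) :
    Nat.card (orbitRel.Quotient (MulAut G) G) * p ≤ Nat.card G := by
  classical
  have hleast : ∀ d, d ∣ Nat.card G → d ≠ 1 → p ≤ d := by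
    intro d hd h1
    have hd0 : d ≠ 0 := fun h => Nat.card_pos.ne' (Nat.eq_zero_of_zero_dvd (h ▸ hd) : Nat.card G = 0)
    exact hmin ▸ Nat.minFac_le_of_dvd (by omega) hd
  have hnc : ∀ x : G, x ∉ center G → p ≤ Nat.card (orbit (MulAut G) x) := fun x hx =>
    (hleast _ (index_dvd_card _) (index_ne_one hx)).trans (index_centralizer_le_orbit x)
  have hZpos : 0 < Nat.card (center G) := Nat.card_pos
  have hZnc : ¬ (center G = ⊤) := fun h => hna ⟨⟨fun a b =>
    (Subgroup.mem_center_iff.1 (h ▸ mem_top b : b ∈ center G) a)⟩⟩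
  -- no class of size `p`
  by_cases hA1 : ∀ g : G, (centralizer ({g} : Set G)).index ≠ p
  · refine count hp.out.pos (p + 1) (Nat.succ_pos _) hnc {x | x ∉ center G} (fun x hx => hx)
      (fun x hx => ?_) ?_
    · have h1 := hleast _ (index_dvd_card (centralizer ({x} : Set G))) (index_ne_one hx)
      have h2 := index_centralizer_le_orbit x
      have := hA1 x
      omega
    · have hS : Nat.card {x : G | x ∉ center G} + Nat.card (center G) = Nat.card G := by
        rw [Nat.card_coe_set_eq, show Nat.card (center G) = (center G : Set G).ncard from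
          (Nat.card_coe_set_eq _), ← Set.ncard_add_ncard_compl (center G : Set G), add_comm]
        rfl
      have hZG := (center G).card_mul_index
      have hi1 : (center G).index ≠ 1 := fun h => hZnc (Subgroup.index_eq_one.1 h)
      have hip : ¬ (center G).index.Prime := by
        intro h
        haveI := Fact.mk h
        haveI : IsCyclic (G ⧸ center G) := isCyclic_of_prime_card (by rw [← Subgroup.index_eq_card])
        exact hna ⟨⟨commutative_of_cyclic_center_quotient (QuotientGroup.mk' (center G))
          (by rw [QuotientGroup.ker_mk'])⟩⟩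
      have hsq : p * p ≤ (center G).index := by
        have hdvd := (center G).index_dvd_card
        have hq := Nat.minFac_prime hi1
        obtain ⟨c, hc⟩ := Nat.minFac_dvd (center G).index
        have hc1 : c ≠ 1 := fun h => hip (by rw [hc, h, mul_one]; exact hq)
        rw [hc]
        exact Nat.mul_le_mul
          (hleast _ ((Nat.minFac_dvd _).trans hdvd) hq.ne_one)
          (hleast _ ((Dvd.intro_left _ hc.symm).trans hdvd) hc1)
      have hp1 := hp.out.one_lt
      obtain ⟨q, rfl⟩ : ∃ q, p = q + 1 := ⟨p - 1, by omega⟩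
      rw [show q + 1 + 1 - (q + 1) = 1 by omega, mul_one, Nat.add_sub_cancel]
      nlinarith [Nat.mul_le_mul_left (Nat.card (center G)) hsq]
  -- from now on there is a class of size `p`
  push Not at hA1
  by_contra hgoal
  -- the structure attached to a class of size `p`
  have step : ∀ g : G, (centralizer ({g} : Set G)).index = p →
      ∀ t ∉ centralizer ({g} : Set G), (centralizer ({t} : Set G)).index = p ∧
        ∃ hn : (centralizer ({g} : Set G)).Normal,
          Nat.card (center G) * p = Nat.card (W (centralizer ({g} : Set G))) ∧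
          ∀ z ∈ center G, ∃ w : W (centralizer ({g} : Set G)),
            (norm (centralizer ({g} : Set G)) t p w : G) = z := by
    intro g hg t ht
    set M := centralizer ({g} : Set G) with hM
    haveI hn : M.Normal := normal_of_index_eq_minFac_card (hg.trans hmin)
    have hgW : g ∈ W M := ⟨centralizer_commute.2 rfl,
      mem_centralizer_iff.2 fun m hm => centralizer_commute.1 hm⟩
    have hgZ : g ∉ center G := fun h => hp.out.ne_one (by
      rw [← hg, Subgroup.index_eq_one, eq_top_iff]
      exact fun x _ => centralizer_commute.2 (Subgroup.mem_center_iff.1 h x))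
    have hZM : center G ≤ M := center_le_centralizer _
    have hZW : center G ≤ W M := le_inf hZM (center_le_centralizer _)
    set r := (center G).relIndex (W M) with hr
    have hZr : Nat.card (center G) * r = Nat.card (W M) := by
      rw [hr, Subgroup.relIndex, ← Nat.card_congr (subgroupOfEquivOfLe hZW).toEquiv]
      exact ((center G).subgroupOf (W M)).card_mul_index
    have hrp : p ≤ r := by
      refine hleast r ?_ fun h => hgZ (Subgroup.relIndex_eq_one.1 h hgW)
      exact (Dvd.intro_left _ hZr).trans (card_subgroup_dvd_card _)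
    set K := (norm M t p).ker with hK
    set NW := (norm M t p).range with hNW
    have hNZ : NW ≤ (center G).subgroupOf (W M) := by
      rintro _ ⟨w, rfl⟩
      exact norm_mem_center hg ht w
    obtain ⟨j, hj⟩ := card_dvd_of_le hNZ
    rw [Nat.card_congr (subgroupOfEquivOfLe hZW).toEquiv] at hj
    have hKN : Nat.card K * Nat.card NW = Nat.card (W M) := by
      have h := K.card_mul_index
      rwa [hK, Subgroup.index_ker] at h
    have hKr : Nat.card K = j * r := by
      refine Nat.eq_of_mul_eq_mul_right (Nat.card_pos (α := NW)) ?_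
      rw [hKN, ← hZr, hj]; ring
    have hj0 : 0 < j := Nat.pos_of_ne_zero fun h => by rw [h, mul_zero] at hj; omega
    have hGM : Nat.card G = Nat.card M * p := by rw [← hg, Subgroup.card_mul_index]
    have hout : ∀ x, x ∉ M → x ∉ center G := fun x hx h => hx (hZM h)
    -- Case A
    have he : Nat.card K ≤ p := by
      by_contra hgt
      push Not at hgt
      refine hgoal (count hp.out.pos (Nat.card K) (by omega) hnc {x | x ∉ M} hout
        (fun x hx => ker_le_orbit hg ht hx) ?_)
      have hS : Nat.card {x : G | x ∉ M} = Nat.card M * (p - 1) := by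
        have h1 := Set.ncard_add_ncard_compl (M : Set G)
        rw [← Nat.card_coe_set_eq, ← Nat.card_coe_set_eq, SetLike.coe_sort_coe, hGM] at h1
        rw [Nat.mul_sub_one]
        change Nat.card ((M : Set G)ᶜ : Set G) = _
        omega
      have hMZ : Nat.card (center G) * r ≤ Nat.card M := by
        rw [hZr]; exact Subgroup.card_le_of_le inf_le_left
      have hmain : Nat.card K ≤ r * (Nat.card K - p) := by
        rcases Nat.lt_or_ge j 2 with hj2 | hj2
        · have hj1 : j = 1 := by omega
          rw [hKr, hj1, one_mul]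
          exact Nat.le_mul_of_pos_right r (by
            have : p < r := by rw [hKr, hj1, one_mul] at hgt; exact hgt
            omega)
        · have h2 : 2 * p ≤ Nat.card K := by rw [hKr]; exact Nat.mul_le_mul hj2 hrp
          calc Nat.card K ≤ 2 * (Nat.card K - p) := by omega
            _ ≤ r * (Nat.card K - p) := Nat.mul_le_mul_right _ (hp.out.two_le.trans hrp)
      rw [hS]
      calc Nat.card (center G) * ((p - 1) * Nat.card K)
          ≤ Nat.card (center G) * ((p - 1) * (r * (Nat.card K - p))) :=
            Nat.mul_le_mul_left _ (Nat.mul_le_mul_left _ hmain)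
        _ = Nat.card (center G) * r * (p - 1) * (Nat.card K - p) := by ring
        _ ≤ _ := Nat.mul_le_mul_right _ (Nat.mul_le_mul_right _ hMZ)
    have hjr : j = 1 ∧ r = p := by
      have h1 : j * r ≤ p := hKr ▸ he
      have h2 : j * p ≤ j * r := Nat.mul_le_mul_left j hrp
      have h3 : j ≤ 1 := by
        by_contra h; push Not at h
        have : 2 * p ≤ j * p := Nat.mul_le_mul_right p h
        have := hp.out.pos; omega
      have hj1 : j = 1 := by omega
      rw [hj1, one_mul] at h1
      exact ⟨hj1, le_antisymm h1 hrp⟩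
    have hnorm : ∀ z ∈ center G, ∃ w : W M, (norm M t p w : G) = z := by
      intro z hz
      have heq : NW = (center G).subgroupOf (W M) := Subgroup.eq_of_le_of_card_ge hNZ (by
        rw [Nat.card_congr (subgroupOfEquivOfLe hZW).toEquiv, hj, hjr.1, mul_one])
      have hmem : (⟨z, hZW hz⟩ : W M) ∈ NW := heq ▸ hz
      obtain ⟨w, hw⟩ := hmem
      exact ⟨w, by rw [hw]⟩
    -- class sizes outside `M` are multiples of `p`
    have hdvd : ∀ x, x ∉ M → p ∣ (centralizer ({x} : Set G)).index := by
      intro x hx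
      set C := centralizer ({x} : Set G) with hC
      have hint : W M ⊓ C = center G := by
        refine le_antisymm (fun w hw => ?_) (le_inf hZW (center_le_centralizer _))
        exact mem_center_of_commute hg hx hw.1 (centralizer_commute.1 hw.2).symm
      have hrC : C.relIndex (W M) = r := by
        rw [hr, ← hint, inf_comm, Subgroup.inf_relIndex_right]
      obtain ⟨k, hk⟩ := Subgroup.relIndex_dvd_index_of_normal (W M) C
      have e1 : Nat.card ↥(W M ⊓ C : Subgroup G) * C.relIndex (W M) = Nat.card (W M) := by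
        rw [hint, hrC, hZr]
      have e2 : Nat.card ↥(W M ⊓ C : Subgroup G) * (W M).relIndex C = Nat.card C := by
        rw [← Nat.card_congr (subgroupOfEquivOfLe (inf_le_right : W M ⊓ C ≤ C)).toEquiv,
          ← Subgroup.inf_relIndex_right, Subgroup.relIndex]
        exact ((W M ⊓ C).subgroupOf C).card_mul_index
      have e3 := (W M).card_mul_index
      have e4 := C.card_mul_index
      refine ⟨k, ?_⟩
      have hb : 0 < Nat.card ↥(W M ⊓ C : Subgroup G) * (W M).relIndex C := e2 ▸ Nat.card_pos
      refine Nat.eq_of_mul_eq_mul_left hb ?_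
      calc Nat.card ↥(W M ⊓ C : Subgroup G) * (W M).relIndex C * C.index
          = Nat.card (W M) * (W M).index := by rw [e2, e4, e3]
        _ = Nat.card ↥(W M ⊓ C : Subgroup G) * r * ((W M).relIndex C * k) := by
            rw [← hk, ← hrC, e1]
        _ = _ := by rw [hjr.2]; ring
    refine ⟨?_, hn, by rw [← hjr.2, hZr], hnorm⟩
    -- Case B
    by_contra hne
    obtain ⟨a, ha⟩ := hdvd t ht
    have hta : 2 * p ≤ (centralizer ({t} : Set G)).index := by
      rcases Nat.lt_or_ge a 2 with h | h
      · interval_cases a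
        · exact absurd (by rw [ha, mul_zero] : (centralizer ({t} : Set G)).index = 0)
            Subgroup.index_ne_zero_of_finite
        · exact absurd (by rw [ha, mul_one]) hne
      · rw [ha, mul_comm 2 p]; exact Nat.mul_le_mul_left p h
    have hcop : ∀ i : Fin (p - 1), (orderOf t).Coprime (i.1 + 1) := by
      intro i
      refine Nat.Coprime.symm (Nat.coprime_of_dvd fun q hq hq1 hq2 => ?_)
      have h1 := hleast q (hq2.trans (orderOf_dvd_natCard t)) hq.ne_one
      have h2 := Nat.le_of_dvd (Nat.succ_pos _) hq1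
      have := i.2
      omega
    let F : Fin (p - 1) × W M → G := fun a => t ^ (a.1.1 + 1) * a.2
    have hFinj : Function.Injective F := by
      rintro ⟨i, w⟩ ⟨i', w'⟩ h
      change t ^ (i.1 + 1) * (w : G) = t ^ (i'.1 + 1) * (w' : G) at h
      have key : ∀ a b : ℕ, ∀ u v : W M, a ≤ b → b < p → t ^ a * (u : G) = t ^ b * (v : G) → a = b := by
        intro a b u v hab hb hh
        obtain ⟨d, rfl⟩ := Nat.le.dest hab
        rw [pow_add, mul_assoc] at hh
        have hd : t ^ d ∈ M := by
          have := mul_left_cancel hh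
          rw [← mul_inv_eq_iff_eq_mul] at this
          rw [← this]; exact mul_mem u.2.1 (inv_mem v.2.1)
        have hd2 := (pow_mem_iff hg ht d).1 hd
        rcases Nat.eq_zero_or_pos d with rfl | hd0
        · rfl
        · have := Nat.le_of_dvd hd0 hd2; omega
      have hii : i.1 + 1 = i'.1 + 1 := by
        have hi := i.2; have hi' := i'.2
        rcases Nat.le_total (i.1 + 1) (i'.1 + 1) with hle | hle
        · exact key _ _ w w' hle (by omega) h
        · exact (key _ _ w' w hle (by omega) h.symm).symm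
      rw [hii] at h
      refine Prod.ext (Fin.ext ?_) (Subtype.ext (mul_left_cancel h))
      change i.1 = i'.1
      omega
    have hFout : ∀ a, F a ∉ M := by
      rintro ⟨i, w⟩ h
      have h1 : t ^ (i.1 + 1) ∈ M := (Subgroup.mul_mem_cancel_right M w.2.1).1 h
      have h2 := Nat.le_of_dvd (Nat.succ_pos _) ((pow_mem_iff hg ht _).1 h1)
      have := i.2; omega
    refine hgoal (count hp.out.pos (2 * p) (by have := hp.out.pos; omega) hnc (Set.range F)
      (by rintro _ ⟨a, rfl⟩; exact hout _ (hFout a)) ?_ ?_)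
    · rintro _ ⟨⟨i, w⟩, rfl⟩
      refine le_trans ?_ (index_centralizer_le_orbit _)
      -- the centraliser of `t^(i+1) w` lies in that of `t`, up to the order
      obtain ⟨m, hm⟩ := exists_pow_eq_self_of_coprime (hcop i).symm
      set C' := centralizer ({F (i, w)} : Set G) with hC'
      have hint : C' ⊓ M = centralizer ({t} : Set G) ⊓ M := by
        have hsame : ∀ y ∈ M, (y * F (i, w) = F (i, w) * y ↔ y * t = t * y) := by
          intro y hy
          have hyw : y * (w : G) = (w : G) * y := mem_centralizer_iff.1 w.2.2 y hy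
          change y * (t ^ (i.1 + 1) * (w : G)) = t ^ (i.1 + 1) * (w : G) * y ↔ _
          rw [mul_assoc (t ^ (i.1 + 1)), ← hyw, ← mul_assoc, ← mul_assoc]
          rw [mul_left_inj]
          constructor
          · intro h
            have := (Commute.pow_right (h : Commute y (t ^ (i.1 + 1))) m).eq
            rwa [hm] at this
          · intro h
            exact (Commute.pow_right (h : Commute y t) _).eq
        ext y
        simp only [Subgroup.mem_inf, hC', centralizer_commute]
        exact ⟨fun h => ⟨(hsame y h.2).1 h.1, h.2⟩, fun h => ⟨(hsame y h.2).2 h.1, h.2⟩⟩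
      have hidx : ∀ x, x ∉ M → (centralizer ({x} : Set G)).index =
          (centralizer ({x} : Set G) ⊓ M).index / p := by
        intro x hx
        set C := centralizer ({x} : Set G) with hC
        have hCM : ¬ C ≤ M := fun h => hx (h (centralizer_commute.2 rfl))
        have h1 : M.relIndex C = p := by
          rcases (Nat.dvd_prime hp.out).1 (hg ▸ Subgroup.relIndex_dvd_index_of_normal M C) with h | h
          · exact absurd (Subgroup.relIndex_eq_one.1 h) hCM
          · exact h
        have h2 := Subgroup.relIndex_mul_index (inf_le_left : C ⊓ M ≤ C)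
        rw [inf_comm, Subgroup.inf_relIndex_right, inf_comm, h1] at h2
        rw [← h2, Nat.mul_div_cancel_left _ hp.out.pos]
      rw [hidx _ (hFout (i, w)), hint, ← hidx t ht]
      exact hta
    · have hS : Nat.card (Set.range F) = (p - 1) * Nat.card (W M) := by
        rw [Nat.card_range_of_injective hFinj, Nat.card_prod, Nat.card_fin]
      rw [hS, ← hZr, hjr.2, show 2 * p - p = p by omega]
      have := hp.out.two_le
      calc Nat.card (center G) * ((p - 1) * (2 * p))
          = (p - 1) * (Nat.card (center G) * p) * 2 := by ring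
        _ ≤ _ := Nat.mul_le_mul_left _ this
  -- all noncentral classes have size `p`
  obtain ⟨g0, hg0⟩ := hA1
  have hall : ∀ y, y ∉ center G → (centralizer ({y} : Set G)).index = p := by
    intro y hy
    by_cases hyM : y ∈ centralizer ({g0} : Set G)
    · obtain ⟨x, hxM, hxy⟩ : ∃ x, x ∉ centralizer ({g0} : Set G) ∧ y * x ≠ x * y := by
        by_contra hcon
        push Not at hcon
        obtain ⟨t, ht⟩ : ∃ t, t ∉ centralizer ({g0} : Set G) := by
          by_contra hh
          push Not at hh
          exact hp.out.ne_one (hg0 ▸ Subgroup.index_eq_one.2 (eq_top_iff.2 fun x _ => hh x))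
        refine hy (Subgroup.mem_center_iff.2 fun m => ?_)
        by_cases hm : m ∈ centralizer ({g0} : Set G)
        · have h1 := hcon _ (fun h => ht ((mul_mem_cancel_right hm).1 h) : t * m ∉ _)
          have h2 := hcon t ht
          refine (mul_left_cancel (a := t) ?_)
          calc t * (m * y) = (t * m) * y := by group
            _ = y * (t * m) := h1.symm
            _ = y * t * m := by group
            _ = t * y * m := by rw [h2]
            _ = t * (y * m) := by group
        · exact (hcon m hm).symm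
      obtain ⟨hx, -⟩ := step g0 hg0 x hxM
      exact (step x hx y fun h => hxy (centralizer_commute.1 h)).1
    · exact (step g0 hg0 y hyM).1
  have hnorm_all : ∀ y, y ∉ center G → (centralizer ({y} : Set G)).Normal := fun y hy =>
    normal_of_index_eq_minFac_card ((hall y hy).trans hmin)
  have hquot : ∀ x : G, x ∉ center G → Nat.card (G ⧸ centralizer ({x} : Set G)) = p :=
    fun x hx => by rw [← Subgroup.index_eq_card, hall x hx]
  have hcomm : ∀ a b : G, a * b * a⁻¹ * b⁻¹ ∈ center G := by
    intro a b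
    refine Subgroup.mem_center_iff.2 fun x => ?_
    by_cases hx : x ∈ center G
    · exact (Subgroup.mem_center_iff.1 hx _).symm
    haveI := hnorm_all x hx
    haveI : IsCyclic (G ⧸ centralizer ({x} : Set G)) := isCyclic_of_prime_card (hquot x hx)
    have h : a * b * a⁻¹ * b⁻¹ ∈ centralizer ({x} : Set G) := by
      rw [← QuotientGroup.eq_one_iff]
      change (QuotientGroup.mk' _) (a * b * a⁻¹ * b⁻¹) = 1
      rw [map_mul, map_mul, map_mul, map_inv, map_inv,
        (IsCyclic.commGroup (α := G ⧸ centralizer ({x} : Set G))).mul_comm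
          ((QuotientGroup.mk' _) a) ((QuotientGroup.mk' _) b)]
      group
    exact (centralizer_commute.1 h).symm
  have hpow : ∀ y : G, y ^ p ∈ center G := by
    intro y
    refine Subgroup.mem_center_iff.2 fun x => ?_
    by_cases hx : x ∈ center G
    · exact (Subgroup.mem_center_iff.1 hx _).symm
    haveI := hnorm_all x hx
    have h : y ^ p ∈ centralizer ({x} : Set G) := by
      rw [← hall x hx]; exact Subgroup.pow_index_mem _ y
    exact (centralizer_commute.1 h).symm
  -- conjugation and norms through the central commutator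
  have hconj : ∀ g t : G, ∀ n : ℕ, t ^ n * g * (t ^ n)⁻¹ = g * (g⁻¹ * t * g * t⁻¹) ^ n := by
    intro g t n
    have hd : g⁻¹ * t * g * t⁻¹ ∈ center G := by simpa using hcomm g⁻¹ t
    induction n with
    | zero => simp
    | succ n ih =>
      have hc := Subgroup.mem_center_iff.1 (pow_mem hd n) t
      have e : t * g * t⁻¹ = g * (g⁻¹ * t * g * t⁻¹) := by group
      calc t ^ (n + 1) * g * (t ^ (n + 1))⁻¹ = t * (t ^ n * g * (t ^ n)⁻¹) * t⁻¹ := by
            rw [pow_succ']; group
        _ = t * g * ((g⁻¹ * t * g * t⁻¹) ^ n * t⁻¹) := by rw [ih, ← mul_assoc t g, mul_assoc]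
        _ = _ := by
          rw [← (Commute.inv_left (show Commute t ((g⁻¹ * t * g * t⁻¹) ^ n) from hc)).eq, ← mul_assoc, e,
            mul_assoc, ← pow_succ']
  have hP : ∀ g t : G, ∀ n : ℕ, P t n g = g ^ n * (g⁻¹ * t * g * t⁻¹) ^ n.choose 2 := by
    intro g t n
    have hd : g⁻¹ * t * g * t⁻¹ ∈ center G := by simpa using hcomm g⁻¹ t
    induction n with
    | zero => simp [P_zero]
    | succ n ih =>
      rw [P_succ, ih, hconj, Nat.choose_succ_succ' n 1, Nat.choose_one_right]
      have hc := Subgroup.mem_center_iff.1 (pow_mem hd (n.choose 2)) g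
      calc g ^ n * (g⁻¹ * t * g * t⁻¹) ^ n.choose 2 * (g * (g⁻¹ * t * g * t⁻¹) ^ n)
          = g ^ n * ((g⁻¹ * t * g * t⁻¹) ^ n.choose 2 * g) * (g⁻¹ * t * g * t⁻¹) ^ n := by
            simp only [mul_assoc]
        _ = g ^ n * g * ((g⁻¹ * t * g * t⁻¹) ^ n.choose 2 * (g⁻¹ * t * g * t⁻¹) ^ n) := by
            rw [← hc]; simp only [mul_assoc]
        _ = _ := by rw [← pow_succ, ← pow_add, add_comm n (n.choose 2)]
  let pw : center G →* center G :=
    { toFun := fun z => z ^ p
      map_one' := one_pow p
      map_mul' := fun a b => Commute.mul_pow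
        (Subtype.ext ((Subgroup.mem_center_iff.1 b.2 a.1)) : Commute a b) p }
  let Q : Subgroup (center G) := pw.range
  have hQZ : ∀ z : center G, z ^ p ∈ Q := fun z => ⟨z, rfl⟩
  have hQne : Q ≠ ⊤ := by
    intro hQ
    obtain ⟨g, t, hgt⟩ : ∃ g t : G, t * g ≠ g * t := by
      by_contra h
      push Not at h
      exact hna ⟨⟨fun a b => h b a⟩⟩
    have hd : g⁻¹ * t * g * t⁻¹ ∈ center G := by simpa using hcomm g⁻¹ t
    have hdp : (⟨_, hd⟩ : center G) ^ p = 1 := by
      apply Subtype.ext
      have h1 := hconj g t p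
      rw [← Subgroup.mem_center_iff.1 (hpow t) g, mul_inv_cancel_right] at h1
      exact mul_eq_left.1 h1.symm
    have hinj : Function.Injective pw :=
      Finite.injective_iff_surjective.2 (MonoidHom.range_eq_top.1 hQ)
    have h1 := congrArg Subtype.val (hinj (a₁ := ⟨_, hd⟩) (a₂ := 1) (hdp.trans (map_one pw).symm))
    refine hgt ?_
    calc t * g = g * (g⁻¹ * t * g * t⁻¹) * t := by group
      _ = g * t := by rw [show g⁻¹ * t * g * t⁻¹ = 1 from h1, mul_one]
  -- the norm of a noncentral element generates `Z` modulo `p`-th powers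
  have hgen : ∀ g t : G, t * g ≠ g * t → ∃ a : center G, (a : G) = P t p g ∧ a ∉ Q ∧
      ∀ z : center G, ∃ i : ℕ, z * (a ^ i)⁻¹ ∈ Q := by
    intro g t hgt
    have hgZ : g ∉ center G := fun h => hgt (Subgroup.mem_center_iff.1 h t)
    have htM : t ∉ centralizer ({g} : Set G) := fun h => hgt (centralizer_commute.1 h)
    obtain ⟨-, hn, hW, hz⟩ := step g (hall g hgZ) t htM
    set M := centralizer ({g} : Set G) with hM
    haveI := hn
    have hMi : M.index = p := hall g hgZ
    have hgW : g ∈ W M := ⟨centralizer_commute.2 rfl,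
      mem_centralizer_iff.2 fun m hm => centralizer_commute.1 hm⟩
    have hZW : center G ≤ W M := le_inf (center_le_centralizer _) (center_le_centralizer _)
    haveI : ((center G).subgroupOf (W M)).Normal := inferInstance
    have hidx : ((center G).subgroupOf (W M)).index = p := by
      have h := ((center G).subgroupOf (W M)).card_mul_index
      rw [Nat.card_congr (subgroupOfEquivOfLe hZW).toEquiv, ← hW] at h
      exact Nat.eq_of_mul_eq_mul_left hZpos h
    have hg' : (⟨g, hgW⟩ : W M) ∉ (center G).subgroupOf (W M) := hgZ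
    let a : center G := ⟨_, norm_mem_center hMi htM ⟨g, hgW⟩⟩
    have key : ∀ z : center G, ∃ i : ℕ, z * (a ^ i)⁻¹ ∈ Q := by
      intro z
      obtain ⟨w, hw⟩ := hz z z.2
      obtain ⟨i, hi⟩ := exists_pow hidx hg' w
      refine ⟨i, ⟨⟨_, hi⟩, Subtype.ext ?_⟩⟩
      change ((w : G) * (g ^ i)⁻¹) ^ p = (z : G) * ((P t p g) ^ i)⁻¹
      have hc : t * ((w : G) * (g ^ i)⁻¹) = (w : G) * (g ^ i)⁻¹ * t :=
        Subgroup.mem_center_iff.1 hi t
      have hcm : Commute ((w : G) * (g ^ i)⁻¹) t := hc.symm
      have h1 : P t p ((w : G) * (g ^ i)⁻¹) = ((w : G) * (g ^ i)⁻¹) ^ p := by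
        rw [P, hcm.mul_pow, mul_inv_cancel_right]
      rw [← h1]
      have h2 := congrArg (fun u : W M => (u : G))
        (map_mul (norm M t p) w ((⟨g, hgW⟩ ^ i : W M)⁻¹))
      rw [map_inv, map_pow] at h2
      simp only [norm, Subgroup.coe_mul, Subgroup.coe_inv, Subgroup.coe_pow, MonoidHom.coe_mk,
        OneHom.coe_mk] at h2
      rw [h2]
      exact congrArg (fun u => u * ((P t p g) ^ i)⁻¹) hw
    refine ⟨a, rfl, fun ha => hQne (eq_top_iff.2 fun z _ => ?_), key⟩
    obtain ⟨i, hi⟩ := key z
    simpa using mul_mem hi (pow_mem ha i)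
  obtain ⟨g, h, hgh⟩ : ∃ g h : G, h * g ≠ g * h := by
    by_contra hh
    push Not at hh
    exact hna ⟨⟨fun a b => hh b a⟩⟩
  obtain ⟨A, hAv, hAQ, hAgen⟩ := hgen g h hgh
  obtain ⟨B, hBv, hBQ, -⟩ := hgen h g (Ne.symm hgh)
  obtain ⟨i, hi⟩ := hAgen B
  rcases hp.out.eq_two_or_odd' with hp2 | hodd
  · -- `p = 2`
    subst hp2
    have hghg : g * (g * h) ≠ (g * h) * g := fun h1 =>
      hgh (mul_left_cancel (a := g) (by rw [← mul_assoc g h g]; exact h1)).symm
    obtain ⟨C, hCv, hCQ, -⟩ := hgen (g * h) g hghg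
    refine hCQ ?_
    have hABC : A * B = C := by
      apply Subtype.ext
      rw [Subgroup.coe_mul, hAv, hBv, hCv]
      simp only [P_succ, P_zero, pow_zero, pow_one, one_mul, inv_one, mul_one]
      have hd : g⁻¹ * h * g * h⁻¹ ∈ center G := by simpa using hcomm g⁻¹ h
      have hc := Subgroup.mem_center_iff.1 hd h
      have hg2 := Subgroup.mem_center_iff.1 (hpow g) h
      have hh2 := Subgroup.mem_center_iff.1 (hpow h) g
      rw [pow_two] at hg2 hh2
      have e1 : g * (h * g * h⁻¹) = g * g * (g⁻¹ * h * g * h⁻¹) := by group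
      have e2 : h * (g * h * g⁻¹) = h * h * (g⁻¹ * h * g * h⁻¹)⁻¹ := by
        calc h * (g * h * g⁻¹) = h * h * (h⁻¹ * g * h * g⁻¹) := by group
          _ = h * h * (g⁻¹ * h * g * h⁻¹)⁻¹ := by
            congr 1
            have hd2 := Subgroup.mem_center_iff.1 (inv_mem hd) (h⁻¹ * g)
            calc h⁻¹ * g * h * g⁻¹
                = h⁻¹ * g * (g⁻¹ * h * g * h⁻¹)⁻¹ * (h⁻¹ * g)⁻¹ := by group
              _ = (g⁻¹ * h * g * h⁻¹)⁻¹ := by
                rw [hd2, mul_inv_cancel_right]
      have e3 : g * h * (g * (g * h) * g⁻¹) = g * g * (h * h) := by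
        calc g * h * (g * (g * h) * g⁻¹) = g * (h * (g * g)) * h * g⁻¹ := by group
          _ = g * g * (g * (h * h)) * g⁻¹ := by rw [hg2]; group
          _ = g * g * (h * h) := by rw [hh2]; group
      rw [e1, e2, e3]
      have hd' := Subgroup.mem_center_iff.1 hd (h * h)
      calc g * g * (g⁻¹ * h * g * h⁻¹) * (h * h * (g⁻¹ * h * g * h⁻¹)⁻¹)
          = g * g * ((g⁻¹ * h * g * h⁻¹) * (h * h)) * (g⁻¹ * h * g * h⁻¹)⁻¹ := by group
        _ = g * g * (h * h) := by rw [← hd']; group
    have hA2 : A ^ 2 ∈ Q := hQZ A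
    rcases Nat.even_or_odd i with hev | hod
    · obtain ⟨k, rfl⟩ := hev
      refine absurd ?_ hBQ
      have h1 : A ^ (k + k) ∈ Q := by rw [← two_mul, pow_mul]; exact pow_mem hA2 k
      simpa using mul_mem hi h1
    · obtain ⟨k, rfl⟩ := hod
      rw [← hABC]
      have h1 : A * B = B * (A ^ (2 * k + 1))⁻¹ * A ^ (2 * (k + 1)) := by
        rw [show A * B = B * A from Subtype.ext (Subgroup.mem_center_iff.1 B.2 A.1), mul_assoc]
        congr 1
        rw [show 2 * (k + 1) = 2 * k + 1 + 1 by ring, pow_add A (2 * k + 1) 1, pow_one, inv_mul_cancel_left]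
      rw [h1, pow_mul]
      exact mul_mem hi (pow_mem hA2 _)
  · -- `p` odd
    have hp3 : 2 < p := by
      have := hp.out.two_le
      rcases hodd with ⟨k, hk⟩; omega
    have hPp : ∀ a b : G, P b p a = a ^ p := by
      intro a b
      obtain ⟨c, hc⟩ := hp.out.dvd_choose_self (show (2 : ℕ) ≠ 0 by omega) hp3
      have hd : a⁻¹ * b * a * b⁻¹ ∈ center G := by simpa using hcomm a⁻¹ b
      have h1 := hconj a b p
      rw [← Subgroup.mem_center_iff.1 (hpow b) a, mul_inv_cancel_right] at h1
      rw [hP, hc, pow_mul, mul_eq_left.1 h1.symm, one_pow, mul_one]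
    have hmul : ∀ a b : G, (a * b) ^ p = a ^ p * b ^ p := by
      intro a b
      have := hPp a b
      rw [P, mul_inv_eq_iff_eq_mul] at this
      exact this
    have hne : g * (h * (g ^ i)⁻¹) ≠ h * (g ^ i)⁻¹ * g := by
      intro h1
      refine hgh ?_
      have hc := ((Commute.refl g).pow_right i).inv_right
      have h2 : g * h * (g ^ i)⁻¹ = h * g * (g ^ i)⁻¹ := by
        rw [mul_assoc g h, h1, mul_assoc h, ← hc.eq, ← mul_assoc]
      exact (mul_right_cancel h2).symm
    obtain ⟨C, hCv, hCQ, -⟩ := hgen (h * (g ^ i)⁻¹) g hne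
    refine hCQ ?_
    have hC : C = B * (A ^ i)⁻¹ := by
      apply Subtype.ext
      rw [hCv, Subgroup.coe_mul, Subgroup.coe_inv, Subgroup.coe_pow, hAv, hBv, hPp, hPp, hPp,
        hmul, inv_pow, ← pow_mul, ← pow_mul, mul_comm i p]
    rw [hC]
    exact hi

end final

end CfsgLib.Frobenius.AutOrbits
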