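import Cfsg.Agent.Lib.Coprime.Sylow
import Cfsg.Agent.Lib.Solvable.FPFNilpotent
import Cfsg.Agent.Lib.Solvable.Basic
import Cfsg.Agent.Lib.Solvable.Cores

/-!
A core-free nilpotent maximal subgroup whose Sylow subgroups give normal `p`-complements forces
solvability (the framework of the theorems of Thompson, Deskins and Janko).
-/

set_option autoImplicit false

namespace CfsgLib.Frobenius.NilpotentMaximal

open Subgroup
open scoped Pointwise

variable {G : Type*} [Group G] [Finite G]

/-- A non-trivial subgroup normalised by a core-free maximal subgroup `M` inside `M` has normalizer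
exactly `M`. -/
theorem normalizer_eq {M D : Subgroup G} (hmax : IsCoatom M) (hcore : M.normalCore = ⊥)
    (hD : D ≠ ⊥) (hDM : D ≤ M) (hnorm : M ≤ normalizer (D : Set G)) :
    normalizer (D : Set G) = M := by
  rcases eq_or_lt_of_le hnorm with h | h
  · exact h.symm
  · exfalso
    have : D.Normal := normalizer_eq_top_iff.1 (hmax.2 _ h)
    exact hD (le_bot_iff.1 (hcore ▸ normal_le_normalCore.2 hDM))

/-- In a nilpotent subgroup `M`, a `p`-subgroup and elements of order prime to `p` commute. -/
theorem commute_of_coprime {M : Subgroup G} (hnil : Group.IsNilpotent M) {p : ℕ} [Fact p.Prime]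
    {P : Subgroup G} (hP : IsPGroup p P) (hPM : P ≤ M) {x : G} (hx : x ∈ M)
    (ho : (orderOf x).Coprime p) : x ∈ centralizer (P : Set G) :=
  by
    have h := Solvable.Schmidt.le_centralizer_of_nilpotent (G := G) hnil (B := zpowers x) hPM
      (zpowers_le.2 hx) hP (by rwa [Nat.card_zpowers])
    exact mem_centralizer_iff.2 fun y hy =>
      (mem_centralizer_iff.1 (h hy) x (mem_zpowers x)).symm

/-- The Sylow subgroups of a core-free nilpotent maximal subgroup are Sylow in the group. -/
theorem exists_sylow {M : Subgroup G} (hmax : IsCoatom M) (hnil : Group.IsNilpotent M)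
    (hcore : M.normalCore = ⊥) (p : ℕ) [Fact p.Prime] (hp : p ∣ Nat.card M) :
    ∃ P : Sylow p G, (P : Subgroup G) ≤ M ∧ (P : Subgroup G) ≠ ⊥ ∧
      M ≤ normalizer ((P : Subgroup G) : Set G) := by
  obtain ⟨P₀⟩ : Nonempty (Sylow p M) := inferInstance
  have hP₀n : (P₀ : Subgroup M).Normal := by
    have := hnil
    exact P₀.normal_of_normalizerCondition Group.normalizerCondition_of_isNilpotent
  set U := (P₀ : Subgroup M).map M.subtype with hU
  have hUM : U ≤ M := map_subtype_le _
  have hUn : M ≤ normalizer (U : Set G) := by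
    intro m hm
    refine mem_normalizer_iff_map_conj_eq.2 (eq_of_le_of_card_ge ?_ ?_)
    · rintro _ ⟨_, ⟨u, hu, rfl⟩, rfl⟩
      exact ⟨⟨m, hm⟩ * u * ⟨m, hm⟩⁻¹, hP₀n.conj_mem u hu ⟨m, hm⟩, rfl⟩
    · exact (card_map_of_injective (MulAut.conj m).injective).ge
  have hne : U ≠ ⊥ := by
    rw [hU, Ne, map_eq_bot_iff_of_injective _ M.subtype_injective]
    exact P₀.ne_bot_of_dvd_card hp
  have hN := normalizer_eq hmax hcore hne hUM hUn
  obtain ⟨S, hS⟩ := (P₀.isPGroup'.map M.subtype).exists_le_sylow
  have hUS : U = (S : Subgroup G) := by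
    by_contra hne'
    have hlt := Fusion.Alperin.exists_gt_of_lt_sylow S (lt_of_le_of_ne hS hne')
    rw [hN] at hlt
    have hle : (P₀ : Subgroup M) ≤ ((S : Subgroup G) ⊓ M).subgroupOf M := fun u hu =>
      hlt.le ⟨u, hu, rfl⟩
    have heq := P₀.is_maximal'
      ((S.isPGroup'.to_le inf_le_left).of_equiv (subgroupOfEquivOfLe inf_le_right).symm) hle
    refine hlt.ne ?_
    show (P₀ : Subgroup M).map M.subtype = _
    rw [← heq, subgroupOf_map_subtype]
    simp
  exact ⟨S, hUS ▸ hUM, hUS ▸ hne, hUS ▸ hUn⟩

/-- A core-free nilpotent maximal subgroup with normal `p`-complements in the group for each of its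
primes forces solvability. -/
theorem isSolvable_of_npc {M : Subgroup G} (hmax : IsCoatom M) (hnil : Group.IsNilpotent M)
    (hcore : M.normalCore = ⊥)
    (hnpc : ∀ (p : ℕ) [Fact p.Prime], p ∣ Nat.card M → Cfsg.HasNormalPComplement p G) :
    Group.IsSolvable G := by
  classical
  by_cases hM : M = ⊥
  · subst hM
    have : Nontrivial G := by
      by_contra h
      rw [not_nontrivial_iff_subsingleton] at h
      exact hmax.1 (Subsingleton.elim _ _)
    obtain ⟨x, hx⟩ := exists_ne (1 : G)
    have htop : zpowers x = ⊤ := hmax.2 _ (bot_lt_iff_ne_bot.2 (zpowers_ne_bot.2 hx))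
    let _ : CommGroup G := { (inferInstance : Group G) with
      mul_comm := fun a b =>
        setLike_mul_comm (s := zpowers x) (htop ▸ mem_top a) (htop ▸ mem_top b) }
    infer_instance
  have hM1 : Nat.card M ≠ 1 := fun h => hM (card_eq_one.1 h)
  -- the intersection of the normal complements
  set S := (Nat.card M).primeFactors
  set K := ⨅ p : S, Cfsg.pResidual (p : ℕ) G with hKdef
  have hKn : K.Normal := normal_iInf_normal fun _ => Fusion.Basic.pResidual_normal
  have hcopM : ∀ p ∈ S, Nat.Coprime (Nat.card K) p := fun p hp => by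
    have : Fact p.Prime := ⟨Nat.prime_of_mem_primeFactors hp⟩
    exact (Fusion.Basic.npc_iff_coprime.1 (hnpc p (Nat.dvd_of_mem_primeFactors hp))).coprime_dvd_left
      (card_dvd_of_le (iInf_le (fun p : S => Cfsg.pResidual (p : ℕ) G) ⟨p, hp⟩))
  have hKi : ∀ r : ℕ, r.Prime → r ∣ K.index → r ∈ S := by
    intro r hr hrd
    by_contra hrS
    have : Fact r.Prime := ⟨hr⟩
    obtain ⟨R⟩ : Nonempty (Sylow r G) := inferInstance
    have hRK : (R : Subgroup G) ≤ K := le_iInf fun p x hx => by
      have : Fact (p : ℕ).Prime := ⟨Nat.prime_of_mem_primeFactors p.2⟩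
      refine Fusion.Basic.mem_pResidual_of_coprime ?_
      obtain ⟨k, hk⟩ := IsPGroup.iff_orderOf.1 R.isPGroup' ⟨x, hx⟩
      rw [Subgroup.orderOf_mk] at hk
      rw [hk]
      exact Nat.Coprime.pow_left k ((Nat.coprime_primes hr Fact.out).2 fun e => hrS (e ▸ p.2))
    exact R.not_dvd_index (hrd.trans (index_dvd_of_le hRK))
  have hMcop : (Nat.card M).Coprime M.index := by
    refine Nat.coprime_of_dvd fun p hp hp1 hp2 => ?_
    have : Fact p.Prime := ⟨hp⟩
    obtain ⟨P, hPM, -, -⟩ := exists_sylow hmax hnil hcore p hp1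
    exact P.not_dvd_index (hp2.trans (index_dvd_of_le hPM))
  have hKMnot : ¬ K ≤ M := fun hle => by
    have hK : K = ⊥ := le_bot_iff.1 (hcore ▸ normal_le_normalCore.2 hle)
    have hi : M.index ≠ 1 := fun h => hmax.1 (index_eq_one.1 h)
    obtain ⟨r, hr, hrd⟩ := Nat.exists_prime_and_dvd hi
    have := hKi r hr (by rw [hK, index_bot]; exact hrd.trans (index_dvd_card M))
    exact hr.not_dvd_one (hMcop ▸ Nat.dvd_gcd (Nat.dvd_of_mem_primeFactors this) hrd)
  have hcop : (Nat.card M).Coprime (Nat.card K) := by
    refine Nat.coprime_of_dvd fun p hp hp1 hp2 => ?_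
    exact hp.not_dvd_one
      ((hcopM p (Nat.mem_primeFactors.2 ⟨hp, hp1, Nat.card_pos.ne'⟩)) ▸ Nat.dvd_gcd hp2 dvd_rfl)
  have hKsup : K ⊔ M = ⊤ := hmax.2 _ (right_lt_sup.2 hKMnot)
  -- an invariant Sylow subgroup of `K` is all of `K`
  obtain ⟨r, hr, hrK⟩ := Nat.exists_prime_and_dvd
    (show Nat.card K ≠ 1 from fun h => hKMnot (by rw [card_eq_one.1 h]; exact bot_le))
  have : Fact r.Prime := ⟨hr⟩
  have hMs : Group.IsSolvable M := by have := hnil; infer_instance
  obtain ⟨R, hR⟩ := Coprime.exists_invariant_sylow (A := M) (K := K)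
    (by rw [normalizer_eq_top K]; exact le_top) hcop (Or.inl hMs) r
  set R' := (R : Subgroup K).map K.subtype with hR'
  have hR'K : R' ≤ K := map_subtype_le _
  have hR'n : R'.Normal := by
    have hlt : M < normalizer (R' : Set G) := by
      refine lt_of_le_not_ge hR fun hle => ?_
      have hRM : R' ≤ M := le_normalizer.trans hle
      have hdiv : r ∣ Nat.card R' := by
        rw [hR', card_map_of_injective K.subtype_injective]
        exact R.dvd_card_of_dvd_card hrK
      exact hr.not_dvd_one (hcop ▸ Nat.dvd_gcd (hdiv.trans (card_dvd_of_le hRM)) hrK)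
    exact normalizer_eq_top_iff.1 (hmax.2 _ hlt)
  have hRM : R' ⊔ M = ⊤ := by
    refine hmax.2 _ (right_lt_sup.2 fun hle => ?_)
    have hdiv : r ∣ Nat.card R' := by
      rw [hR', card_map_of_injective K.subtype_injective]
      exact R.dvd_card_of_dvd_card hrK
    exact hr.not_dvd_one (hcop ▸ Nat.dvd_gcd (hdiv.trans (card_dvd_of_le hle)) hrK)
  have hRs : Group.IsSolvable R' := by
    have := (R.isPGroup'.map K.subtype).isNilpotent
    infer_instance
  have hQs : Group.IsSolvable (G ⧸ R') := by
    refine Group.isSolvable_of_surjective (f := (QuotientGroup.mk' R').comp M.subtype) ?_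
    rw [← MonoidHom.range_eq_top, MonoidHom.range_comp, range_subtype]
    have h1 := Subgroup.map_sup R' M (QuotientGroup.mk' R')
    rw [hRM, map_top_of_surjective _ (QuotientGroup.mk'_surjective R'),
      (map_eq_bot_iff R').2 (QuotientGroup.ker_mk' R').ge, bot_sup_eq] at h1
    exact h1.symm
  exact Group.isSolvable_of_ker_le_range R'.subtype (QuotientGroup.mk' R')
    (by rw [QuotientGroup.ker_mk', range_subtype])

universe u in
/-- Induction over the core. -/
theorem isSolvable_induction (Φ : ∀ (G : Type u) [Group G] [Finite G], Subgroup G → Prop)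
    (hquot : ∀ (G : Type u) [Group G] [Finite G] (M N : Subgroup G) [N.Normal], N ≤ M → Φ G M →
      Φ (G ⧸ N) (M.map (QuotientGroup.mk' N)))
    (hnpc : ∀ (G : Type u) [Group G] [Finite G] (M : Subgroup G), IsCoatom M → Group.IsNilpotent M →
      M.normalCore = ⊥ → Φ G M →
      ∀ (p : ℕ) [Fact p.Prime], p ∣ Nat.card M → Cfsg.HasNormalPComplement p G) :
    ∀ (n : ℕ) (G : Type u) [Group G] [Finite G], Nat.card G = n → ∀ M : Subgroup G, IsCoatom M →
      Group.IsNilpotent M → Φ G M → Group.IsSolvable G := by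
  intro n
  induction n using Nat.strong_induction_on with
  | _ n ih =>
    intro G _ _ hn M hmax hnil hΦ
    subst hn
    by_cases hcore : M.normalCore = ⊥
    · exact isSolvable_of_npc hmax hnil hcore (hnpc G M hmax hnil hcore hΦ)
    set N := M.normalCore
    have hNM : N ≤ M := normalCore_le M
    set q := QuotientGroup.mk' N
    have hcm : (M.map q).comap q = M := by
      rw [comap_map_eq, QuotientGroup.ker_mk', sup_eq_left.2 hNM]
    have hmax' : IsCoatom (M.map q) := by
      refine ⟨fun h => hmax.1 (by rw [← hcm, h, comap_top]), fun U hU => ?_⟩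
      have h1 := hmax.2 (U.comap q)
        (hcm.symm.le.trans_lt ((comap_lt_comap_of_surjective (QuotientGroup.mk'_surjective N)).2 hU))
      rw [← map_comap_eq_self_of_surjective (QuotientGroup.mk'_surjective N) U, h1,
        map_top_of_surjective _ (QuotientGroup.mk'_surjective N)]
    have : Group.IsNilpotent M := hnil
    have hnil' : Group.IsNilpotent (M.map q) :=
      Group.nilpotent_of_surjective (q.subgroupMap M) (q.subgroupMap_surjective M)
    have := ih _ (Solvable.Basic.card_quotient_lt N hcore) (G ⧸ N) rfl _ hmax' hnil'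
      (hquot G M N hNM hΦ)
    have hNs : Group.IsSolvable N :=
      Group.isSolvable_of_isSolvable_injective (inclusion_injective hNM)
    exact Group.isSolvable_of_ker_le_range N.subtype q
      (by rw [QuotientGroup.ker_mk', range_subtype])

end CfsgLib.Frobenius.NilpotentMaximal
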