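import Mathlib
import Cfsg.Prelude.Def_PLocal
import Cfsg.Agent.Lib.Solvable.Cores
import Cfsg.Agent.Lib.LocalEven.Residual
import Cfsg.Agent.Lib.Fusion.NormalRankTwo
import Cfsg.Agent.Lib.OddOrder.FixedPointFree

/-!
Groups in which any two `p`-subgroups of the same order are conjugate, `p` odd.
-/

set_option autoImplicit false

universe u

namespace CfsgLib.Frobenius.ConjugatePSubgroups

open Subgroup
open scoped commutatorElement

variable {G : Type u} [Group G] {p : ℕ} [hp : Fact p.Prime]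

/-- Any two `p`-subgroups of the same order are conjugate. -/
def ConjP (p : ℕ) (G : Type u) [Group G] : Prop :=
  ∀ H K : Subgroup G, IsPGroup p H → IsPGroup p K → Nat.card H = Nat.card K →
    ∃ g : G, K = H.map (MulAut.conj g).toMonoidHom

omit hp in
theorem conj_pow_comm {a b : G} (hc : ⁅a, b⁆ ∈ center G) (n : ℕ) :
    ⁅a, b⁆ ^ n = ⁅a ^ n, b⁆ := by
  induction n with
  | zero => simp
  | succ n ih =>
    rw [pow_succ', ih, pow_succ']
    have h := mem_center_iff.1 (show ⁅a ^ n, b⁆ ∈ center G by rw [← ih]; exact pow_mem hc n) a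
    calc ⁅a, b⁆ * ⁅a ^ n, b⁆ = ⁅a ^ n, b⁆ * ⁅a, b⁆ := mem_center_iff.1
          (show ⁅a ^ n, b⁆ ∈ center G by rw [← ih]; exact pow_mem hc n) _
      _ = ⁅a ^ n, b⁆ * (a * b * a⁻¹ * b⁻¹) := by rw [commutatorElement_def a b]
      _ = (a * ⁅a ^ n, b⁆) * b * a⁻¹ * b⁻¹ := by rw [h]; group
      _ = ⁅a * a ^ n, b⁆ := by simp only [commutatorElement_def]; group

variable [Finite G]

/-- A `p`-group of odd order all of whose cyclic subgroups are normal is abelian. -/
theorem comm_of_zpowers_normal (hp2 : p ≠ 2) (hP : IsPGroup p G)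
    (h : ∀ x : G, (zpowers x).Normal) : ∀ a b : G, a * b = b * a := by
  have hodd : Odd p := hp.out.odd_of_ne_two hp2
  have hmem : ∀ a b : G, ⁅a, b⁆ ∈ zpowers a ∧ ⁅a, b⁆ ∈ zpowers b := fun a b => by
    constructor
    · have h1 := mul_mem (mem_zpowers a) ((h a).conj_mem _ (inv_mem (mem_zpowers a)) b)
      simpa [commutatorElement_def, mul_assoc] using h1
    · have h1 := mul_mem ((h b).conj_mem b (mem_zpowers b) a) (inv_mem (mem_zpowers b))
      simpa [commutatorElement_def, mul_assoc] using h1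
  -- commutators are central
  have hcen : ∀ a b : G, ⁅a, b⁆ ∈ center G := by
    intro g k
    refine mem_center_iff.2 fun a => ?_
    obtain ⟨u, hu⟩ := mem_zpowers_iff.1 ((h a).conj_mem a (mem_zpowers a) g⁻¹)
    obtain ⟨v, hv⟩ := mem_zpowers_iff.1 ((h a).conj_mem a (mem_zpowers a) k⁻¹)
    have hu' : MulAut.conj g⁻¹ a = a ^ u := by simpa using hu.symm
    have hv' : MulAut.conj k⁻¹ a = a ^ v := by simpa using hv.symm
    have e1 : MulAut.conj g⁻¹ (MulAut.conj k⁻¹ a) = MulAut.conj k⁻¹ (MulAut.conj g⁻¹ a) := by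
      rw [hv', map_zpow, hu', map_zpow, hv', ← zpow_mul, ← zpow_mul, mul_comm]
    simp only [MulAut.conj_apply, inv_inv] at e1
    calc a * ⁅g, k⁆ = g * k * (k⁻¹ * (g⁻¹ * a * g) * k) * (g⁻¹ * k⁻¹) := by
          simp only [commutatorElement_def]; group
      _ = g * k * (g⁻¹ * (k⁻¹ * a * k) * g) * (g⁻¹ * k⁻¹) := by rw [e1]
      _ = ⁅g, k⁆ * a := by simp only [commutatorElement_def]; group
  suffices key : ∀ n : ℕ, ∀ a b : G, orderOf a + orderOf b ≤ n → a * b = b * a from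
    fun a b => key _ a b le_rfl
  intro n
  induction n using Nat.strong_induction_on with
  | _ n ih =>
    intro a₀ b₀ hab₀
    by_contra hne₀
    obtain ⟨a, b, hab, hne, hle⟩ : ∃ a b : G, orderOf a + orderOf b ≤ n ∧ ¬ a * b = b * a ∧
        orderOf a ≤ orderOf b := by
      rcases Nat.le_total (orderOf a₀) (orderOf b₀) with hl | hl
      · exact ⟨a₀, b₀, hab₀, hne₀, hl⟩
      · exact ⟨b₀, a₀, by omega, fun e => hne₀ e.symm, hl⟩
    have hsmall : ∀ x y : G, orderOf x + orderOf y < n → x * y = y * x := fun x y hxy =>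
      ih _ hxy x y le_rfl
    obtain ⟨i, hi⟩ := IsPGroup.iff_orderOf.1 hP a
    obtain ⟨j, hj⟩ := IsPGroup.iff_orderOf.1 hP b
    have hij : i ≤ j := by
      rw [hi, hj] at hle; exact (Nat.pow_le_pow_iff_right hp.out.one_lt).1 hle
    set c := ⁅a, b⁆ with hc
    have hc1 : c ≠ 1 := fun e => hne (commutatorElement_eq_one_iff_mul_comm.1 e)
    obtain ⟨i', rfl⟩ : ∃ i', i = i' + 1 := by
      refine ⟨i - 1, ?_⟩
      by_contra h0
      have : a = 1 := orderOf_eq_one_iff.1 (by rw [hi, show i = 0 by omega, pow_zero])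
      exact hne (by rw [this, one_mul, mul_one])
    obtain ⟨j', rfl⟩ : ∃ j', j = j' + 1 := ⟨j - 1, by omega⟩
    have hpa : orderOf (a ^ p) < orderOf a := by
      rw [orderOf_pow, hi, Nat.gcd_eq_right (dvd_pow_self p i'.succ_ne_zero), pow_succ,
        Nat.mul_div_cancel _ hp.out.pos]
      exact lt_mul_of_one_lt_right (pow_pos hp.out.pos i') hp.out.one_lt
    have hcp : c ^ p = 1 := by
      rw [hc, conj_pow_comm (hcen a b), commutatorElement_eq_one_iff_mul_comm]
      exact hsmall _ _ (by omega)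
    -- `i' ≥ 1`
    have hca : c ∈ zpowers a := (hmem a b).1
    have hcb : c ∈ zpowers b := (hmem a b).2
    rcases Nat.eq_zero_or_pos i' with rfl | hi'
    · have heq : zpowers c = zpowers a := eq_of_le_of_card_ge (zpowers_le.2 hca) (by
        rw [Nat.card_zpowers, Nat.card_zpowers, hi, zero_add, pow_one,
          orderOf_eq_prime hcp hc1])
      obtain ⟨r, hr⟩ := mem_zpowers_iff.1 (heq ▸ mem_zpowers a : a ∈ zpowers c)
      refine hne ?_
      rw [← hr]
      exact (mem_center_iff.1 (zpow_mem (hcen a b) r) b).symm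
    -- both contain `⟨c⟩` as their subgroup of order `p`
    have hsoc : ∀ (x : G) (m : ℕ), orderOf x = p ^ (m + 1) → c ∈ zpowers x →
        ∃ u : ℤ, c ^ u = x ^ (p ^ m) := by
      intro x m hx hcx
      have hord : orderOf (x ^ (p ^ m)) = p := by
        rw [orderOf_pow, hx, Nat.gcd_eq_right (pow_dvd_pow p m.le_succ), pow_succ,
          Nat.mul_div_cancel_left _ (pow_pos hp.out.pos m)]
      obtain ⟨r, hr⟩ := mem_zpowers_iff.1 hcx
      have h1 : x ^ (r * p) = 1 := by rw [zpow_mul, zpow_natCast, hr, hcp]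
      rw [← orderOf_dvd_iff_zpow_eq_one, hx, pow_succ, Nat.cast_mul] at h1
      obtain ⟨s, hs⟩ := Int.dvd_of_mul_dvd_mul_right (by exact_mod_cast hp.out.ne_zero) h1
      have hsub : zpowers c ≤ zpowers (x ^ (p ^ m)) := zpowers_le.2 (mem_zpowers_iff.2 ⟨s, by
        rw [← zpow_natCast x, ← zpow_mul, ← hs, hr]⟩)
      have heq : zpowers c = zpowers (x ^ (p ^ m)) := eq_of_le_of_card_ge hsub (by
        rw [Nat.card_zpowers, Nat.card_zpowers, hord, orderOf_eq_prime hcp hc1])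
      exact mem_zpowers_iff.1 (heq ▸ mem_zpowers _ : x ^ (p ^ m) ∈ zpowers c)
    obtain ⟨u, hu⟩ := hsoc a i' hi hca
    obtain ⟨v, hv⟩ := hsoc b j' hj hcb
    -- solve `a^{p^i'} = (b^{p^j'})^w`
    have hord : orderOf (b ^ p ^ j') = p := by
      rw [orderOf_pow, hj, Nat.gcd_eq_right (pow_dvd_pow p j'.le_succ), pow_succ,
        Nat.mul_div_cancel_left _ (pow_pos hp.out.pos j')]
    have heq : zpowers (b ^ p ^ j') = zpowers c := eq_of_le_of_card_ge
      (zpowers_le.2 (mem_zpowers_iff.2 ⟨v, hv⟩)) (by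
      rw [Nat.card_zpowers, Nat.card_zpowers, hord, orderOf_eq_prime hcp hc1])
    obtain ⟨w, hw⟩ := mem_zpowers_iff.1 (show a ^ p ^ i' ∈ zpowers (b ^ p ^ j') by
      rw [heq, ← hu]; exact zpow_mem (mem_zpowers c) u)
    set y := b ^ (((p ^ (j' - i') : ℕ) : ℤ) * w) with hy
    have hyp : y ^ p ^ i' = a ^ p ^ i' := by
      rw [hy, ← zpow_natCast, ← zpow_mul, ← hw, ← zpow_natCast b, ← zpow_mul]
      congr 1
      rw [show p ^ j' = p ^ (j' - i') * p ^ i' by rw [← pow_add, Nat.sub_add_cancel (by omega)]]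
      push_cast; ring
    have hay : ⁅a, y⁻¹⁆ ^ p = 1 := by
      rw [conj_pow_comm (hcen _ _), commutatorElement_eq_one_iff_mul_comm]
      have hy' : orderOf y⁻¹ ≤ orderOf b := by
        rw [orderOf_inv]; exact Nat.le_of_dvd (orderOf_pos b) (by rw [hy]; exact orderOf_dvd_of_mem_zpowers (zpow_mem (mem_zpowers b) _))
      exact hsmall _ _ (by omega)
    -- `(a y⁻¹)^p = a^p y^{-p}`
    have hmul : ∀ k, (a * y⁻¹) ^ k = a ^ k * (y⁻¹) ^ k * ⁅y⁻¹, a⁆ ^ (k.choose 2) := by
      intro k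
      induction k with
      | zero => simp
      | succ k ihk =>
        have hd := hcen y⁻¹ a
        have h2 : (y⁻¹) ^ k * a = ⁅y⁻¹, a⁆ ^ k * (a * (y⁻¹) ^ k) := by
          rw [conj_pow_comm hd]; simp only [commutatorElement_def]; group
        rw [pow_succ, ihk, Nat.choose_succ_succ' k 1, Nat.choose_one_right, pow_succ, pow_succ, pow_add]
        have hz := fun x => mem_center_iff.1 (pow_mem hd (k.choose 2)) x
        have hz' := fun x => mem_center_iff.1 (pow_mem hd k) x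
        calc a ^ k * y⁻¹ ^ k * ⁅y⁻¹, a⁆ ^ k.choose 2 * (a * y⁻¹)
            = a ^ k * (y⁻¹ ^ k * (⁅y⁻¹, a⁆ ^ k.choose 2 * a)) * y⁻¹ := by group
          _ = a ^ k * ((y⁻¹ ^ k * a) * ⁅y⁻¹, a⁆ ^ k.choose 2) * y⁻¹ := by
              rw [← hz a, mul_assoc (y⁻¹ ^ k) a]
          _ = a ^ k * (⁅y⁻¹, a⁆ ^ k * (a * y⁻¹ ^ k)) * (⁅y⁻¹, a⁆ ^ k.choose 2 * y⁻¹) := by
              rw [h2]; group
          _ = a ^ k * ((a * y⁻¹ ^ k) * ⁅y⁻¹, a⁆ ^ k) * (y⁻¹ * ⁅y⁻¹, a⁆ ^ k.choose 2) := by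
              rw [← hz y⁻¹, ← hz' (a * y⁻¹ ^ k)]
          _ = a ^ k * a * y⁻¹ ^ k * (⁅y⁻¹, a⁆ ^ k * y⁻¹) * ⁅y⁻¹, a⁆ ^ k.choose 2 := by group
          _ = a ^ k * a * y⁻¹ ^ k * (y⁻¹ * ⁅y⁻¹, a⁆ ^ k) * ⁅y⁻¹, a⁆ ^ k.choose 2 := by
              rw [← hz' y⁻¹]
          _ = _ := by group
    have hp3 : 2 < p := lt_of_le_of_ne hp.out.two_le (Ne.symm hp2)
    obtain ⟨m, hm⟩ := hp.out.dvd_choose_self (show (2 : ℕ) ≠ 0 by omega) hp3
    have hyy : ⁅y⁻¹, a⁆ ^ p = 1 := by
      rw [← commutatorElement_inv a y⁻¹, inv_pow, hay, inv_one]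
    have hpow : ∀ r, 1 ≤ r → (a * y⁻¹) ^ p ^ r = a ^ p ^ r * (y⁻¹) ^ p ^ r := by
      intro r hr
      rw [hmul]
      obtain ⟨q, hq⟩ : p ∣ (p ^ r).choose 2 := hp.out.dvd_choose_pow (by omega)
        (fun h => by
          have := Nat.le_self_pow (show r ≠ 0 by omega) p
          omega)
      rw [hq, pow_mul, hyy, one_pow, mul_one]
    have hsmall' : orderOf (a * y⁻¹) < orderOf a := by
      have h1 : (a * y⁻¹) ^ p ^ i' = 1 := by rw [hpow _ hi', inv_pow, hyp, mul_inv_cancel]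
      refine lt_of_le_of_lt (Nat.le_of_dvd (pow_pos hp.out.pos i') (orderOf_dvd_of_pow_eq_one h1)) ?_
      rw [hi]; exact Nat.pow_lt_pow_right hp.out.one_lt (Nat.lt_succ_self i')
    have hcom := hsmall (a * y⁻¹) b (by omega)
    refine hne ?_
    have hyb : Commute y b := by rw [hy]; exact (Commute.refl b).zpow_left _
    calc a * b = (a * y⁻¹) * (y * b) := by group
      _ = (a * y⁻¹) * b * y := by rw [hyb.eq]; group
      _ = b * (a * y⁻¹) * y := by rw [hcom]
      _ = b * a := by group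

omit hp [Finite G] in
theorem card_map_conj (g : G) (H : Subgroup G) :
    Nat.card (H.map (MulAut.conj g).toMonoidHom) = Nat.card H :=
  card_map_of_injective (MulAut.conj g).injective

theorem exists_le_card {H : Subgroup G} (hH : IsPGroup p H) {d : ℕ} (hd : p ^ d ≤ Nat.card H) :
    ∃ K : Subgroup G, K ≤ H ∧ Nat.card K = p ^ d := by
  obtain ⟨e, he⟩ := IsPGroup.iff_card.1 hH
  obtain ⟨K, hK⟩ := Sylow.exists_subgroup_card_pow_prime (G := H) p (n := d)
    (by rw [he] at hd ⊢; exact pow_dvd_pow p ((Nat.pow_le_pow_iff_right hp.out.one_lt).1 hd))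
  exact ⟨K.map H.subtype, map_subtype_le K, by
    rw [← hK, card_map_of_injective H.subtype_injective]⟩

/-- Small elements of a Sylow subgroup lie in a given normal subgroup. -/
theorem mem_of_small (hC : ConjP p G) (P : Sylow p G) (H : Subgroup G) [H.Normal] {x : G}
    (hx : x ∈ (P : Subgroup G))
    (hle : orderOf x ≤ Nat.card ((P : Subgroup G) ⊓ H : Subgroup G)) : x ∈ H := by
  have hP : IsPGroup p ((P : Subgroup G) ⊓ H : Subgroup G) := P.2.to_le inf_le_left
  obtain ⟨d, hd⟩ := IsPGroup.iff_card.1 (P.2.to_le (zpowers_le.2 hx))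
  rw [Nat.card_zpowers] at hd
  obtain ⟨K, hK, hKc⟩ := exists_le_card hP (d := d) (by rw [← hd]; exact hle)
  obtain ⟨g, hg⟩ := hC K (zpowers x) (hP.to_le hK) (P.2.to_le (zpowers_le.2 hx))
    (by rw [hKc, Nat.card_zpowers, hd])
  obtain ⟨k, hk, hkx⟩ := (hg ▸ mem_zpowers x : x ∈ K.map (MulAut.conj g).toMonoidHom)
  rw [← hkx]
  exact Normal.conj_mem inferInstance k (hK hk).2 g

/-- If a normal subgroup meets a Sylow subgroup properly and nontrivially, the latter is cyclic. -/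
theorem cyclic_or_le (hp2 : p ≠ 2) (hC : ConjP p G) (P : Sylow p G) (H : Subgroup G) [H.Normal]
    (hne : (P : Subgroup G) ⊓ H ≠ ⊥) : (P : Subgroup G) ≤ H ∨ IsCyclic P := by
  rw [or_iff_not_imp_left]
  intro hnle
  obtain ⟨x, hx, hxH⟩ := SetLike.not_le_iff_exists.1 hnle
  have hP : IsPGroup p ((P : Subgroup G) ⊓ H : Subgroup G) := P.2.to_le inf_le_left
  obtain ⟨a, ha⟩ := IsPGroup.iff_card.1 hP
  obtain ⟨i, hi⟩ := IsPGroup.iff_orderOf.1 P.2 ⟨x, hx⟩
  rw [Subgroup.orderOf_mk] at hi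
  have hai : a < i := by
    by_contra hlt
    exact hxH (mem_of_small hC P H hx (by
      rw [hi, ha]; exact Nat.pow_le_pow_right hp.out.pos (by omega)))
  set y := x ^ p ^ (i - a) with hy
  have hyo : orderOf y = p ^ a := by
    rw [hy, orderOf_pow, hi, Nat.gcd_eq_right (pow_dvd_pow p (Nat.sub_le i a)),
      Nat.pow_div (Nat.sub_le i a) hp.out.pos, show i - (i - a) = a by omega]
  have hyP : y ∈ (P : Subgroup G) := pow_mem hx _
  have heq : zpowers y = (P : Subgroup G) ⊓ H := eq_of_le_of_card_ge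
    (zpowers_le.2 ⟨hyP, mem_of_small hC P H hyP (by rw [hyo, ha])⟩)
    (by rw [Nat.card_zpowers, hyo, ha])
  have ha1 : 1 ≤ a := by
    by_contra h0
    exact hne (card_eq_one.1 (by rw [ha, show a = 0 by omega, pow_zero]))
  refine CfsgLib.OddOrder.FixedPointFree.isCyclic_of_unique_order_p hp2 P.2 fun u v hu hv hu1 => ?_
  have hin : ∀ w : P, w ^ p = 1 → (w : G) ∈ zpowers y := fun w hw => by
    rw [heq]
    refine ⟨w.2, mem_of_small hC P H w.2 ?_⟩
    refine (Nat.le_of_dvd hp.out.pos (orderOf_dvd_of_pow_eq_one (congrArg Subtype.val hw : (w : G) ^ p = 1))).trans ?_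
    rw [ha]; exact Nat.le_self_pow (by omega) p
  have key : ∀ w : G, w ∈ zpowers y → w ^ p = 1 → w ∈ zpowers (y ^ p ^ (a - 1)) := by
    intro w hw hwp
    obtain ⟨r, rfl⟩ := mem_zpowers_iff.1 hw
    rw [← zpow_natCast, ← zpow_mul, ← orderOf_dvd_iff_zpow_eq_one, hyo,
      show a = a - 1 + 1 by omega, pow_succ, Nat.cast_mul] at hwp
    obtain ⟨s, hs⟩ := Int.dvd_of_mul_dvd_mul_right (by exact_mod_cast hp.out.ne_zero) hwp
    exact mem_zpowers_iff.2 ⟨s, by rw [← zpow_natCast, ← zpow_mul, ← hs]⟩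
  have hu' := key _ (hin u hu) (congrArg Subtype.val hu)
  have hv' := key _ (hin v hv) (congrArg Subtype.val hv)
  have hzo : orderOf (y ^ p ^ (a - 1)) = p := by
    rw [orderOf_pow, hyo, Nat.gcd_eq_right (pow_dvd_pow p (Nat.sub_le a 1)),
      Nat.pow_div (Nat.sub_le a 1) hp.out.pos, show a - (a - 1) = 1 by omega, pow_one]
  have hu1' : (u : G) ≠ 1 := fun h => hu1 (Subtype.ext h)
  have heq2 : zpowers (u : G) = zpowers (y ^ p ^ (a - 1)) := eq_of_le_of_card_ge (zpowers_le.2 hu')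
    (by rw [Nat.card_zpowers, Nat.card_zpowers, hzo, orderOf_eq_prime (congrArg Subtype.val hu) hu1'])
  obtain ⟨r, hr⟩ := mem_zpowers_iff.1 (heq2 ▸ hv' : (v : G) ∈ zpowers (u : G))
  exact mem_zpowers_iff.2 ⟨r, Subtype.ext (by rw [SubgroupClass.coe_zpow]; exact hr)⟩

/-- A normal Sylow subgroup is abelian. -/
theorem comm_of_normal (hp2 : p ≠ 2) (hC : ConjP p G) (P : Sylow p G) [hn : (P : Subgroup G).Normal] :
    IsMulCommutative P := by
  refine ⟨⟨comm_of_zpowers_normal hp2 P.2 fun x => ?_⟩⟩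
  obtain ⟨d, hd⟩ := IsPGroup.iff_card.1 (P.2.to_subgroup (zpowers x))
  obtain ⟨M, hMn, -, hMc⟩ := CfsgLib.Fusion.NormalRankTwo.exists_normal_card (p := p) P.2
    (N := (⊤ : Subgroup P)) (k := d) (by rw [← hd, Subgroup.card_top]; exact card_le_card_group _)
  obtain ⟨g, hg⟩ := hC (M.map (P : Subgroup G).subtype) ((zpowers x).map (P : Subgroup G).subtype)
    (P.2.to_le (map_subtype_le _)) (P.2.to_le (map_subtype_le _))
    (by rw [card_map_of_injective (subtype_injective _), card_map_of_injective (subtype_injective _), hMc, hd])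
  refine ⟨fun z hz q => ?_⟩
  have hz' : (z : G) ∈ (zpowers x).map (P : Subgroup G).subtype := ⟨z, hz, rfl⟩
  rw [hg] at hz'
  obtain ⟨_, ⟨m, hm, rfl⟩, hme⟩ := hz'
  have hqP : g⁻¹ * (q : G) * g ∈ (P : Subgroup G) := hn.conj_mem' _ q.2 g
  have h1 : ((q : G) * z * (q : G)⁻¹) ∈ (M.map (P : Subgroup G).subtype).map (MulAut.conj g).toMonoidHom := by
    refine ⟨_, ⟨⟨_, hqP⟩ * m * ⟨_, hqP⟩⁻¹, hMn.conj_mem m hm _, rfl⟩, ?_⟩
    rw [← hme]
    simp [mul_assoc]
  rw [← hg] at h1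
  obtain ⟨w, hw, hwe⟩ := h1
  have : q * z * q⁻¹ = w := Subtype.ext (by simpa using hwe.symm)
  rw [this]; exact hw

/-- Lifting `p`-subgroups across a normal `p'`-subgroup. -/
theorem exists_lift (P : Sylow p G) (K : Subgroup G) [K.Normal] {A : Subgroup (G ⧸ K)}
    (hA : IsPGroup p A) : ∃ U : Subgroup G, IsPGroup p U ∧ U.map (QuotientGroup.mk' K) = A := by
  obtain ⟨T, hT⟩ := hA.exists_le_sylow
  obtain ⟨c, hc⟩ := MulAction.exists_smul_eq (G ⧸ K) (P.mapSurjective (QuotientGroup.mk'_surjective K)) T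
  obtain ⟨c, rfl⟩ := QuotientGroup.mk'_surjective K c
  refine ⟨((c • P : Sylow p G) : Subgroup G) ⊓ A.comap (QuotientGroup.mk' K),
    (c • P).2.to_le inf_le_left, le_antisymm ?_ fun a ha => ?_⟩
  · rw [map_le_iff_le_comap]; exact inf_le_right
  · have ha' := hT ha
    rw [← hc] at ha'
    obtain ⟨b, ⟨q, hq, rfl⟩, hb⟩ := ha'
    have hb' : (QuotientGroup.mk' K) (c * q * c⁻¹) = a := by
      rw [← hb, map_mul, map_mul, map_inv]; rfl
    exact ⟨c * q * c⁻¹, ⟨⟨q, hq, rfl⟩, show (QuotientGroup.mk' K) (c * q * c⁻¹) ∈ A by rw [hb']; exact ha⟩, hb'⟩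

theorem conjP_quotient (hC : ConjP p G) (P : Sylow p G) (K : Subgroup G) [K.Normal]
    (hK : (Nat.card K).Coprime p) : ConjP p (G ⧸ K) := by
  intro A B hA hB hAB
  obtain ⟨U, hU, rfl⟩ := exists_lift P K hA
  obtain ⟨V, hV, rfl⟩ := exists_lift P K hB
  have hcard : ∀ W : Subgroup G, IsPGroup p W → Nat.card (W.map (QuotientGroup.mk' K)) = Nat.card W := by
    intro W hW
    rw [← relIndex_ker, QuotientGroup.ker_mk']
    obtain ⟨e, he⟩ := IsPGroup.iff_card.1 hW
    have hbot : K ⊓ W = ⊥ := inf_eq_bot_of_coprime (by rw [he]; exact Nat.Coprime.pow_right e hK)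
    rw [relIndex, ← inf_subgroupOf_right, hbot, bot_subgroupOf, index_bot]
  rw [hcard U hU, hcard V hV] at hAB
  obtain ⟨g, hg⟩ := hC U V hU hV hAB
  refine ⟨(g : G ⧸ K), ?_⟩
  rw [hg, map_map, map_map]
  congr 1

/-- The main statement. -/
theorem main (hp2 : p ≠ 2) (hC : ConjP p G) (P : Sylow p G) (H : Subgroup G) [hHn : H.Normal]
    (hsolv : Cfsg.IsPSolvable p H) (hdiv : p ∣ Nat.card H) :
    IsMulCommutative P ∧ ((P : Subgroup G) ≤ H ∨ IsCyclic P) := by
  classical
  have hne : (P : Subgroup G) ⊓ H ≠ ⊥ := by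
    obtain ⟨x, hx⟩ := exists_prime_orderOf_dvd_card' p hdiv
    obtain ⟨T, hT⟩ := (IsPGroup.of_card (p := p) (n := 1) (G := zpowers (x : G))
      (by rw [Nat.card_zpowers, Subgroup.orderOf_coe, hx, pow_one])).exists_le_sylow
    obtain ⟨c, hc⟩ := MulAction.exists_smul_eq G P T
    have hxT := hT (mem_zpowers (x : G))
    rw [← hc] at hxT
    obtain ⟨q, hq, hqx⟩ := hxT
    intro hbot
    have hqH : q ∈ H := by
      have h1 : c * q * c⁻¹ = (x : G) := hqx
      have h2 := Normal.conj_mem' hHn _ x.2 c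
      rw [← h1] at h2
      simpa [mul_assoc] using h2
    have hmem : q ∈ (P : Subgroup G) ⊓ H := ⟨hq, hqH⟩
    rw [hbot, mem_bot] at hmem
    subst hmem
    have h1 : c * 1 * c⁻¹ = (x : G) := hqx
    rw [mul_one, mul_inv_cancel] at h1
    rw [← Subgroup.orderOf_coe, ← h1, orderOf_one] at hx
    exact hp.out.ne_one hx.symm
  refine ⟨?_, cyclic_or_le hp2 hC P H hne⟩
  set K := (Cfsg.pPrimeCore p H).map H.subtype with hK
  haveI : (Cfsg.pPrimeCore p H).Characteristic := CfsgLib.Solvable.Cores.pPrimeCore_characteristic p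
  haveI : K.Normal := by rw [hK]; infer_instance
  have hKc : (Nat.card K).Coprime p := by
    rw [hK, card_map_of_injective H.subtype_injective]
    exact CfsgLib.Solvable.Cores.coprime_card_pPrimeCore p
  set π := QuotientGroup.mk' K with hπ
  -- a nontrivial normal `p`-subgroup of `G / K`
  have hV : Cfsg.pCore p (G ⧸ K) ≠ ⊥ := by
    obtain ⟨n, S, h0, hlast, hmono, hnorm, hstep⟩ := hsolv
    have hex : ∃ i : Fin n, S i.castSucc ≤ Cfsg.pPrimeCore p H ∧ ¬ S i.succ ≤ Cfsg.pPrimeCore p H := by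
      by_contra hcon
      push Not at hcon
      have hall : ∀ i : Fin (n + 1), S i ≤ Cfsg.pPrimeCore p H := by
        intro i
        induction i using Fin.induction with
        | zero => rw [h0]; exact bot_le
        | succ i ih => exact hcon i ih
      have htop : Cfsg.pPrimeCore p H = ⊤ := top_le_iff.1 (hlast ▸ hall (Fin.last n))
      have hc := CfsgLib.Solvable.Cores.coprime_card_pPrimeCore (G := H) p
      rw [htop, card_top] at hc
      exact absurd hdiv (hp.out.coprime_iff_not_dvd.1 hc.symm)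
    obtain ⟨i, hlo, hhi⟩ := hex
    haveI := hnorm i.succ
    haveI := hnorm i.castSucc
    have hle : S i.castSucc ≤ S i.succ := hmono (Fin.castSucc_le_succ i)
    rcases hstep i with ⟨m, hm⟩ | hcop
    · -- the image is a subnormal `p`-subgroup
      set J := (S i.succ).map H.subtype with hJ
      have hJH : J ≤ H := map_subtype_le _
      have hsn : (J.map π).IsSubnormal := by
        haveI : (H.map π).Normal := hHn.map π (QuotientGroup.mk'_surjective K)
        refine Subgroup.IsSubnormal.step _ (H.map π) (map_mono hJH) (Subgroup.Normal.isSubnormal inferInstance) ?_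
        refine (normal_subgroupOf_iff_le_normalizer (map_mono hJH)).2 ?_
        rintro _ ⟨h, hh, rfl⟩
        have hmemJ : ∀ z ∈ J, h * z * h⁻¹ ∈ J := by
          rintro _ ⟨z, hz, rfl⟩
          exact ⟨⟨h, hh⟩ * z * ⟨h, hh⟩⁻¹, Normal.conj_mem inferInstance z hz _, rfl⟩
        have hmemJ' : ∀ z ∈ J, h⁻¹ * z * h ∈ J := by
          rintro _ ⟨z, hz, rfl⟩
          exact ⟨⟨h, hh⟩⁻¹ * z * ⟨h, hh⟩, Normal.conj_mem' inferInstance z hz _, rfl⟩
        refine mem_normalizer_iff.2 fun w => ⟨?_, ?_⟩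
        · rintro ⟨z, hz, rfl⟩
          exact ⟨_, hmemJ z hz, by simp⟩
        · rintro ⟨z, hz, hzw⟩
          refine ⟨_, hmemJ' z hz, ?_⟩
          rw [map_mul, map_mul, map_inv, hzw]; group
      have hpg : IsPGroup p (J.map π) := by
        have hcard : Nat.card (J.map π) ∣ (S i.castSucc).relIndex (S i.succ) := by
          rw [← relIndex_ker, hπ, QuotientGroup.ker_mk']
          have h1 : K.relIndex J = (Cfsg.pPrimeCore p H).relIndex (S i.succ) := by
            rw [hK, hJ, relIndex_map_map_of_injective _ _ H.subtype_injective]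
          rw [h1]
          exact relIndex_dvd_of_le_left _ hlo
        rw [hm] at hcard
        obtain ⟨e, -, he⟩ := (Nat.dvd_prime_pow hp.out).1 hcard
        exact IsPGroup.of_card he
      intro hbot
      have hJK : J.map π = ⊥ := le_bot_iff.1 ((CfsgLib.LocalEven.Residual.le_pCore_of_isSubnormal hsn hpg).trans hbot.le)
      rw [Subgroup.map_eq_bot_iff, hπ, QuotientGroup.ker_mk'] at hJK
      refine hhi fun z hz => ?_
      obtain ⟨w, hw, hwz⟩ := hJK (show (z : G) ∈ J from ⟨z, hz, rfl⟩)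
      exact (Subtype.ext hwz : w = z) ▸ hw
    · refine absurd (CfsgLib.Solvable.Cores.le_pPrimeCore (G := H) ?_) hhi
      have h1 : Nat.card (S i.succ) = Nat.card (S i.castSucc) * (S i.castSucc).relIndex (S i.succ) := by
        rw [relIndex, ← Nat.card_congr (subgroupOfEquivOfLe hle).toEquiv]
        exact (((S i.castSucc).subgroupOf (S i.succ)).card_mul_index).symm
      rw [h1]
      exact ((CfsgLib.Solvable.Cores.coprime_card_pPrimeCore p).coprime_dvd_left
        (card_dvd_of_le hlo)).mul_left hcop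
  -- transfer to the quotient
  have hCq := conjP_quotient hC P K hKc
  let P' := P.mapSurjective (QuotientGroup.mk'_surjective K)
  set V := Cfsg.pCore p (G ⧸ K) with hVdef
  haveI : V.Normal := CfsgLib.Solvable.Cores.pCore_normal p
  have hVP : V ≤ (P' : Subgroup (G ⧸ K)) := by
    obtain ⟨T, hT⟩ := (CfsgLib.Solvable.Cores.isPGroup_pCore (G := G ⧸ K) p).exists_le_sylow
    obtain ⟨c, hc⟩ := MulAction.exists_smul_eq (G ⧸ K) T P'
    rw [← hc]
    intro x hx
    refine ⟨c⁻¹ * x * c, hT ?_, ?_⟩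
    · simpa using Normal.conj_mem (inferInstance : V.Normal) x hx c⁻¹
    · simp [mul_assoc]
  have hab : IsMulCommutative P' := by
    rcases cyclic_or_le hp2 hCq P' V (by rw [inf_eq_right.2 hVP]; exact hV) with h | h
    · haveI : (P' : Subgroup (G ⧸ K)).Normal := by
        rw [le_antisymm h hVP]; infer_instance
      exact comm_of_normal hp2 hCq P'
    · obtain ⟨g, hg⟩ := h.exists_generator
      refine ⟨⟨fun a b => ?_⟩⟩
      obtain ⟨m, rfl⟩ := mem_zpowers_iff.1 (hg a)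
      obtain ⟨n, rfl⟩ := mem_zpowers_iff.1 (hg b)
      exact ((Commute.refl g).zpow_zpow m n).eq
  refine ⟨⟨fun a b => Subtype.ext ?_⟩⟩
  have h1 : π ((a : G) * b) = π ((b : G) * a) := by
    rw [map_mul, map_mul]
    exact congrArg Subtype.val (hab.is_comm.comm ⟨π a, ⟨a, a.2, rfl⟩⟩ ⟨π b, ⟨b, b.2, rfl⟩⟩)
  have h2 : ((b : G) * a)⁻¹ * (a * b) ∈ K := (QuotientGroup.eq).1 h1.symm
  obtain ⟨e, he⟩ := IsPGroup.iff_card.1 P.2
  have hbot : K ⊓ (P : Subgroup G) = ⊥ := inf_eq_bot_of_coprime (by rw [he]; exact Nat.Coprime.pow_right e hKc)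
  have h3 : ((b : G) * a)⁻¹ * (a * b) ∈ K ⊓ (P : Subgroup G) :=
    ⟨h2, (P : Subgroup G).mul_mem ((P : Subgroup G).inv_mem ((P : Subgroup G).mul_mem b.2 a.2))
      ((P : Subgroup G).mul_mem a.2 b.2)⟩
  rw [hbot, mem_bot, inv_mul_eq_one] at h3
  exact h3.symm

end CfsgLib.Frobenius.ConjugatePSubgroups
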