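import Mathlib
import Cfsg.Agent.Lib.Frobenius.Divisibility
import Cfsg.Agent.Lib.Solvable.FrattiniFitting

/-!
The number of subgroups of prime power order is `1` modulo `p` (Frobenius).
-/

set_option autoImplicit false

universe u

namespace CfsgLib.Frobenius.CountSubgroups

variable {p : ℕ} [hp : Fact p.Prime]

/-- The number of subgroups of order `p` is `1` modulo `p`. -/
theorem card_order_prime {G : Type u} [Group G] [Finite G] (hdvd : p ∣ Nat.card G) :
    Nat.card {H : Subgroup G // Nat.card H = p} ≡ 1 [MOD p] := by
  classical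
  haveI := Fintype.ofFinite G
  haveI := Fintype.ofFinite {H : Subgroup G // Nat.card H = p}
  set k := Nat.card {H : Subgroup G // Nat.card H = p}
  -- the elements of order `p` are partitioned by the subgroups they generate
  have hord : Nat.card {g : G // orderOf g = p} = k * (p - 1) := by
    rw [Nat.card_congr (Equiv.sigmaFiberEquiv (α := {g : G // orderOf g = p})
      (β := {H : Subgroup G // Nat.card H = p})
      fun g => ⟨Subgroup.zpowers g.1, by rw [Nat.card_zpowers, g.2]⟩).symm, Nat.card_sigma]
    have hfib : ∀ H : {H : Subgroup G // Nat.card H = p},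
        Nat.card {g : {g : G // orderOf g = p} //
          (⟨Subgroup.zpowers g.1, by rw [Nat.card_zpowers, g.2]⟩ :
            {H : Subgroup G // Nat.card H = p}) = H} = p - 1 := by
      rintro ⟨H, hH⟩
      haveI := Fintype.ofFinite H
      haveI : IsCyclic H := isCyclic_of_prime_card (p := p) hH
      rw [← Nat.totient_prime hp.out, ← IsCyclic.card_orderOf_eq_totient (α := H) (d := p)
        (by rw [← Nat.card_eq_fintype_card, hH]), ← Fintype.card_subtype,
        ← Nat.card_eq_fintype_card]
      refine Nat.card_congr
        { toFun := fun g => ⟨⟨g.1.1, by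
            have h := congrArg Subtype.val g.2
            have h' : Subgroup.zpowers g.1.1 = H := h
            exact h'.le (Subgroup.mem_zpowers g.1.1)⟩, by rw [Subgroup.orderOf_mk]; exact g.1.2⟩
          invFun := fun g => ⟨⟨g.1, by rw [Subgroup.orderOf_coe]; exact g.2⟩, Subtype.ext
            (Subgroup.eq_of_le_of_card_ge (Subgroup.zpowers_le.2 g.1.2)
              (by rw [hH, Nat.card_zpowers, Subgroup.orderOf_coe, g.2]))⟩
          left_inv := fun g => rfl
          right_inv := fun g => rfl }
    rw [Finset.sum_congr rfl fun H _ => hfib H, Finset.sum_const, smul_eq_mul, Finset.card_univ,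
      ← Nat.card_eq_fintype_card]
  have hroots : Nat.card {g : G // g ^ p = 1} = Nat.card {g : G // orderOf g = p} + 1 := by
    rw [Nat.card_eq_fintype_card, Nat.card_eq_fintype_card, Fintype.card_subtype,
      Fintype.card_subtype]
    rw [← Finset.card_insert_of_notMem (a := (1 : G))
      (s := Finset.univ.filter fun g : G => orderOf g = p) (by
        simp [hp.out.ne_one.symm])]
    congr 1
    ext g
    simp only [Finset.mem_filter, Finset.mem_insert, Finset.mem_univ, true_and]
    constructor
    · intro hg
      by_cases h1 : g = 1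
      · exact Or.inl h1
      · exact Or.inr (orderOf_eq_prime hg h1)
    · rintro (rfl | hg)
      · exact one_pow p
      · exact hg ▸ pow_orderOf_eq_one g
  have hdiv := CfsgLib.Frobenius.Divisibility.prime_pow (G := G) (p := p) (a := 1)
    (by rwa [pow_one])
  rw [pow_one, hroots, hord] at hdiv
  -- `p ∣ k (p - 1) + 1`
  have h1 : k * (p - 1) + 1 + k ≡ k * p + 1 [MOD p] := by
    have : k * (p - 1) + k = k * p := by
      conv_rhs => rw [← Nat.sub_add_cancel hp.out.one_le, mul_add, mul_one]
    rw [add_right_comm, this]
  have h2 : k * (p - 1) + 1 + k ≡ 0 + k [MOD p] :=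
    Nat.ModEq.add_right k (Nat.modEq_zero_iff_dvd.2 hdiv)
  have h3 : k * p + 1 ≡ 0 + 1 [MOD p] :=
    Nat.ModEq.add_right 1 (Nat.modEq_zero_iff_dvd.2 (dvd_mul_left p k))
  simpa using h2.symm.trans (h1.trans h3)

/-- In a `p`-group the number of normal subgroups of a given possible order is `1` modulo `p`. -/
theorem card_normal : ∀ (s : ℕ) (G : Type u) [Group G] [Finite G] (m : ℕ),
    Nat.card G = p ^ m → s ≤ m →
    Nat.card {H : Subgroup G // H.Normal ∧ Nat.card H = p ^ s} ≡ 1 [MOD p] := by
  classical
  intro s
  induction s with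
  | zero =>
    intro G _ _ m _ _
    have : Nat.card {H : Subgroup G // H.Normal ∧ Nat.card H = p ^ 0} = 1 := by
      rw [Nat.card_eq_one_iff_unique]
      refine ⟨⟨fun H K => Subtype.ext ?_⟩, ⟨⟨⊥, inferInstance, by rw [pow_zero, Subgroup.card_bot]⟩⟩⟩
      rw [Subgroup.eq_bot_of_card_eq _ (H.2.2.trans (pow_zero p)),
        Subgroup.eq_bot_of_card_eq _ (K.2.2.trans (pow_zero p))]
    rw [this]
  | succ s ih =>
    intro G _ _ m hG hs
    haveI : Fintype (Subgroup G) := Fintype.ofFinite _
    let A := {N : Subgroup G // N.Normal ∧ Nat.card N = p ^ (s + 1)}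
    let B := {Z : Subgroup G // Z ≤ Subgroup.center G ∧ Nat.card Z = p}
    have hGp : IsPGroup p G := IsPGroup.of_card hG
    -- the central subgroups of order `p` inside a non-trivial normal subgroup
    have hZ : ∀ W : Subgroup G, W.Normal → W ≠ ⊥ →
        Nat.card {Z : B // Z.1 ≤ W} ≡ 1 [MOD p] := by
      intro W hW hWb
      set V := W ⊓ Subgroup.center G
      have hVb : V ≠ ⊥ := by
        haveI := hGp.isNilpotent
        exact CfsgLib.Solvable.FrattiniFitting.inf_center_ne_bot W hWb
      haveI : Nontrivial V := (Subgroup.nontrivial_iff_ne_bot V).2 hVb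
      obtain ⟨c, hc⟩ := IsPGroup.iff_card.1 (hGp.to_subgroup V)
      have hpV : p ∣ Nat.card V := by
        rw [hc]
        refine dvd_pow_self p fun h0 => ?_
        have := Finite.one_lt_card (α := V)
        rw [hc, h0, pow_zero] at this
        omega
      refine Nat.ModEq.trans (congrArg (· % p) ?_) (card_order_prime (G := V) hpV)
      refine Nat.card_congr
        { toFun := fun Z => ⟨Z.1.1.subgroupOf V, by
            rw [Nat.card_congr (Subgroup.subgroupOfEquivOfLe (le_inf Z.2 Z.1.2.1)).toEquiv]
            exact Z.1.2.2⟩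
          invFun := fun K => ⟨⟨K.1.map V.subtype,
            (Subgroup.map_subtype_le _).trans inf_le_right,
            by rw [Subgroup.card_map_of_injective V.subtype_injective]; exact K.2⟩,
            (Subgroup.map_subtype_le _).trans inf_le_left⟩
          left_inv := fun Z => Subtype.ext (Subtype.ext (by
            simp only [Subgroup.subgroupOf_map_subtype]
            exact inf_eq_left.2 (le_inf Z.2 Z.1.2.1)))
          right_inv := fun K => Subtype.ext (Subgroup.comap_map_eq_self_of_injective
            V.subtype_injective K.1) }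
    -- normal subgroups over a central subgroup of order `p`
    have hN : ∀ Z : B, Nat.card {N : A // Z.1 ≤ N.1} ≡ 1 [MOD p] := by
      rintro ⟨Z, hZc, hZp⟩
      haveI hZn : Z.Normal := ⟨fun z hz g => by
        rw [Subgroup.mem_center_iff.1 (hZc hz) g, mul_inv_cancel_right]; exact hz⟩
      have hq : Nat.card (G ⧸ Z) = p ^ (m - 1) := by
        have h := Subgroup.card_mul_index Z
        rw [hZp, hG, Subgroup.index, show m = m - 1 + 1 by omega, pow_succ'] at h
        exact Nat.eq_of_mul_eq_mul_left hp.out.pos h
      have hker : ∀ K : Subgroup (G ⧸ Z), Nat.card (K.comap (QuotientGroup.mk' Z)) =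
          p * Nat.card K := by
        intro K
        have h1 := Subgroup.card_mul_index (K.comap (QuotientGroup.mk' Z))
        rw [Subgroup.index_comap_of_surjective _ (QuotientGroup.mk'_surjective Z)] at h1
        refine Nat.eq_of_mul_eq_mul_right (Nat.pos_of_ne_zero
          (Subgroup.index_ne_zero_of_finite (H := K))) ?_
        rw [h1, mul_assoc, Subgroup.card_mul_index, ← hZp, ← Subgroup.card_mul_index Z]
        rfl
      have hcm : ∀ N : Subgroup G, Z ≤ N →
          (N.map (QuotientGroup.mk' Z)).comap (QuotientGroup.mk' Z) = N := fun N hN =>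
        Subgroup.comap_map_eq_self ((QuotientGroup.ker_mk' Z).le.trans hN)
      refine Nat.ModEq.trans (congrArg (· % p) ?_) (ih (G ⧸ Z) (m - 1) hq (by omega))
      refine Nat.card_congr
        { toFun := fun N => ⟨N.1.1.map (QuotientGroup.mk' Z),
            N.1.2.1.map _ (QuotientGroup.mk'_surjective Z), by
            refine Nat.eq_of_mul_eq_mul_left hp.out.pos ?_
            rw [← hker, hcm _ N.2, N.1.2.2, pow_succ']⟩
          invFun := fun K => ⟨⟨K.1.comap (QuotientGroup.mk' Z), K.2.1.comap _,
            by rw [hker, K.2.2, pow_succ']⟩,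
            (QuotientGroup.ker_mk' Z).ge.trans (MonoidHom.ker_le_comap _ _)⟩
          left_inv := fun N => Subtype.ext (Subtype.ext (hcm _ N.2))
          right_inv := fun K => Subtype.ext
            (Subgroup.map_comap_eq_self_of_surjective (QuotientGroup.mk'_surjective Z) _) }
    -- double counting
    have hdc : ∑ N : A, Nat.card {Z : B // Z.1 ≤ N.1} = ∑ Z : B, Nat.card {N : A // Z.1 ≤ N.1} := by
      simp only [Nat.card_eq_fintype_card, Fintype.card_subtype, Finset.card_filter]
      exact Finset.sum_comm
    have h1 : ∑ N : A, Nat.card {Z : B // Z.1 ≤ N.1} ≡ ∑ _N : A, 1 [MOD p] :=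
      Nat.ModEq.sum fun N _ => hZ N.1 N.2.1 fun hb => by
        have h := N.2.2
        rw [hb, Subgroup.card_bot] at h
        exact (Nat.one_lt_pow (Nat.succ_ne_zero s) hp.out.one_lt).ne h
    have h2 : ∑ Z : B, Nat.card {N : A // Z.1 ≤ N.1} ≡ ∑ _Z : B, 1 [MOD p] :=
      Nat.ModEq.sum fun Z _ => hN Z
    have hne : (⊤ : Subgroup G) ≠ ⊥ := fun h => by
      have hc := Subgroup.card_top (G := G)
      rw [h, Subgroup.card_bot, hG] at hc
      exact (Nat.one_lt_pow (by omega) hp.out.one_lt).ne hc
    have hB : Nat.card B ≡ 1 [MOD p] := by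
      refine Nat.ModEq.trans (congrArg (· % p) ?_) (hZ ⊤ inferInstance hne)
      exact (Nat.card_congr (Equiv.subtypeUnivEquiv fun Z : B => le_top)).symm
    simp only [Finset.sum_const, smul_eq_mul, mul_one, Finset.card_univ,
      ← Nat.card_eq_fintype_card] at h1 h2
    exact (h1.symm.trans (hdc ▸ h2)).trans hB

/-- The number of subgroups of order `p ^ b` is `1` modulo `p`. -/
theorem card_subgroup {G : Type u} [Group G] [Finite G] {b : ℕ} (hdvd : p ^ b ∣ Nat.card G) :
    Nat.card {H : Subgroup G // Nat.card H = p ^ b} ≡ 1 [MOD p] := by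
  classical
  obtain ⟨P⟩ : Nonempty (Sylow p G) := inferInstance
  let X := {H : Subgroup G // Nat.card H = p ^ b}
  let act : MulAction (P : Subgroup G) X :=
    { smul := fun g H => ⟨H.1.map (MulAut.conj (g : G)).toMonoidHom, by
        rw [Subgroup.card_map_of_injective (MulAut.conj (g : G)).injective]; exact H.2⟩
      one_smul := fun H => Subtype.ext (by
        show H.1.map (MulAut.conj ((1 : (P : Subgroup G)) : G)).toMonoidHom = H.1
        rw [Subgroup.coe_one, map_one]; exact Subgroup.map_id _)
      mul_smul := fun g h H => Subtype.ext (by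
        show H.1.map (MulAut.conj ((g * h : (P : Subgroup G)) : G)).toMonoidHom =
          (H.1.map (MulAut.conj (h : G)).toMonoidHom).map (MulAut.conj (g : G)).toMonoidHom
        rw [Subgroup.map_map, Subgroup.coe_mul, map_mul]; rfl) }
  have hfix := P.isPGroup'.card_modEq_card_fixedPoints X
  have hPc : Nat.card (P : Subgroup G) = p ^ (Nat.card G).factorization p := P.card_eq_multiplicity
  have hb : b ≤ (Nat.card G).factorization p :=
    (hp.out.pow_dvd_iff_le_factorization Nat.card_pos.ne').1 hdvd
  refine hfix.trans ?_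
  refine Nat.ModEq.trans (congrArg (· % p) ?_) (card_normal b (P : Subgroup G) _ hPc hb)
  have hmemfix : ∀ H : X, H ∈ MulAction.fixedPoints (P : Subgroup G) X →
      (P : Subgroup G) ≤ Subgroup.normalizer (H.1 : Set G) := fun H hH g hg =>
    Subgroup.mem_normalizer_iff_map_conj_eq.2 (congrArg Subtype.val (hH ⟨g, hg⟩))
  have hle : ∀ H : X, H ∈ MulAction.fixedPoints (P : Subgroup G) X → H.1 ≤ (P : Subgroup G) := by
    intro H hH
    exact (P.is_maximal' ((IsPGroup.iff_card.2 ⟨b, H.2⟩).to_sup_of_normal_left' P.isPGroup'
      (hmemfix H hH)) le_sup_right) ▸ le_sup_left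
  refine Nat.card_congr
    { toFun := fun H => ⟨H.1.1.subgroupOf (P : Subgroup G),
        (Subgroup.normal_subgroupOf_iff_le_normalizer (hle _ H.2)).2 (hmemfix _ H.2), by
        rw [Nat.card_congr (Subgroup.subgroupOfEquivOfLe (hle _ H.2)).toEquiv]; exact H.1.2⟩
      invFun := fun K => ⟨⟨K.1.map (P : Subgroup G).subtype, by
        rw [Subgroup.card_map_of_injective (P : Subgroup G).subtype_injective]; exact K.2.2⟩,
        fun g => Subtype.ext (by
          show (K.1.map (P : Subgroup G).subtype).map (MulAut.conj (g : G)).toMonoidHom = _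
          rw [Subgroup.map_map, show (MulAut.conj (g : G)).toMonoidHom.comp (P : Subgroup G).subtype =
            (P : Subgroup G).subtype.comp (MulAut.conj g).toMonoidHom from rfl, ← Subgroup.map_map]
          haveI := K.2.1
          rw [show K.1.map (MulAut.conj g).toMonoidHom = K.1 from Subgroup.mem_normalizer_iff_map_conj_eq.1
            (by rw [Subgroup.normalizer_eq_top_iff.2 K.2.1]; exact Subgroup.mem_top g)])⟩
      left_inv := fun H => Subtype.ext (Subtype.ext (by
        simp only [Subgroup.subgroupOf_map_subtype]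
        exact inf_eq_left.2 (hle _ H.2)))
      right_inv := fun K => Subtype.ext (Subgroup.comap_map_eq_self_of_injective
        (P : Subgroup G).subtype_injective K.1) }

end CfsgLib.Frobenius.CountSubgroups
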