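import Mathlib
import Cfsg.Agent.Lib.PGroup.PolySeq
import Cfsg.Agent.Lib.Frobenius.AutOrbits

/-!
Lower bound for the order of a `p`-group of given derived length: `2^k + 2k - 2`.
-/

set_option autoImplicit false

universe u

namespace CfsgLib.Frobenius.DerivedLengthBound

open Subgroup
open scoped commutatorElement

variable {G : Type u} [Group G]

/-- `[γ_{i+1}, Z_{j+i+1}] ≤ Z_j`. -/
theorem commutator_lcs_ucs_le (i : ℕ) : ∀ j : ℕ,
    ⁅(⊤ : Subgroup G).lowerCentralSeries i, Subgroup.upperCentralSeries G (j + i + 1)⁆ ≤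
      Subgroup.upperCentralSeries G j := by
  induction i with
  | zero =>
    intro j
    rw [commutator_comm, Subgroup.lowerCentralSeries_zero, add_zero]
    exact commutator_upperCentralSeries_top_le G j
  | succ i ih =>
    intro j
    rw [Subgroup.lowerCentralSeries_succ]
    refine CfsgLib.PGroup.PolySeq.three_subgroups _ _ _ _ ?_ ?_
    · rw [commutator_comm (⊤ : Subgroup G), show j + (i + 1) + 1 = (j + i + 1) + 1 by omega]
      refine (commutator_mono (commutator_upperCentralSeries_top_le G _) le_rfl).trans ?_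
      rw [commutator_comm]; exact ih j
    · rw [commutator_comm (Subgroup.upperCentralSeries G _), show j + (i + 1) + 1 = (j + 1) + i + 1 by omega]
      exact (commutator_mono (ih (j + 1)) le_rfl).trans (commutator_upperCentralSeries_top_le G j)

/-- A normal subgroup meets the next term of the upper central series. -/
theorem inf_ucs_lt [Group.IsNilpotent G] (N : Subgroup G) [N.Normal] (j : ℕ)
    (h : ¬ N ≤ Subgroup.upperCentralSeries G j) :
    N ⊓ Subgroup.upperCentralSeries G j < N ⊓ Subgroup.upperCentralSeries G (j + 1) := by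
  refine lt_of_le_of_ne (inf_le_inf_left _ (Subgroup.upperCentralSeries_mono (G := G) (Nat.le_succ j))) fun e => h ?_
  let T : ℕ → Subgroup G := fun l => (fun K : Subgroup G => ⁅K, (⊤ : Subgroup G)⁆)^[l] N
  have hTs : ∀ l, T (l + 1) = ⁅T l, (⊤ : Subgroup G)⁆ := fun l => Function.iterate_succ_apply' _ _ _
  have hTN : ∀ l, T l ≤ N := by
    intro l
    induction l with
    | zero => exact le_rfl
    | succ l ih => rw [hTs]; exact (commutator_mono ih le_rfl).trans (commutator_le_left N ⊤)
  have hTlcs : ∀ l, T l ≤ (⊤ : Subgroup G).lowerCentralSeries l := by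
    intro l
    induction l with
    | zero => exact le_top
    | succ l ih => rw [hTs, Subgroup.lowerCentralSeries_succ]; exact commutator_mono ih le_rfl
  obtain ⟨c, hc⟩ := Subgroup.nilpotent_iff_lowerCentralSeries.1 (inferInstance : Group.IsNilpotent G)
  have key : ∀ d, d ≤ c → T (c - d) ≤ Subgroup.upperCentralSeries G j := by
    intro d
    induction d with
    | zero => intro _; rw [Nat.sub_zero]; exact (hTlcs c).trans (hc ▸ bot_le)
    | succ d ih =>
      intro hd
      have h1 : T (c - d) ≤ Subgroup.upperCentralSeries G j := ih (by omega)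
      rw [show c - d = c - (d + 1) + 1 by omega, hTs] at h1
      have h2 : T (c - (d + 1)) ≤ Subgroup.upperCentralSeries G (j + 1) := fun x hx =>
        Subgroup.mem_upperCentralSeries_succ_iff.2 fun y => h1 (commutator_mem_commutator hx (mem_top y))
      exact ((le_inf (hTN _) h2).trans e.ge).trans inf_le_right
  have := key c le_rfl
  rwa [Nat.sub_self] at this

variable [Finite G] {p : ℕ} [hp : Fact p.Prime]

/-- A strictly larger subgroup of a `p`-group is at least `p` times larger. -/
theorem card_mul_le (hG : IsPGroup p G) {H K : Subgroup G} (h : H < K) :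
    Nat.card H * p ≤ Nat.card K := by
  obtain ⟨i, hi⟩ := IsPGroup.iff_card.1 (hG.to_subgroup H)
  obtain ⟨j, hj⟩ := IsPGroup.iff_card.1 (hG.to_subgroup K)
  have hlt : Nat.card H < Nat.card K := by
    refine lt_of_le_of_ne (card_le_of_le h.le) fun e => h.ne (eq_of_le_of_card_ge h.le e.ge)
  rw [hi, hj] at hlt ⊢
  rw [← pow_succ]
  exact Nat.pow_le_pow_right hp.out.pos ((Nat.pow_lt_pow_iff_right hp.out.one_lt).1 hlt)

/-- If `K` of index `1` or `p` in `N` is central in `N` modulo `S`, then `N' ≤ S`. -/
theorem commutator_le_of_central {N K S : Subgroup G} [S.Normal] (hKN : K ≤ N)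
    (hKn : (K.subgroupOf N).Normal) (hidx : K.relIndex N ≤ p) (hdvd : K.relIndex N = 1 ∨ p ∣ K.relIndex N)
    (hcen : ∀ k ∈ K, ∀ y ∈ N, ⁅k, y⁆ ∈ S) : ⁅N, N⁆ ≤ S := by
  have hcomm : ∀ a b : G, ⁅a, b⁆ ∈ S ↔
      (QuotientGroup.mk' S) a * (QuotientGroup.mk' S) b = (QuotientGroup.mk' S) b * (QuotientGroup.mk' S) a := by
    intro a b
    rw [← commutatorElement_eq_one_iff_mul_comm, ← map_commutatorElement]
    exact (QuotientGroup.eq_one_iff _).symm
  rw [commutator_le]
  rcases hdvd with h1 | hpd
  · intro a ha b hb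
    exact hcen a (relIndex_eq_one.1 h1 ha) b hb
  · have hp' : (K.subgroupOf N).index = p :=
      le_antisymm hidx (Nat.le_of_dvd (Nat.pos_of_ne_zero index_ne_zero_of_finite) hpd)
    obtain ⟨y, hy⟩ : ∃ y : N, y ∉ K.subgroupOf N := by
      by_contra h
      push Not at h
      rw [(eq_top_iff.2 fun y _ => h y : K.subgroupOf N = ⊤), index_top] at hp'
      exact hp.out.ne_one hp'.symm
    intro a ha b hb
    obtain ⟨i, hi⟩ := AutOrbits.exists_pow hp' hy ⟨a, ha⟩
    obtain ⟨j, hj⟩ := AutOrbits.exists_pow hp' hy ⟨b, hb⟩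
    rw [mem_subgroupOf, coe_mul, coe_inv, coe_pow] at hi hj
    rw [hcomm]
    set f := QuotientGroup.mk' S with hf
    have c1 : ∀ k ∈ K, ∀ z ∈ N, Commute (f k) (f z) := fun k hk z hz => (hcomm k z).1 (hcen k hk z hz)
    have ea : f a = f (a * ((y : G) ^ i)⁻¹) * f y ^ i := by simp [← map_pow, mul_assoc, ← map_mul]
    have eb : f b = f (b * ((y : G) ^ j)⁻¹) * f y ^ j := by simp [← map_pow, mul_assoc, ← map_mul]
    have hyy : Commute (f y ^ i) (f y ^ j) := (Commute.refl _).pow_pow _ _
    have h1 : Commute (f a) (f (b * ((y : G) ^ j)⁻¹)) := (c1 _ hj a ha).symm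
    have h2 : Commute (f a) (f y ^ j) := by
      rw [ea]
      exact (((c1 _ hi y y.2).pow_right j)).mul_left hyy
    rw [eb]
    exact h1.mul_right h2

/-- Hall's bound inside the quotient, with the sharper form for `|N'| ≥ p^2`. -/
theorem card_bound (hG : IsPGroup p G) (N : Subgroup G) [N.Normal] (a t : ℕ)
    (hN : N ≤ (⊤ : Subgroup G).lowerCentralSeries a) (hc : ⁅N, N⁆ ≤ center G)
    (ht : Nat.card ↥⁅N, N⁆ = p ^ t) (ht1 : 1 ≤ t) :
    p ^ (a + t + 2) ≤ Nat.card N ∧ (2 ≤ t → p ^ (a + t + 3) ≤ Nat.card N) := by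
  haveI : Group.IsNilpotent G := hG.isNilpotent
  have hne : ⁅N, N⁆ ≠ ⊥ := fun h => by
    rw [h, card_bot] at ht
    exact absurd ht.symm (Nat.one_lt_pow (by omega) hp.out.one_lt).ne'
  set W := N ⊓ centralizer (N : Set G) with hW
  have hWN : W ≤ N := inf_le_left
  have hU : N ⊓ Subgroup.upperCentralSeries G (a + 1) ≤ W := by
    refine le_inf inf_le_left fun x hx => mem_centralizer_iff.2 fun y hy => ?_
    have h1 := commutator_lcs_ucs_le (G := G) a 0 (commutator_mem_commutator (hN hy)
      (show x ∈ Subgroup.upperCentralSeries G (0 + a + 1) by rw [zero_add]; exact hx.2))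
    rw [Subgroup.upperCentralSeries_zero, mem_bot] at h1
    exact commutatorElement_eq_one_iff_mul_comm.1 h1
  have hnab : ¬ N ≤ W := fun h => hne (by
    rw [commutator_eq_bot_iff_le_centralizer]
    exact h.trans inf_le_right)
  have hsteps : ∀ j, j ≤ a → p ^ (t + j) ≤ Nat.card ↥(N ⊓ Subgroup.upperCentralSeries G (j + 1) : Subgroup G) := by
    intro j
    induction j with
    | zero =>
      intro _
      rw [add_zero, zero_add, ← ht]
      exact card_le_of_le (le_inf (commutator_le_left N N) (by rw [Subgroup.upperCentralSeries_one]; exact hc))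
    | succ j ih =>
      intro hj
      have hnle : ¬ N ≤ Subgroup.upperCentralSeries G (j + 1) := fun h => hnab
        ((le_inf le_rfl (h.trans (Subgroup.upperCentralSeries_mono (G := G) (by omega)))).trans hU)
      calc p ^ (t + (j + 1)) = p ^ (t + j) * p := by rw [← pow_succ]; rfl
        _ ≤ _ := (Nat.mul_le_mul_right p (ih (by omega))).trans
            (card_mul_le hG (inf_ucs_lt N (j + 1) hnle))
  have hWcard : p ^ (a + t) ≤ Nat.card W := by
    rw [add_comm]; exact (hsteps a le_rfl).trans (card_le_of_le hU)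
  have hidx : Nat.card N = Nat.card W * W.relIndex N := by
    rw [relIndex, ← Nat.card_congr (subgroupOfEquivOfLe hWN).toEquiv]
    exact ((W.subgroupOf N).card_mul_index).symm
  obtain ⟨r, hr⟩ := (hG.to_subgroup N).index (W.subgroupOf N)
  change W.relIndex N = p ^ r at hr
  haveI hWn : (W.subgroupOf N).Normal := by
    refine ⟨fun w hw g => ?_⟩
    rw [mem_subgroupOf] at hw ⊢
    simp only [coe_mul, coe_inv]
    rw [show (g : G) * w * (g : G)⁻¹ = w by
      rw [mem_centralizer_iff.1 hw.2 g g.2, mul_inv_cancel_right]]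
    exact hw
  have hr2 : 2 ≤ r := by
    by_contra hlt
    refine hne (le_bot_iff.1 (commutator_le_of_central (p := p) hWN hWn ?_ ?_ fun k hk y hy => ?_))
    · rw [hr]; exact (Nat.pow_le_pow_right hp.out.pos (by omega : r ≤ 1)).trans_eq (pow_one p)
    · rw [hr]; rcases r with _ | r
      · exact Or.inl (pow_zero p)
      · exact Or.inr (dvd_pow_self p (Nat.succ_ne_zero r))
    · exact mem_bot.2 (commutatorElement_eq_one_iff_mul_comm.2 (mem_centralizer_iff.1 hk.2 y hy).symm)
  have hr3 : 2 ≤ t → 3 ≤ r := by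
    intro ht2
    by_contra hlt
    have hr' : r = 2 := by omega
    obtain ⟨x, hxN, hxW⟩ := SetLike.not_le_iff_exists.1 hnab
    have hcz : ∀ u v : N, ⁅(u : G), (v : G)⁆ ∈ center G := fun u v => hc (commutator_mem_commutator u.2 v.2)
    let ψ : N →* G :=
      { toFun := fun y => ⁅x, (y : G)⁆
        map_one' := by simp
        map_mul' := fun u v => by
          have h1 := mem_center_iff.1 (hcz ⟨x, hxN⟩ v) u
          simp only [coe_mul]
          calc ⁅x, (u : G) * v⁆ = ⁅x, (u : G)⁆ * (u * ⁅x, (v : G)⁆ * (u : G)⁻¹) := by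
                simp only [commutatorElement_def]; group
            _ = ⁅x, (u : G)⁆ * ⁅x, (v : G)⁆ := by rw [h1, mul_inv_cancel_right] }
    set S := ψ.range with hS
    have hSc : S ≤ center G := by rintro _ ⟨y, rfl⟩; exact hcz ⟨x, hxN⟩ y
    haveI : S.Normal := ⟨fun s hs g => by
      rw [mem_center_iff.1 (hSc hs) g, mul_inv_cancel_right]; exact hs⟩
    set K := N ⊓ centralizer ({x} : Set G) with hK
    have hWK : W < K := by
      refine lt_of_le_not_ge (le_inf inf_le_left fun w hw => mem_centralizer_singleton_iff.2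
        (mem_centralizer_iff.1 hw.2 x hxN).symm) fun h => hxW (h ⟨hxN, mem_centralizer_singleton_iff.2 rfl⟩)
    have hKp : K.relIndex N ≤ p := by
      have h1 : W.relIndex K * K.relIndex N = W.relIndex N := relIndex_mul_relIndex _ _ _ hWK.le inf_le_left
      have h2 : p ≤ W.relIndex K := by
        obtain ⟨l, hl⟩ := (hG.to_subgroup K).index (W.subgroupOf K)
        change W.relIndex K = p ^ l at hl
        rcases l with _ | l
        · exact absurd (relIndex_eq_one.1 (by rw [hl, pow_zero])) hWK.not_ge
        · rw [hl]; exact Nat.le_self_pow (Nat.succ_ne_zero l) p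
      rw [hr, hr', pow_two] at h1
      exact Nat.le_of_mul_le_mul_left ((Nat.mul_le_mul_right _ h2).trans h1.le) hp.out.pos
    have hScard : Nat.card S ≤ p := by
      have h1 : ψ.ker = K.subgroupOf N := by
        ext y
        simp only [MonoidHom.mem_ker, mem_subgroupOf, hK, mem_inf, y.2, true_and,
          mem_centralizer_singleton_iff]
        exact commutatorElement_eq_one_iff_mul_comm.trans eq_comm
      have h2 := Subgroup.index_ker ψ
      rw [h1] at h2
      exact h2.symm.trans_le hKp
    have hle : ⁅N, N⁆ ≤ S := by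
      set L := N ⊓ (centralizer ({x} : Set G)) with hL
      -- elements commuting with everything modulo `S`
      set K' := W ⊔ zpowers x with hK'
      have hK'N : K' ≤ N := sup_le hWN (zpowers_le.2 hxN)
      have hcen : ∀ k ∈ K', ∀ y ∈ N, ⁅k, y⁆ ∈ S := by
        intro k hk y hy
        let f := QuotientGroup.mk' S
        have hf : ∀ u v : G, ⁅u, v⁆ ∈ S ↔ f u * f v = f v * f u := by
          intro u v
          rw [← commutatorElement_eq_one_iff_mul_comm, ← map_commutatorElement]
          exact (QuotientGroup.eq_one_iff _).symm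
        have hle : K' ≤ (centralizer ({f y} : Set (G ⧸ S))).comap f := by
          refine sup_le (fun w hw => ?_) (zpowers_le.2 ?_)
          · rw [mem_comap, mem_centralizer_singleton_iff, ← map_mul, ← map_mul,
              mem_centralizer_iff.1 hw.2 y hy]
          · rw [mem_comap, mem_centralizer_singleton_iff]
            exact (hf x y).1 ⟨⟨y, hy⟩, rfl⟩
        exact (hf k y).2 (mem_centralizer_singleton_iff.1 (hle hk))
      have hWK' : W < K' := lt_of_le_not_ge le_sup_left fun h => hxW (h (mem_sup_right (mem_zpowers x)))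
      haveI hK'n : (K'.subgroupOf N).Normal := by
        refine (normal_subgroupOf_iff_le_normalizer hK'N).2 fun g hg => ?_
        have hkey : ∀ g ∈ N, ∀ h ∈ K', g * h * g⁻¹ ∈ K' := fun g hg h hh => by
          have h1 : ⁅g, h⁆ ∈ W := ⟨commutator_le_left N N (commutator_mem_commutator hg (hK'N hh)),
            center_le_centralizer _ (hc (commutator_mem_commutator hg (hK'N hh)))⟩
          have h2 := mul_mem (mem_sup_left (T := zpowers x) h1) hh
          simpa [commutatorElement_def] using h2
        refine mem_normalizer_iff.2 fun h => ⟨hkey g hg h, fun hh => ?_⟩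
        have := hkey g⁻¹ (inv_mem hg) _ hh
        simpa [mul_assoc] using this
      obtain ⟨l, hl⟩ := (hG.to_subgroup K').index (W.subgroupOf K')
      change W.relIndex K' = p ^ l at hl
      obtain ⟨m, hm⟩ := (hG.to_subgroup N).index (K'.subgroupOf N)
      change K'.relIndex N = p ^ m at hm
      have h1 : W.relIndex K' * K'.relIndex N = W.relIndex N := relIndex_mul_relIndex _ _ _ hWK'.le hK'N
      rw [hl, hm, hr, hr', ← pow_add] at h1
      have h2 := Nat.pow_right_injective hp.out.two_le h1
      have hl0 : l ≠ 0 := fun h => hWK'.not_ge (relIndex_eq_one.1 (by rw [hl, h, pow_zero]))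
      refine commutator_le_of_central (p := p) hK'N hK'n ?_ ?_ hcen
      · rw [hm]; exact (Nat.pow_le_pow_right hp.out.pos (by omega : m ≤ 1)).trans_eq (pow_one p)
      · rw [hm]; rcases m with _ | m
        · exact Or.inl (pow_zero p)
        · exact Or.inr (dvd_pow_self p (Nat.succ_ne_zero m))
    have := (card_le_of_le hle).trans hScard
    rw [ht] at this
    exact absurd this (not_le.2 (by
      calc p = p ^ 1 := (pow_one p).symm
        _ < p ^ t := Nat.pow_lt_pow_right hp.out.one_lt (by omega)))
  refine ⟨?_, fun ht2 => ?_⟩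
  · rw [hidx, hr, pow_add]; exact Nat.mul_le_mul hWcard (Nat.pow_le_pow_right hp.out.pos hr2)
  · rw [hidx, hr, pow_add]; exact Nat.mul_le_mul hWcard (Nat.pow_le_pow_right hp.out.pos (hr3 ht2))

/-- `|N : N'|` bound for a normal subgroup with an index `p^t` central section in `N'`. -/
theorem relIndex_bound (hG : IsPGroup p G) (N : Subgroup G) [N.Normal] (a t : ℕ)
    (hN : N ≤ (⊤ : Subgroup G).lowerCentralSeries a) (ht1 : 1 ≤ t)
    (ht : p ^ t ≤ (⁅⁅N, N⁆, (⊤ : Subgroup G)⁆).relIndex ⁅N, N⁆) :
    p ^ (a + 2) ≤ (⁅N, N⁆).relIndex N ∧ (2 ≤ t → p ^ (a + 3) ≤ (⁅N, N⁆).relIndex N) := by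
  set D := ⁅N, N⁆ with hD
  set T0 := ⁅D, (⊤ : Subgroup G)⁆ with hT0
  haveI : D.Normal := commutator_normal N N
  have hT0D : T0 ≤ D := commutator_le_left D ⊤
  obtain ⟨d, hd⟩ := IsPGroup.iff_card.1 (hG.to_subgroup D)
  obtain ⟨e, he⟩ := IsPGroup.iff_card.1 (hG.to_subgroup T0)
  have hidx : Nat.card T0 * T0.relIndex D = Nat.card D := by
    rw [relIndex, ← Nat.card_congr (subgroupOfEquivOfLe hT0D).toEquiv]
    exact (T0.subgroupOf D).card_mul_index
  have hed : e + t ≤ d := by
    rw [← Nat.pow_le_pow_iff_right hp.out.one_lt, pow_add, ← he, ← hd, ← hidx]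
    exact Nat.mul_le_mul_left _ ht
  obtain ⟨L0, hL0c, hL0⟩ := Sylow.exists_subgroup_card_pow_prime_le (G := D) p (n := e) (m := d - t)
    (by rw [hd]; exact pow_dvd_pow p (Nat.sub_le d t)) (T0.subgroupOf D)
    (by rw [Nat.card_congr (subgroupOfEquivOfLe hT0D).toEquiv, he]) (by omega)
  set L := L0.map D.subtype with hL
  have hLD : L ≤ D := map_subtype_le L0
  have hTL : T0 ≤ L := fun x hx => ⟨⟨x, hT0D hx⟩, hL0 hx, rfl⟩
  haveI hLn : L.Normal := by
    refine ⟨fun l hl g => ?_⟩
    have h1 : ⁅l, g⁆⁻¹ ∈ L := inv_mem (hTL (commutator_mem_commutator (hLD hl) (mem_top g)))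
    have h2 := mul_mem h1 hl
    simpa [commutatorElement_def, mul_assoc] using h2
  have hLc : Nat.card L = p ^ (d - t) := by
    rw [← hL0c]; exact (Nat.card_congr (equivMapOfInjective L0 D.subtype D.subtype_injective).toEquiv).symm
  set f := QuotientGroup.mk' L with hf
  have hDN : D ≤ N := commutator_le_left N N
  have hcard : ∀ H : Subgroup G, L ≤ H → Nat.card (H.map f) * Nat.card L = Nat.card H := by
    intro H hLH
    rw [← relIndex_ker, hf, QuotientGroup.ker_mk', mul_comm, relIndex,
      ← Nat.card_congr (subgroupOfEquivOfLe hLH).toEquiv]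
    exact (L.subgroupOf H).card_mul_index
  have hmapD : Nat.card ↥⁅N.map f, N.map f⁆ = p ^ t := by
    rw [← map_commutator, ← hD]
    have := hcard D hLD
    rw [hLc, hd, show d = t + (d - t) by omega, pow_add, ← show d = t + (d - t) by omega] at this
    exact Nat.eq_of_mul_eq_mul_right (pow_pos hp.out.pos _) this
  haveI : (N.map f).Normal := Normal.map inferInstance f (QuotientGroup.mk'_surjective L)
  have hc : ⁅N.map f, N.map f⁆ ≤ center (G ⧸ L) := by
    rw [← map_commutator]
    rintro _ ⟨x, hx, rfl⟩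
    refine mem_center_iff.2 fun y => ?_
    obtain ⟨y, rfl⟩ := QuotientGroup.mk'_surjective L y
    refine (commutatorElement_eq_one_iff_mul_comm.1 ?_).symm
    rw [← map_commutatorElement]
    exact (QuotientGroup.eq_one_iff _).2 (hTL (commutator_mem_commutator hx (mem_top y)))
  have hNa : N.map f ≤ (⊤ : Subgroup (G ⧸ L)).lowerCentralSeries a := by
    exact (map_mono hN).trans (Subgroup.lowerCentralSeries.map f a)
  have hB := card_bound (hG.to_quotient L) (N.map f) a t hNa hc hmapD ht1
  have hrel : (D.relIndex N) * p ^ t = Nat.card (N.map f) := by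
    refine Nat.eq_of_mul_eq_mul_right (pow_pos hp.out.pos (d - t)) ?_
    rw [mul_assoc, ← pow_add, show t + (d - t) = d by omega, ← hd, ← hLc, hcard N (hLD.trans hDN), mul_comm,
      relIndex, ← Nat.card_congr (subgroupOfEquivOfLe hDN).toEquiv]
    exact (D.subgroupOf N).card_mul_index
  have hcancel : ∀ c, p ^ (a + t + c) ≤ Nat.card (N.map f) → p ^ (a + c) ≤ D.relIndex N := by
    intro c hc
    rw [← hrel, show a + t + c = a + c + t by omega, pow_add] at hc
    exact Nat.le_of_mul_le_mul_right hc (pow_pos hp.out.pos t)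
  exact ⟨hcancel 2 hB.1, fun ht2 => hcancel 3 (hB.2 ht2)⟩

/-- A cyclic top layer pushes the derived group one step further down. -/
theorem commutator_le_of_cyclic_top (hG : IsPGroup p G) (N : Subgroup G) [N.Normal] (a : ℕ)
    (hN : N ≤ (⊤ : Subgroup G).lowerCentralSeries a)
    (hcyc : (⁅N, (⊤ : Subgroup G)⁆).relIndex N ≤ p) :
    ⁅N, N⁆ ≤ (⊤ : Subgroup G).lowerCentralSeries (2 * a + 2) := by
  set R := ⁅N, (⊤ : Subgroup G)⁆ with hR
  haveI : R.Normal := commutator_normal N ⊤
  obtain ⟨m, hm⟩ := (hG.to_subgroup N).index (R.subgroupOf N)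
  change R.relIndex N = p ^ m at hm
  refine commutator_le_of_central (p := p) (commutator_le_left N ⊤) inferInstance hcyc ?_ fun k hk y hy => ?_
  · rw [hm]; rcases m with _ | m
    · exact Or.inl (pow_zero p)
    · exact Or.inr (dvd_pow_self p (Nat.succ_ne_zero m))
  · have hR' : R ≤ (⊤ : Subgroup G).lowerCentralSeries (a + 1) := by
      rw [Subgroup.lowerCentralSeries_succ]; exact commutator_mono hN le_rfl
    have h1 := CfsgLib.PGroup.PolySeq.commutator_lcs_le (a + 1) a
      (commutator_mem_commutator (hR' hk) (hN hy))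
    rwa [show a + 1 + a + 1 = 2 * a + 2 by omega] at h1

/-- The derived series inside `G`. -/
abbrev D (G : Type u) [Group G] (i : ℕ) : Subgroup G := derivedSeries G i

theorem invariant (hG : IsPGroup p G) (k : ℕ) (hk : derivedSeries G k ≠ ⊥) :
    ∀ i, i ≤ k → ∃ a g : ℕ, derivedSeries G i ≤ (⊤ : Subgroup G).lowerCentralSeries a ∧
      p ^ g ≤ (derivedSeries G i).index ∧ 2 ^ i ≤ a + 1 ∧ 2 ^ (i + 1) + 2 * i ≤ g + a + 3 ∧
      (p < (⁅derivedSeries G i, (⊤ : Subgroup G)⁆).relIndex (derivedSeries G i) →
        2 ^ (i + 1) + 2 * i ≤ g + a + 2) ∧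
      (1 ≤ i → 2 ^ i + 2 * i ≤ g + 3) := by
  intro i
  induction i with
  | zero =>
    intro _
    exact ⟨0, 0, le_top, by simp, le_rfl, by simp, fun _ => by simp, fun h => by omega⟩
  | succ i ih =>
    intro hi
    obtain ⟨a, g, hle, hg, ha, hΦ, htop, -⟩ := ih (by omega)
    set N := derivedSeries G i with hN
    haveI : N.Normal := derivedSeries_normal G i
    rw [derivedSeries_succ, ← hN]
    set M := ⁅N, N⁆ with hM
    haveI : M.Normal := commutator_normal N N
    have hMne : M ≠ ⊥ := fun h => hk (le_bot_iff.1 (by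
      rw [← h, hM, hN, ← derivedSeries_succ]
      exact derivedSeries_antitone G hi))
    haveI : Group.IsNilpotent G := hG.isNilpotent
    have hMlt : p ≤ (⁅M, (⊤ : Subgroup G)⁆).relIndex M := by
      obtain ⟨l, hl⟩ := (hG.to_subgroup M).index ((⁅M, (⊤ : Subgroup G)⁆).subgroupOf M)
      change (⁅M, (⊤ : Subgroup G)⁆).relIndex M = p ^ l at hl
      rcases l with _ | l
      · exfalso
        have hMM : M ≤ ⁅M, (⊤ : Subgroup G)⁆ := relIndex_eq_one.1 (by rw [hl, pow_zero])
        obtain ⟨c, hc⟩ := Subgroup.nilpotent_iff_lowerCentralSeries.1 (inferInstance : Group.IsNilpotent G)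
        have : ∀ n, M ≤ (⊤ : Subgroup G).lowerCentralSeries n := by
          intro n
          induction n with
          | zero => exact le_top
          | succ n ih => rw [Subgroup.lowerCentralSeries_succ]; exact hMM.trans (commutator_mono ih le_rfl)
        exact hMne (le_bot_iff.1 (hc ▸ this c))
      · rw [hl]; exact Nat.le_self_pow (Nat.succ_ne_zero l) p
    have hidx : p ^ g * M.relIndex N ≤ M.index := by
      rw [← relIndex_mul_index (commutator_le_left N N : M ≤ N), mul_comm]
      exact Nat.mul_le_mul_left _ hg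
    have hs := (relIndex_bound hG N a 1 hle le_rfl (by rwa [pow_one])).1
    by_cases htop' : p < (⁅M, (⊤ : Subgroup G)⁆).relIndex M
    · have hs' : p ^ (a + 3) ≤ M.relIndex N := by
        obtain ⟨l, hl⟩ := (hG.to_subgroup M).index ((⁅M, (⊤ : Subgroup G)⁆).subgroupOf M)
        change (⁅M, (⊤ : Subgroup G)⁆).relIndex M = p ^ l at hl
        have hl2 : 2 ≤ l := by
          by_contra h
          rw [hl] at htop'
          exact absurd ((Nat.pow_le_pow_right hp.out.pos (by omega : l ≤ 1)).trans_eq (pow_one p)) (not_le.2 htop')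
        exact (relIndex_bound hG N a 2 hle (by omega)
          (by rw [hl]; exact Nat.pow_le_pow_right hp.out.pos hl2)).2 le_rfl
      have hidx' : p ^ (g + a + 3) ≤ M.index := by
        rw [add_assoc, pow_add]; exact (Nat.mul_le_mul_left _ hs').trans hidx
      by_cases hcyc : p < (⁅N, (⊤ : Subgroup G)⁆).relIndex N
      · refine ⟨2 * a + 1, g + a + 3, ?_, hidx', ?_, ?_, fun _ => ?_, fun _ => ?_⟩
        · refine (commutator_mono hle hle).trans ((CfsgLib.PGroup.PolySeq.commutator_lcs_le a a).trans ?_)
          rw [two_mul]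
        all_goals have := htop hcyc
        all_goals rw [pow_succ] at *
        all_goals omega
      · push Not at hcyc
        refine ⟨2 * a + 2, g + a + 3, commutator_le_of_cyclic_top hG N a hle hcyc, hidx', ?_, ?_,
          fun _ => ?_, fun _ => ?_⟩
        all_goals rw [pow_succ] at *
        all_goals omega
    · have hidx' : p ^ (g + a + 2) ≤ M.index := by
        rw [add_assoc, pow_add]; exact (Nat.mul_le_mul_left _ hs).trans hidx
      by_cases hcyc : p < (⁅N, (⊤ : Subgroup G)⁆).relIndex N
      · refine ⟨2 * a + 1, g + a + 2, ?_, hidx', ?_, ?_, fun h => absurd h htop', fun _ => ?_⟩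
        · refine (commutator_mono hle hle).trans ((CfsgLib.PGroup.PolySeq.commutator_lcs_le a a).trans ?_)
          rw [two_mul]
        all_goals have := htop hcyc
        all_goals rw [pow_succ] at *
        all_goals omega
      · push Not at hcyc
        refine ⟨2 * a + 2, g + a + 2, commutator_le_of_cyclic_top hG N a hle hcyc, hidx', ?_, ?_,
          fun h => absurd h htop', fun _ => ?_⟩
        all_goals rw [pow_succ] at *
        all_goals omega

/-- A `p`-group of order `p^n` and derived length `k + 1` has `2^k + 2k ≤ n + 2`. -/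
theorem bound (hG : IsPGroup p G) {n k : ℕ} (hcard : Nat.card G = p ^ n)
    (hk : derivedSeries G k ≠ ⊥) : 2 ^ k + 2 * k ≤ n + 2 := by
  obtain ⟨a, g, -, hg, -, -, -, hfin⟩ := invariant hG k hk k le_rfl
  have h1 : p ^ (g + 1) ≤ p ^ n := by
    have hpos : p ≤ Nat.card (derivedSeries G k) := by
      have h := card_mul_le hG (bot_lt_iff_ne_bot.2 hk)
      rwa [card_bot, one_mul] at h
    rw [← hcard, ← (derivedSeries G k).index_mul_card, pow_succ]
    exact Nat.mul_le_mul hg hpos
  have h2 := (Nat.pow_le_pow_iff_right hp.out.one_lt).1 h1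
  rcases Nat.eq_zero_or_pos k with rfl | hk0
  · simp
  · have := hfin hk0
    omega

end CfsgLib.Frobenius.DerivedLengthBound
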