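import Cfsg.Agent.Lib.Frobenius.FixedFormulaLinear
import Cfsg.Agent.Lib.Coprime.Action
import Mathlib.Algebra.Module.ZMod
import Mathlib.GroupTheory.Solvable
import Mathlib.GroupTheory.Perm.Cycle.Type

/-!
# The fixed-point formula for a Frobenius group acting coprimely on a solvable group
-/

set_option autoImplicit false

namespace CfsgLib.Frobenius.FixedFormula

open Subgroup
open scoped commutatorElement

variable {X : Type*} [Group X] [Finite X]

/-- A proper invariant normal subgroup with elementary abelian quotient. -/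
theorem exists_step {A H : Subgroup X} (hAH : ∀ a ∈ A, ∀ h ∈ H, a * h * a⁻¹ ∈ H)
    (hsolv : Group.IsSolvable H) (hH : H ≠ ⊥) :
    ∃ (p : ℕ) (N : Subgroup X), p.Prime ∧ p ∣ Nat.card H ∧ N < H ∧
      (∀ a ∈ A, ∀ x ∈ N, a * x * a⁻¹ ∈ N) ∧ (∀ h ∈ H, ∀ x ∈ N, h * x * h⁻¹ ∈ N) ∧
      (∀ h ∈ H, ∀ h' ∈ H, ⁅h, h'⁆ ∈ N) ∧ ∀ h ∈ H, h ^ p ∈ N := by
  classical
  have := hsolv
  have hDH : ⁅H, H⁆ ≤ H := commutator_le.2 fun a ha b hb =>
    mul_mem (mul_mem (mul_mem ha hb) (inv_mem ha)) (inv_mem hb)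
  have hlt : ⁅H, H⁆ < H := by
    haveI : Nontrivial H := (Subgroup.nontrivial_iff_ne_bot H).mpr hH
    refine lt_of_le_of_ne hDH fun e => ?_
    refine (Group.IsSolvable.commutator_lt_top_of_nontrivial (G := H)).ne ?_
    apply Subgroup.map_injective H.subtype_injective
    rw [commutator_def, map_commutator, ← MonoidHom.range_eq_map, range_subtype, e]
  haveI hn : (⁅H, H⁆.subgroupOf H).Normal := by
    rw [normal_subgroupOf_iff_le_normalizer hDH]
    exact fun h hh => mem_normalizer_iff_map_conj_eq.2 (by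
      rw [map_commutator, mem_normalizer_iff_map_conj_eq.1 (le_normalizer hh)])
  have hidx : 1 < (⁅H, H⁆.subgroupOf H).index := by
    refine Subgroup.one_lt_index_of_ne_top fun e => hlt.ne ?_
    exact le_antisymm hDH (subgroupOf_eq_top.1 e)
  obtain ⟨p, hp, hpd⟩ := Nat.exists_prime_and_dvd hidx.ne'
  haveI : Fact p.Prime := ⟨hp⟩
  set S : Set X := {y | ∃ h ∈ H, h ^ p = y}
  refine ⟨p, ⁅H, H⁆ ⊔ closure S, hp, hpd.trans (index_dvd_card _), ?_, ?_, ?_, ?_, ?_⟩
  · have hle : ⁅H, H⁆ ⊔ closure S ≤ H :=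
      sup_le hDH ((closure_le _).2 fun y ⟨h, hh, e⟩ => e ▸ pow_mem hh p)
    refine lt_of_le_of_ne hle fun e => ?_
    set Q := H ⧸ ⁅H, H⁆.subgroupOf H
    have hc : ∀ a b : Q, a * b = b * a := by
      intro a b
      obtain ⟨a, rfl⟩ := QuotientGroup.mk_surjective a
      obtain ⟨b, rfl⟩ := QuotientGroup.mk_surjective b
      refine (QuotientGroup.eq).2 (mem_subgroupOf.2 ?_)
      have : (((a * b)⁻¹ * (b * a) : H) : X) = ⁅(b : X)⁻¹, (a : X)⁻¹⁆ := by
        simp [commutatorElement_def, mul_assoc]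
      rw [this]
      exact commutator_mem_commutator (inv_mem b.2) (inv_mem a.2)
    let pw : Q →* Q :=
      { toFun := fun q => q ^ p
        map_one' := one_pow p
        map_mul' := fun a b => Commute.mul_pow (hc a b) p }
    have hsurj : Function.Surjective pw := by
      have hrange : closure S ⊔ ⁅H, H⁆ ≤
          (pw.range.comap (QuotientGroup.mk' (⁅H, H⁆.subgroupOf H))).map H.subtype := by
        refine sup_le ((closure_le _).2 ?_) fun x hx => ?_
        · rintro y ⟨h, hh, rfl⟩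
          exact ⟨⟨h, hh⟩ ^ p, ⟨QuotientGroup.mk ⟨h, hh⟩, rfl⟩, rfl⟩
        · refine ⟨⟨x, hDH hx⟩, ?_, rfl⟩
          show (QuotientGroup.mk' _) ⟨x, hDH hx⟩ ∈ pw.range
          rw [show (QuotientGroup.mk' (⁅H, H⁆.subgroupOf H)) ⟨x, hDH hx⟩ = 1 from
            (QuotientGroup.eq_one_iff _).2 (mem_subgroupOf.2 hx)]
          exact one_mem _
      intro q
      obtain ⟨h, rfl⟩ := QuotientGroup.mk_surjective q
      obtain ⟨h', hh', e'⟩ := hrange (by rw [sup_comm, e]; exact h.2)
      rw [← H.subtype_injective e']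
      exact hh'
    obtain ⟨x, hx⟩ := exists_prime_orderOf_dvd_card' (G := Q) p hpd
    have : x = 1 := (Finite.injective_iff_surjective.2 hsurj) (by
      show x ^ p = 1 ^ p
      rw [one_pow, ← hx, pow_orderOf_eq_one])
    rw [this, orderOf_one] at hx
    exact hp.one_lt.ne hx
  · have hmap : ∀ a ∈ A, (⁅H, H⁆ ⊔ closure S).map (MulAut.conj a).toMonoidHom ≤ ⁅H, H⁆ ⊔ closure S := by
      intro a ha
      have hH' : H.map (MulAut.conj a).toMonoidHom ≤ H := by
        rintro _ ⟨h, hh, rfl⟩; exact hAH a ha h hh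
      rw [Subgroup.map_sup, map_commutator, MonoidHom.map_closure]
      refine sup_le_sup (commutator_mono hH' hH') (closure_mono ?_)
      rintro _ ⟨_, ⟨h, hh, rfl⟩, rfl⟩
      exact ⟨a * h * a⁻¹, hAH a ha h hh, by simp [conj_pow]⟩
    exact fun a ha x hx => hmap a ha ⟨x, hx, rfl⟩
  · intro h hh x hx
    have hle : ⁅H, H⁆ ⊔ closure S ≤ H :=
      sup_le hDH ((closure_le _).2 fun y ⟨h, hh, e⟩ => e ▸ pow_mem hh p)
    have hxH : x ∈ H := hle hx
    have := mul_mem (mem_sup_left (T := closure S) (commutator_mem_commutator hh hxH)) hx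
    simpa [commutatorElement_def] using this
  · exact fun h hh h' hh' => mem_sup_left (commutator_mem_commutator hh hh')
  · exact fun h hh => mem_sup_right (subset_closure ⟨h, hh, rfl⟩)

/-- The formula on a vector space over `ZMod p`. -/
theorem module_formula {A V : Type*} [Group A] [Finite A] {p : ℕ} [Fact p.Prime] [AddCommGroup V]
    [Module (ZMod p) V] [Finite V] (U E : Subgroup A)
    (hUn : ∀ e ∈ E, ∀ u ∈ U, e * u * e⁻¹ ∈ U)
    (hfpf : ∀ e ∈ E, e ≠ 1 → ∀ u ∈ U, e * u = u * e → u = 1)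
    (hbij : Function.Bijective fun x : U × E => (x.1 : A) * x.2)
    (hcop : (Nat.card A).Coprime p) (f : A → V →+ V) (h1 : ∀ v, f 1 v = v)
    (hmul : ∀ a b v, f (a * b) v = f a (f b v)) :
    Nat.card {v : V // ∀ a : A, f a v = v} ^ Nat.card E * Nat.card V =
      Nat.card {v : V // ∀ a ∈ E, f a v = v} ^ Nat.card E *
        Nat.card {v : V // ∀ a ∈ U, f a v = v} := by
  classical
  cases nonempty_fintype A
  haveI : Module.Finite (ZMod p) V := Module.Finite.of_finite
  let b := Module.finBasis (ZMod p) V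
  let g : A → (V →ₗ[ZMod p] V) := fun a => (f a).toZModLinearMap p
  let ρ : A →* Matrix (Fin (Module.finrank (ZMod p) V)) (Fin (Module.finrank (ZMod p) V)) (ZMod p) :=
    { toFun := fun a => LinearMap.toMatrix b b (g a)
      map_one' := by
        rw [show g 1 = LinearMap.id from LinearMap.ext h1, LinearMap.toMatrix_id]
      map_mul' := fun x y => by
        rw [← LinearMap.toMatrix_comp b b b,
          show g (x * y) = (g x).comp (g y) from LinearMap.ext (hmul x y)] }
  have hρ : ∀ (a : A) (v : V), Matrix.mulVec (ρ a) (b.equivFun v) = b.equivFun (f a v) := fun a v =>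
    LinearMap.toMatrix_mulVec_repr b b (g a) v
  have hfix : ∀ P : A → Prop, Nat.card {v : V // ∀ a, P a → f a v = v} =
      Nat.card {w : Fin (Module.finrank (ZMod p) V) → ZMod p // ∀ a, P a → Matrix.mulVec (ρ a) w = w} :=
    fun P => Nat.card_congr (b.equivFun.toEquiv.subtypeEquiv fun v => forall₂_congr fun a _ => by
      show f a v = v ↔ Matrix.mulVec (ρ a) (b.equivFun v) = b.equivFun v
      rw [hρ, b.equivFun.injective.eq_iff])
  have hall : Nat.card {v : V // ∀ a : A, f a v = v} =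
      Nat.card {w : Fin (Module.finrank (ZMod p) V) → ZMod p // ∀ a, Matrix.mulVec (ρ a) w = w} :=
    Nat.card_congr (b.equivFun.toEquiv.subtypeEquiv fun v => forall_congr' fun a => by
      show f a v = v ↔ Matrix.mulVec (ρ a) (b.equivFun v) = b.equivFun v
      rw [hρ, b.equivFun.injective.eq_iff])
  have hV : Nat.card V = p ^ Module.finrank (ZMod p) V := by
    rw [Module.natCard_eq_pow_finrank (K := ZMod p), Nat.card_zmod]
  rw [hall, hfix (· ∈ E), hfix (· ∈ U), hV]
  exact matrix_formula U E hUn hfpf hbij hcop ρ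

theorem card_factor {U E H : Subgroup X} (hUn : ∀ e ∈ E, ∀ u ∈ U, e * u * e⁻¹ ∈ U)
    (hUE : U ⊓ E = ⊥) (hfpf : ∀ e ∈ E, e ≠ 1 → ∀ u ∈ U, e * u = u * e → u = 1)
    (hHn : ∀ x ∈ U ⊔ E, ∀ h ∈ H, x * h * x⁻¹ ∈ H)
    (hcop : (Nat.card H).Coprime (Nat.card ↥(U ⊔ E))) (hsolv : Group.IsSolvable H)
    {p : ℕ} [Fact p.Prime] (hp : p ∣ Nat.card H) {N : Subgroup X} (hNH : N ≤ H)
    (hNA : ∀ a ∈ U ⊔ E, ∀ x ∈ N, a * x * a⁻¹ ∈ N) (hNn : ∀ h ∈ H, ∀ x ∈ N, h * x * h⁻¹ ∈ N)
    (hcomm : ∀ h ∈ H, ∀ h' ∈ H, ⁅h, h'⁆ ∈ N) (hexp : ∀ h ∈ H, h ^ p ∈ N)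
    (hN : Nat.card ↥(N ⊓ centralizer ((U ⊔ E : Subgroup X) : Set X)) ^ Nat.card E * Nat.card N =
      Nat.card ↥(N ⊓ centralizer (E : Set X)) ^ Nat.card E * Nat.card ↥(N ⊓ centralizer (U : Set X))) :
    Nat.card ↥(H ⊓ centralizer ((U ⊔ E : Subgroup X) : Set X)) ^ Nat.card E * Nat.card H =
      Nat.card ↥(H ⊓ centralizer (E : Set X)) ^ Nat.card E * Nat.card ↥(H ⊓ centralizer (U : Set X)) := by
  classical
  set A := U ⊔ E with hA
  cases nonempty_fintype A
  haveI hn : (N.subgroupOf H).Normal :=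
    ⟨fun x hx h => mem_subgroupOf.2 (hNn h h.2 x (mem_subgroupOf.1 hx))⟩
  set Q := H ⧸ N.subgroupOf H
  have hQc : ∀ a b : Q, a * b = b * a := by
    intro a b
    obtain ⟨a, rfl⟩ := QuotientGroup.mk_surjective a
    obtain ⟨b, rfl⟩ := QuotientGroup.mk_surjective b
    refine (QuotientGroup.eq).2 (mem_subgroupOf.2 ?_)
    have : (((a * b)⁻¹ * (b * a) : H) : X) = ⁅(b : X)⁻¹, (a : X)⁻¹⁆ := by
      simp [commutatorElement_def, mul_assoc]
    rw [this]
    exact hcomm _ (inv_mem b.2) _ (inv_mem a.2)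
  letI : CommGroup Q := { (inferInstance : Group Q) with mul_comm := hQc }
  let conjH : A → (H →* H) := fun a =>
    { toFun := fun h => ⟨a * h * (a : X)⁻¹, hHn a a.2 h h.2⟩
      map_one' := Subtype.ext (by simp)
      map_mul' := fun x y => Subtype.ext (by simp [mul_assoc]) }
  let act : A → (Q →* Q) := fun a => QuotientGroup.map _ _ (conjH a)
    (fun x hx => mem_subgroupOf.2 (hNA a a.2 x (mem_subgroupOf.1 hx)))
  have hact : ∀ (a : A) (h : H), act a h = ((conjH a h : H) : Q) := fun a h => rfl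
  have htor : ∀ q : Additive Q, p • q = 0 := fun q => by
    obtain ⟨h, hh⟩ := QuotientGroup.mk_surjective (Additive.toMul q)
    apply Additive.toMul.injective
    rw [toMul_nsmul, toMul_zero, ← hh]
    exact (QuotientGroup.eq_one_iff _).2 (mem_subgroupOf.2 (hexp h h.2))
  letI : Module (ZMod p) (Additive Q) := AddCommGroup.zmodModule htor
  haveI : Finite (Additive Q) := (inferInstance : Finite Q)
  let f : A → Additive Q →+ Additive Q := fun a => MonoidHom.toAdditive (act a)
  have hf : ∀ (a : A) (q : Q), f a (Additive.ofMul q) = Additive.ofMul (act a q) := fun a q => rfl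
  have hcopA : (Nat.card A).Coprime p :=
    Nat.Coprime.coprime_dvd_right hp hcop.symm
  have hAN : A ≤ normalizer (N : Set X) := le_normalizer_iff.2 hNA
  -- fixed points in the factor
  have key : ∀ (K : Subgroup X), K ≤ A →
      Nat.card ↥(H ⊓ centralizer (K : Set X)) = Nat.card ↥(N ⊓ centralizer (K : Set X)) *
        Nat.card {v : Additive Q // ∀ a ∈ K.subgroupOf A, f a v = v} := by
    intro K hK
    set C := H ⊓ centralizer (K : Set X)
    let r : C →* Q := (QuotientGroup.mk' (N.subgroupOf H)).comp (inclusion inf_le_left)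
    have hker : Nat.card r.ker = Nat.card ↥(N ⊓ centralizer (K : Set X)) := by
      refine Nat.card_congr
        { toFun := fun x => ⟨x.1.1, mem_inf.2 ⟨mem_subgroupOf.1 ((QuotientGroup.eq_one_iff _).1
            (MonoidHom.mem_ker.1 x.2) : inclusion inf_le_left x.1 ∈ N.subgroupOf H), (mem_inf.1 x.1.2).2⟩⟩
          invFun := fun x => ⟨⟨x.1, mem_inf.2 ⟨hNH (mem_inf.1 x.2).1, (mem_inf.1 x.2).2⟩⟩,
            MonoidHom.mem_ker.2 ((QuotientGroup.eq_one_iff _).2 (mem_subgroupOf.2 (mem_inf.1 x.2).1))⟩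
          left_inv := fun x => rfl
          right_inv := fun x => rfl }
    have hrange : ∀ q : Q, q ∈ r.range ↔ ∀ a : A, (a : X) ∈ K → act a q = q := by
      intro q
      constructor
      · rintro ⟨c, rfl⟩ a ha
        show act a ((inclusion inf_le_left c : H) : Q) = _
        rw [hact]
        refine congrArg _ (Subtype.ext ?_)
        show (a : X) * c * (a : X)⁻¹ = c
        rw [mem_centralizer_iff.1 (mem_inf.1 c.2).2 a ha, mul_inv_cancel_right]
      · intro hq
        obtain ⟨h, rfl⟩ := QuotientGroup.mk_surjective q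
        have hk : ∀ a ∈ K, ⁅a, (h : X)⁆ ∈ N := by
          intro a ha
          have he := hq ⟨a, hK ha⟩ ha
          rw [hact] at he
          have h' := mem_subgroupOf.1 ((QuotientGroup.eq).1 he)
          have h'' := hNn (conjH ⟨a, hK ha⟩ h) (conjH ⟨a, hK ha⟩ h).2 _ h'
          simp only [conjH, MonoidHom.coe_mk, OneHom.coe_mk, Subgroup.coe_mul, InvMemClass.coe_inv,
            mul_inv_rev, inv_inv] at h''
          rw [← inv_mem_iff, commutatorElement_inv, commutatorElement_def]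
          simpa [mul_assoc] using h''
        obtain ⟨c, hc, hcN⟩ := CfsgLib.Coprime.exists_centralizer_inv_mul_mem (A := K) (K := H)
          (hK.trans hAN) hNH (le_normalizer_iff.2 hNn)
          (CfsgLib.Coprime.coprime_of_le hcop.symm hK hNH)
          (.inr (CfsgLib.Coprime.isSolvable_of_le hNH hsolv)) h.2 hk
        exact ⟨⟨c, hc⟩, ((QuotientGroup.eq).2 (mem_subgroupOf.2 hcN)).symm⟩
    have hfix : Nat.card r.range =
        Nat.card {v : Additive Q // ∀ a ∈ K.subgroupOf A, f a v = v} := by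
      refine Nat.card_congr (Additive.ofMul.subtypeEquiv fun q => ?_)
      rw [hrange]
      refine forall_congr' fun a => imp_congr mem_subgroupOf.symm ?_
      rw [hf, Additive.ofMul.injective.eq_iff]
    rw [card_eq_card_quotient_mul_card_subgroup r.ker,
      Nat.card_congr (QuotientGroup.quotientKerEquivRange r).toEquiv, hker, hfix, mul_comm]
  have hcardH : Nat.card H = Nat.card N * Nat.card (Additive Q) := by
    rw [card_eq_card_quotient_mul_card_subgroup (N.subgroupOf H),
      Nat.card_congr (subgroupOfEquivOfLe hNH).toEquiv, mul_comm]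
    rfl
  have hU : U ≤ A := le_sup_left
  have hE : E ≤ A := le_sup_right
  have hEU : E ≤ normalizer (U : Set X) := le_normalizer_iff.2 hUn
  have hbij : Function.Bijective fun x : U.subgroupOf A × E.subgroupOf A => (x.1 : A) * x.2 := by
    rw [Nat.bijective_iff_injective_and_card]
    refine ⟨?_, ?_⟩
    · intro x y h
      have h' : ((x.1 : A) : X) * x.2 = (y.1 : A) * y.2 := congrArg Subtype.val h
      have hm : ((y.1 : A) : X)⁻¹ * (x.1 : A) ∈ U ⊓ E := by
        refine mem_inf.2 ⟨mul_mem (inv_mem (mem_subgroupOf.1 y.1.2)) (mem_subgroupOf.1 x.1.2), ?_⟩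
        rw [show ((y.1 : A) : X)⁻¹ * (x.1 : A) = (y.2 : A) * ((x.2 : A) : X)⁻¹ by
          rw [eq_mul_inv_iff_mul_eq, mul_assoc, h', inv_mul_cancel_left]]
        exact mul_mem (mem_subgroupOf.1 y.2.2) (inv_mem (mem_subgroupOf.1 x.2.2))
      rw [hUE, mem_bot, inv_mul_eq_one] at hm
      rw [← hm, mul_right_inj] at h'
      exact Prod.ext (Subtype.ext (Subtype.ext hm.symm)) (Subtype.ext (Subtype.ext h'))
    · rw [Nat.card_prod, Nat.card_congr (subgroupOfEquivOfLe hU).toEquiv,
        Nat.card_congr (subgroupOfEquivOfLe hE).toEquiv]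
      exact (CfsgLib.Coprime.card_sup_of_le_normalizer hEU (disjoint_iff.2 hUE)).symm
  have hf1 : ∀ v, f 1 v = v := by
    intro v
    obtain ⟨q, rfl⟩ := Additive.ofMul.surjective v
    obtain ⟨h, rfl⟩ := QuotientGroup.mk_surjective q
    rw [hf, hact]
    exact congrArg (fun x : H => Additive.ofMul (x : Q)) (Subtype.ext (by simp [conjH]))
  have hfm : ∀ a b v, f (a * b) v = f a (f b v) := by
    intro a b v
    obtain ⟨q, rfl⟩ := Additive.ofMul.surjective v
    obtain ⟨h, rfl⟩ := QuotientGroup.mk_surjective q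
    rw [hf, hf, hact, hact, hf, hact]
    exact congrArg (fun x : H => Additive.ofMul (x : Q)) (Subtype.ext (by simp [conjH, mul_assoc]))
  have hfin := module_formula (p := p) (U.subgroupOf A) (E.subgroupOf A)
    (fun e he u hu => mem_subgroupOf.2 (hUn e (mem_subgroupOf.1 he) u (mem_subgroupOf.1 hu)))
    (fun e he he1 u hu h => Subtype.ext (hfpf e (mem_subgroupOf.1 he) (fun h' => he1 (Subtype.ext h'))
      u (mem_subgroupOf.1 hu) (congrArg Subtype.val h)))
    hbij hcopA f hf1 hfm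
  rw [Nat.card_congr (subgroupOfEquivOfLe hE).toEquiv] at hfin
  have htop : Nat.card {v : Additive Q // ∀ a : A, f a v = v} =
      Nat.card {v : Additive Q // ∀ a ∈ A.subgroupOf A, f a v = v} :=
    Nat.card_congr (Equiv.subtypeEquivRight fun v =>
      ⟨fun h a _ => h a, fun h a => h a (mem_subgroupOf.2 a.2)⟩)
  rw [htop] at hfin
  rw [key A le_rfl, key E hE, key U hU, hcardH, mul_pow, mul_pow, mul_mul_mul_comm, hN, hfin]
  ring

/-- The fixed-point formula. -/
theorem formula {U E H : Subgroup X} (hUn : ∀ e ∈ E, ∀ u ∈ U, e * u * e⁻¹ ∈ U)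
    (hUE : U ⊓ E = ⊥) (hfpf : ∀ e ∈ E, e ≠ 1 → ∀ u ∈ U, e * u = u * e → u = 1)
    (hHn : ∀ x ∈ U ⊔ E, ∀ h ∈ H, x * h * x⁻¹ ∈ H)
    (hcop : (Nat.card H).Coprime (Nat.card ↥(U ⊔ E))) (hsolv : Group.IsSolvable H) :
    Nat.card ↥(H ⊓ centralizer ((U ⊔ E : Subgroup X) : Set X)) ^ Nat.card E * Nat.card H =
      Nat.card ↥(H ⊓ centralizer (E : Set X)) ^ Nat.card E * Nat.card ↥(H ⊓ centralizer (U : Set X)) := by
  induction hk : Nat.card H using Nat.strong_induction_on generalizing H with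
  | _ k ih =>
    subst hk
    by_cases hH : H = ⊥
    · subst hH; simp
    obtain ⟨p, N, hp, hpd, hlt, hNA, hNn, hcomm, hexp⟩ := exists_step hHn hsolv hH
    haveI : Fact p.Prime := ⟨hp⟩
    have hcard : Nat.card N < Nat.card H := by
      by_contra hge
      exact hlt.ne (eq_of_le_of_card_ge hlt.le (not_lt.1 hge))
    exact card_factor hUn hUE hfpf hHn hcop hsolv hpd hlt.le hNA hNn hcomm hexp
      (ih _ hcard hNA (CfsgLib.Coprime.coprime_of_le hcop hlt.le le_rfl)
        (CfsgLib.Coprime.isSolvable_of_le hlt.le hsolv) rfl)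

end CfsgLib.Frobenius.FixedFormula
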