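import Mathlib.GroupTheory.SchurZassenhaus
import Mathlib.GroupTheory.PGroup
import Mathlib.LinearAlgebra.Matrix.NonsingularInverse
import Mathlib.LinearAlgebra.Matrix.Basis
import Mathlib.LinearAlgebra.Matrix.Trace
import Mathlib.LinearAlgebra.Matrix.ToLin
import Mathlib.LinearAlgebra.Projection
import Mathlib.FieldTheory.Finiteness
import Mathlib.Data.ZMod.Units
import Mathlib.Tactic.LinearCombination
import Mathlib.Tactic.Group
import Mathlib.Tactic.Abel
import Mathlib.Algebra.Field.ZMod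

/-!
# Fixed points of Frobenius groups acting coprimely on vector spaces

The dimension formula is read off traces of averaging idempotents, after lifting the representation
from `ZMod p` to `ZMod (p ^ k)` by the Schur-Zassenhaus theorem.
-/

set_option autoImplicit false

namespace CfsgLib.Frobenius.FixedFormula

open Matrix

variable {p k n : ℕ} [Fact p.Prime]

theorem isUnit_of_cast_ne_zero (hk : k ≠ 0) {x : ZMod (p ^ k)}
    (hx : ZMod.castHom (dvd_pow_self p hk) (ZMod p) x ≠ 0) : IsUnit x := by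
  haveI : NeZero (p ^ k) := ⟨pow_ne_zero _ (Fact.out : p.Prime).ne_zero⟩
  obtain ⟨m, rfl⟩ : ∃ m : ℕ, (m : ZMod (p ^ k)) = x := ⟨x.val, ZMod.natCast_zmod_val x⟩
  rw [map_natCast, Ne, ZMod.natCast_eq_zero_iff] at hx
  rw [ZMod.isUnit_iff_coprime]
  exact (((Fact.out : p.Prime).coprime_iff_not_dvd).mpr hx).symm.pow_right k

/-- The reduction of matrices. -/
noncomputable abbrev red (hk : k ≠ 0) :
    Matrix (Fin n) (Fin n) (ZMod (p ^ k)) →+* Matrix (Fin n) (Fin n) (ZMod p) :=
  (ZMod.castHom (dvd_pow_self p hk) (ZMod p)).mapMatrix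

theorem red_surjective (hk : k ≠ 0) : Function.Surjective (red (p := p) (n := n) hk) := fun M =>
  ⟨M.map fun x => ((x.val : ℕ) : ZMod (p ^ k)), by
    ext i j; simp [red, ZMod.natCast_zmod_val]⟩

theorem isUnit_of_red (hk : k ≠ 0) {M : Matrix (Fin n) (Fin n) (ZMod (p ^ k))}
    (h : IsUnit (red hk M)) : IsUnit M := by
  rw [Matrix.isUnit_iff_isUnit_det] at h ⊢
  refine isUnit_of_cast_ne_zero hk ?_
  rw [RingHom.map_det]
  exact h.ne_zero

/-- Representations of `p'`-groups lift to `ZMod (p ^ k)`. -/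
theorem exists_lift {A : Type*} [Group A] [Finite A] (hA : (Nat.card A).Coprime p) (hk : k ≠ 0)
    (ρ : A →* Matrix (Fin n) (Fin n) (ZMod p)) :
    ∃ σ : A →* Matrix (Fin n) (Fin n) (ZMod (p ^ k)), ∀ a, red hk (σ a) = ρ a := by
  haveI : NeZero (p ^ k) := ⟨pow_ne_zero _ (Fact.out : p.Prime).ne_zero⟩
  let X : Subgroup ((Matrix (Fin n) (Fin n) (ZMod (p ^ k)))ˣ × A) :=
    { carrier := {x | red hk (x.1 : Matrix (Fin n) (Fin n) (ZMod (p ^ k))) = ρ x.2}
      one_mem' := by
        show red hk 1 = ρ 1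
        rw [map_one, map_one]
      mul_mem' := fun {x y} hx hy => by
        simp only [Set.mem_setOf_eq] at hx hy ⊢
        rw [Prod.fst_mul, Units.val_mul, map_mul, hx, hy, Prod.snd_mul, map_mul]
      inv_mem' := fun {x} hx => by
        simp only [Set.mem_setOf_eq] at hx ⊢
        have h1 : red hk (x.1 : Matrix (Fin n) (Fin n) (ZMod (p ^ k))) * red hk (x.1⁻¹).1 = 1 := by
          rw [← map_mul, Units.mul_inv, map_one]
        rw [hx] at h1
        have h2 : ρ x.2⁻¹ * ρ x.2 = 1 := by rw [← map_mul, inv_mul_cancel, map_one]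
        exact (left_inv_eq_right_inv h2 h1).symm }
  let π : X →* A := (MonoidHom.snd _ A).comp X.subtype
  have hsurj : Function.Surjective π := by
    intro a
    obtain ⟨M, hM⟩ := red_surjective (p := p) hk (ρ a)
    have hu : IsUnit M := isUnit_of_red hk (hM ▸ IsUnit.map ρ (Group.isUnit a))
    exact ⟨⟨(hu.unit, a), hM⟩, rfl⟩
  haveI : Finite X := inferInstance
  have hker : ∃ e, Nat.card π.ker = p ^ e := by
    let Z := (red (p := p) (n := n) hk).toAddMonoidHom.ker
    have hZ : Nat.card Z ∣ p ^ (k * (n * n)) := by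
      refine (AddSubgroup.card_addSubgroup_dvd_card Z).trans (dvd_of_eq ?_)
      rw [Nat.card_congr (Matrix.of (m := Fin n) (n := Fin n) (α := ZMod (p ^ k))).symm,
        Nat.card_fun, Nat.card_fun, Nat.card_zmod, Nat.card_fin, ← pow_mul, ← pow_mul]
    obtain ⟨e, -, he⟩ := (Nat.dvd_prime_pow (Fact.out : p.Prime)).mp hZ
    refine ⟨e, he ▸ Nat.card_congr
      { toFun := fun x => ⟨(x.1.1.1 : Matrix (Fin n) (Fin n) (ZMod (p ^ k))) - 1, ?_⟩
        invFun := fun M => ⟨⟨(IsUnit.unit (a := 1 + M.1) (isUnit_of_red hk ?_), 1), ?_⟩, rfl⟩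
        left_inv := fun x => ?_
        right_inv := fun M => ?_ }⟩
    · show red hk ((x.1.1.1 : Matrix (Fin n) (Fin n) (ZMod (p ^ k))) - 1) = 0
      rw [map_sub, map_one, x.1.2, show x.1.1.2 = 1 from x.2, map_one, sub_self]
    · rw [map_add, map_one, show red hk M.1 = 0 from M.2, add_zero]; exact isUnit_one
    · show red hk (1 + M.1) = ρ 1
      rw [map_add, map_one, show red hk M.1 = 0 from M.2, add_zero, map_one]
    · refine Subtype.ext (Subtype.ext (Prod.ext (Units.ext ?_) x.2.symm))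
      simp
    · exact Subtype.ext (by simp)
  obtain ⟨e, he⟩ := hker
  have hidx : π.ker.index = Nat.card A := by
    rw [Subgroup.index_ker, MonoidHom.range_eq_top.mpr hsurj, Subgroup.card_top]
  obtain ⟨C, hC⟩ := Subgroup.exists_right_complement'_of_coprime (N := π.ker) (by
    rw [hidx, he]; exact (hA.symm).pow_left e)
  have hCb : Function.Bijective (π.comp C.subtype) := by
    refine ⟨fun a b h => ?_, fun a => ?_⟩
    · have h1 : (a : X)⁻¹ * b ∈ π.ker ⊓ C := Subgroup.mem_inf.mpr
        ⟨MonoidHom.mem_ker.mpr (by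
          rw [map_mul, map_inv]; exact inv_mul_eq_one.mpr h), mul_mem (inv_mem a.2) b.2⟩
      rw [hC.disjoint.eq_bot, Subgroup.mem_bot, inv_mul_eq_one] at h1
      exact Subtype.ext h1
    · obtain ⟨x, rfl⟩ := hsurj a
      obtain ⟨⟨m, c⟩, hmc⟩ := hC.2 x
      refine ⟨c, ?_⟩
      rw [← hmc, map_mul, MonoidHom.mem_ker.mp m.2, one_mul]
      rfl
  let s : A →* X := C.subtype.comp (MulEquiv.ofBijective _ hCb).symm.toMonoidHom
  have hs : ∀ a, π (s a) = a := fun a => (MulEquiv.ofBijective _ hCb).apply_symm_apply a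
  refine ⟨(Units.coeHom _).comp ((MonoidHom.fst _ A).comp (X.subtype.comp s)), fun a => ?_⟩
  exact (s a).2.trans (congrArg ρ (hs a))

/-- The trace of an idempotent over `ZMod (p ^ k)` is the rank of its reduction. -/
theorem trace_idempotent (hk : k ≠ 0) {P : Matrix (Fin n) (Fin n) (ZMod (p ^ k))}
    (hP : P * P = P) :
    P.trace = (Module.finrank (ZMod p) (LinearMap.range (toLin' (red hk P))) : ZMod (p ^ k)) := by
  classical
  haveI : NeZero (p ^ k) := ⟨pow_ne_zero _ (Fact.out : p.Prime).ne_zero⟩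
  set T := toLin' (red hk P) with hT
  have hTT : T ∘ₗ T = T := by rw [hT, ← toLin'_mul, ← map_mul, hP]
  have hproj : LinearMap.IsProj (LinearMap.range T) T :=
    ⟨fun v => LinearMap.mem_range_self T v, by
      rintro v ⟨w, rfl⟩; exact LinearMap.congr_fun hTT w⟩
  let b₁ := Module.finBasis (ZMod p) (LinearMap.range T)
  let b₂ := Module.finBasis (ZMod p) (LinearMap.ker T)
  let b := (b₁.prod b₂).map (Submodule.prodEquivOfIsCompl _ _ hproj.isCompl)
  let e : (Fin (Module.finrank (ZMod p) (LinearMap.range T)) ⊕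
      Fin (Module.finrank (ZMod p) (LinearMap.ker T))) ≃ Fin n :=
    Fintype.equivOfCardEq (by
      rw [← Module.finrank_eq_card_basis b, Fintype.card_fin, Module.finrank_pi,
        Fintype.card_fin])
  let b' := b.reindex e
  let d : Fin n → ZMod (p ^ k) := fun i => Sum.elim (fun _ => 1) (fun _ => 0) (e.symm i)
  have hD : LinearMap.toMatrix b' b' T = red hk (Matrix.diagonal d) := by
    ext i j
    obtain ⟨j', rfl⟩ := e.surjective j
    rw [LinearMap.toMatrix_apply, RingHom.mapMatrix_apply, Matrix.map_apply]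
    have hb : T (b' (e j')) = (Sum.elim (fun _ => (1 : ZMod p)) (fun _ => 0) j') • b' (e j') := by
      rw [show b' (e j') = b j' by simp [b']]
      rcases j' with j' | j'
      · rw [Sum.elim_inl, one_smul]
        refine hproj.map_id _ ?_
        simp [b]
      · rw [Sum.elim_inr, zero_smul]
        simp [b]
    rw [hb, map_smul, Finsupp.smul_apply, Module.Basis.repr_self, smul_eq_mul,
      Finsupp.single_apply, Matrix.diagonal_apply]
    by_cases h : i = e j'
    · subst h
      rcases j' with j' | j' <;> simp [d, ZMod.cast_one (dvd_pow_self p hk)]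
    · simp [h, Ne.symm h]
  have h1 := basis_toMatrix_mul_linearMap_toMatrix_mul_basis_toMatrix
    b' (Pi.basisFun (ZMod p) (Fin n)) b' (Pi.basisFun (ZMod p) (Fin n)) T
  rw [LinearMap.toMatrix_eq_toMatrix', hD] at h1
  rw [show LinearMap.toMatrix' T = red hk P by rw [hT, LinearMap.toMatrix'_toLin']] at h1
  obtain ⟨L, hL⟩ := red_surjective (p := p) hk (b'.toMatrix (Pi.basisFun (ZMod p) (Fin n)))
  have hLu : IsUnit L := isUnit_of_red hk (by
    rw [hL]
    exact ⟨⟨_, _, Module.Basis.toMatrix_mul_toMatrix_flip b' (Pi.basisFun (ZMod p) (Fin n)),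
      Module.Basis.toMatrix_mul_toMatrix_flip (Pi.basisFun (ZMod p) (Fin n)) b'⟩, rfl⟩)
  obtain ⟨u, rfl⟩ := hLu
  set Q := (u : Matrix (Fin n) (Fin n) (ZMod (p ^ k))) * P * (↑u⁻¹ : Matrix (Fin n) (Fin n) (ZMod (p ^ k)))
    with hQ
  set D := Matrix.diagonal d with hDd
  have hu' : red hk (↑u⁻¹ : Matrix (Fin n) (Fin n) (ZMod (p ^ k))) =
      (Pi.basisFun (ZMod p) (Fin n)).toMatrix b' :=
    left_inv_eq_right_inv (by rw [← map_mul, Units.inv_mul, map_one])
      (by rw [hL, Module.Basis.toMatrix_mul_toMatrix_flip])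
  have hQD : red hk Q = red hk D := by
    rw [hQ, map_mul, map_mul, hL, hu', h1]
  have hQQ : Q * Q = Q := by
    simp only [hQ, mul_assoc, Units.inv_mul_cancel_left]
    rw [← mul_assoc P, hP]
  have hDD : D * D = D := by
    rw [hDd, Matrix.diagonal_mul_diagonal]
    congr 1
    funext i
    rcases h : e.symm i with x | x <;> simp [d, h]
  have hw : IsUnit (Q * D + (1 - Q) * (1 - D)) := by
    refine isUnit_of_red hk ?_
    simp only [map_add, map_mul, map_sub, map_one, hQD]
    have : red hk D * red hk D = red hk D := by rw [← map_mul, hDD]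
    have e1 : red hk D * red hk D + (1 - red hk D) * (1 - red hk D) = 1 := by
      simp only [mul_sub, sub_mul, mul_one, one_mul, this]; abel
    rw [e1]; exact isUnit_one
  obtain ⟨w, hw⟩ := hw
  have hcomm : Q * (w : Matrix (Fin n) (Fin n) (ZMod (p ^ k))) = w * D := by
    have hl : Q * (Q * D + (1 - Q) * (1 - D)) = Q * D := by
      rw [mul_add, ← mul_assoc Q Q, hQQ, ← mul_assoc Q (1 - Q), mul_sub Q 1 Q, mul_one, hQQ, sub_self,
        zero_mul, add_zero]
    have hr : (Q * D + (1 - Q) * (1 - D)) * D = Q * D := by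
      rw [add_mul, mul_assoc Q D D, hDD, mul_assoc (1 - Q), sub_mul 1 D D, one_mul, hDD, sub_self,
        mul_zero, add_zero]
    rw [hw, hl, hr]
  have htr : P.trace = D.trace := by
    rw [← Matrix.trace_units_conj u P, ← hQ, ← Matrix.trace_units_conj' w Q, mul_assoc, hcomm,
      ← mul_assoc, Units.inv_mul, one_mul]
  rw [htr, hDd, Matrix.trace_diagonal, ← Equiv.sum_comp e d, Fintype.sum_sum_type]
  simp [d]

variable {A : Type*} [Group A]

/-- The averaging idempotent. -/
noncomputable def avg {R : Type*} [CommRing R] [Fintype A] (σ : A →* Matrix (Fin n) (Fin n) R)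
    (K : Subgroup A) [Fintype K] : Matrix (Fin n) (Fin n) R :=
  Ring.inverse (Nat.card K : R) • ∑ a : K, σ a

section

variable {R : Type*} [CommRing R] [Fintype A] (σ : A →* Matrix (Fin n) (Fin n) R) (K : Subgroup A)
  [Fintype K]

theorem mul_avg (a : K) : σ a * avg σ K = avg σ K := by
  rw [avg, mul_smul_comm, Finset.mul_sum]
  congr 1
  exact Fintype.sum_equiv (Equiv.mulLeft a) _ _ fun b => by simp

theorem avg_idem (hK : IsUnit (Nat.card K : R)) : avg σ K * avg σ K = avg σ K := by
  conv_lhs => arg 1; rw [avg]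
  rw [smul_mul_assoc, Finset.sum_mul, Finset.sum_congr rfl fun a _ => mul_avg σ K a,
    Finset.sum_const, Finset.card_univ, ← Nat.card_eq_fintype_card, ← Nat.cast_smul_eq_nsmul R,
    smul_smul, Ring.inverse_mul_cancel _ hK, one_smul]

theorem sum_trace (hK : IsUnit (Nat.card K : R)) :
    ∑ a : K, (σ a).trace = (Nat.card K : R) * (avg σ K).trace := by
  rw [avg, Matrix.trace_smul, smul_eq_mul, ← mul_assoc, Ring.mul_inverse_cancel _ hK, one_mul,
    Matrix.trace_sum]

end

/-- The fixed points on `(ZMod p) ^ n` and the rank of the reduced idempotent. -/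
theorem card_fixed [Fintype A] (hk : k ≠ 0) (K : Subgroup A) [Fintype K]
    (hK : (Nat.card K).Coprime p) (σ : A →* Matrix (Fin n) (Fin n) (ZMod (p ^ k)))
    (ρ : A →* Matrix (Fin n) (Fin n) (ZMod p)) (hσ : ∀ a, red hk (σ a) = ρ a) :
    Nat.card {v : Fin n → ZMod p // ∀ a ∈ K, ρ a *ᵥ v = v} =
      p ^ Module.finrank (ZMod p) (LinearMap.range (toLin' (red hk (avg σ K)))) := by
  have hu : IsUnit (Nat.card K : ZMod (p ^ k)) :=
    (ZMod.isUnit_iff_coprime _ _).mpr (hK.pow_right k)
  have hu' : IsUnit (Nat.card K : ZMod p) := (ZMod.isUnit_iff_coprime _ _).mpr hK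
  set T := toLin' (red hk (avg σ K)) with hT
  have hfix : ∀ v : Fin n → ZMod p, v ∈ LinearMap.range T ↔ ∀ a ∈ K, ρ a *ᵥ v = v := by
    intro v
    constructor
    · rintro ⟨w, rfl⟩ a ha
      rw [hT, toLin'_apply, mulVec_mulVec, ← hσ, ← map_mul, mul_avg σ K ⟨a, ha⟩]
    · intro h
      refine ⟨v, ?_⟩
      have e : red hk (avg σ K) =
          (Ring.inverse (Nat.card K : ZMod p)) • ∑ a : K, ρ a := by
        have h1 : (Nat.card K : ZMod (p ^ k)) • avg σ K = ∑ a : K, σ a := by
          rw [avg, smul_smul, Ring.mul_inverse_cancel _ hu, one_smul]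
        rw [Nat.cast_smul_eq_nsmul] at h1
        have h2 := congrArg (red hk) h1
        rw [map_nsmul, map_sum, ← Nat.cast_smul_eq_nsmul (ZMod p)] at h2
        simp only [hσ] at h2
        rw [← h2, smul_smul, Ring.inverse_mul_cancel _ hu', one_smul]
      rw [hT, toLin'_apply, e, smul_mulVec, sum_mulVec,
        Finset.sum_congr rfl fun (a : K) _ => h a a.2, Finset.sum_const, Finset.card_univ,
        ← Nat.card_eq_fintype_card, ← Nat.cast_smul_eq_nsmul (ZMod p), smul_smul,
        Ring.inverse_mul_cancel _ hu', one_smul]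
  rw [Nat.card_congr (Equiv.subtypeEquivRight fun v => (hfix v).symm)]
  exact (Module.natCard_eq_pow_finrank (K := ZMod p)).trans (by rw [Nat.card_zmod])

/-- Every element of a Frobenius group is met once by the conjugates of the complement or by the
kernel, the identity `|U| + 1` times. -/
theorem sum_conj {M : Type*} [AddCommMonoid M] (U E : Subgroup A) [Fintype U] [Fintype E] [Fintype A]
    (hUn : ∀ e ∈ E, ∀ u ∈ U, e * u * e⁻¹ ∈ U)
    (hfpf : ∀ e ∈ E, e ≠ 1 → ∀ u ∈ U, e * u = u * e → u = 1)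
    (hbij : Function.Bijective fun x : U × E => (x.1 : A) * x.2) (f : A → M) :
    ∑ u : U, ∑ e : E, f (u * e * (u : A)⁻¹) + ∑ u : U, f u =
      ∑ a : A, f a + Fintype.card U • f 1 := by
  classical
  have h2 : ∑ a : A, f a = ∑ e : E, ∑ u : U, f (u * e) := by
    rw [← (Equiv.ofBijective _ hbij).sum_comp f, Fintype.sum_prod_type, Finset.sum_comm]
    rfl
  rw [h2, Finset.sum_comm,
    ← Finset.add_sum_erase _ _ (Finset.mem_univ (1 : E)),
    ← Finset.add_sum_erase _ _ (Finset.mem_univ (1 : E))]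
  have h3 : ∀ e ∈ Finset.univ.erase (1 : E),
      ∑ u : U, f (u * e * (u : A)⁻¹) = ∑ u : U, f (u * e) := by
    intro e he
    have he1 : (e : A) ≠ 1 := fun h => (Finset.mem_erase.mp he).1 (Subtype.ext h)
    let τ : U → U := fun u => ⟨u * (e * (u : A)⁻¹ * (e : A)⁻¹),
      mul_mem u.2 (hUn e e.2 _ (inv_mem u.2))⟩
    have hτ : Function.Bijective τ := by
      refine Finite.injective_iff_bijective.mp fun u v h => ?_
      have h' : (u : A) * (e * (u : A)⁻¹ * (e : A)⁻¹) = v * (e * (v : A)⁻¹ * (e : A)⁻¹) :=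
        congrArg Subtype.val h
      have h4 : (e : A) * ((v : A)⁻¹ * u) = ((v : A)⁻¹ * u) * e := by
        have h5 : (u : A) * e * (u : A)⁻¹ = v * e * (v : A)⁻¹ := by
          have := congrArg (· * (e : A)) h'
          simpa [mul_assoc] using this
        calc (e : A) * ((v : A)⁻¹ * u) = (v : A)⁻¹ * (v * e * (v : A)⁻¹) * u := by group
          _ = (v : A)⁻¹ * ((u : A) * e * (u : A)⁻¹) * u := by rw [h5]
          _ = ((v : A)⁻¹ * u) * e := by group
      exact (Subtype.ext (inv_mul_eq_one.mp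
        (hfpf e e.2 he1 _ (mul_mem (inv_mem v.2) u.2) h4))).symm
    rw [← (Equiv.ofBijective τ hτ).sum_comp (fun u : U => f (u * e))]
    exact Finset.sum_congr rfl fun u _ => congrArg f (by simp [τ, mul_assoc])
  rw [Finset.sum_congr rfl h3]
  simp only [OneMemClass.coe_one, mul_one, mul_inv_cancel, Finset.sum_const, Finset.card_univ]
  abel

/-- The fixed-point formula in coordinates. -/
theorem matrix_formula [Fintype A] (U E : Subgroup A)
    (hUn : ∀ e ∈ E, ∀ u ∈ U, e * u * e⁻¹ ∈ U)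
    (hfpf : ∀ e ∈ E, e ≠ 1 → ∀ u ∈ U, e * u = u * e → u = 1)
    (hbij : Function.Bijective fun x : U × E => (x.1 : A) * x.2)
    (hcop : (Nat.card A).Coprime p) (ρ : A →* Matrix (Fin n) (Fin n) (ZMod p)) :
    Nat.card {v : Fin n → ZMod p // ∀ a : A, ρ a *ᵥ v = v} ^ Nat.card E * p ^ n =
      Nat.card {v : Fin n → ZMod p // ∀ a ∈ E, ρ a *ᵥ v = v} ^ Nat.card E *
        Nat.card {v : Fin n → ZMod p // ∀ a ∈ U, ρ a *ᵥ v = v} := by
  classical
  cases nonempty_fintype U
  cases nonempty_fintype E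
  cases nonempty_fintype (⊤ : Subgroup A)
  set k := Nat.card E * n + n + 1 with hk'
  have hk : k ≠ 0 := Nat.succ_ne_zero _
  haveI : NeZero (p ^ k) := ⟨pow_ne_zero _ (Fact.out : p.Prime).ne_zero⟩
  have hlt : Nat.card E * n + n < p ^ k :=
    lt_of_lt_of_le (Nat.lt_succ_self _) (Nat.lt_pow_self (Fact.out : p.Prime).one_lt).le
  obtain ⟨σ, hσ⟩ := exists_lift hcop hk ρ
  have hcK : ∀ K : Subgroup A, (Nat.card K).Coprime p := fun K =>
    Nat.Coprime.coprime_dvd_left (Subgroup.card_subgroup_dvd_card K) hcop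
  have hu : ∀ K : Subgroup A, IsUnit (Nat.card K : ZMod (p ^ k)) := fun K =>
    (ZMod.isUnit_iff_coprime _ _).mpr ((hcK K).pow_right k)
  let d : ∀ K : Subgroup A, [Fintype K] → ℕ := fun K _ =>
    Module.finrank (ZMod p) (LinearMap.range (toLin' (red hk (avg σ K))))
  have hfix : ∀ (K : Subgroup A) [Fintype K],
      Nat.card {v : Fin n → ZMod p // ∀ a ∈ K, ρ a *ᵥ v = v} = p ^ d K :=
    fun K _ => card_fixed hk K (hcK K) σ ρ hσ
  have hdle : ∀ (K : Subgroup A) [Fintype K], d K ≤ n := fun K _ => by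
    refine le_trans (Submodule.finrank_le _) ?_
    simp
  have hsum : ∀ (K : Subgroup A) [Fintype K],
      ∑ a : K, (σ a).trace = (Nat.card K : ZMod (p ^ k)) * (d K : ZMod (p ^ k)) := fun K _ => by
    rw [sum_trace σ K (hu K), trace_idempotent hk (avg_idem σ K (hu K))]
  have h := sum_conj U E hUn hfpf hbij fun a => (σ a).trace
  have hconj : ∀ (u : U) (e : E), (σ ((u : A) * e * (u : A)⁻¹)).trace = (σ e).trace := fun u e => by
    rw [map_mul, map_mul, Matrix.trace_mul_cycle, ← map_mul, inv_mul_cancel, map_one, one_mul]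
  simp only [hconj, map_one, Matrix.trace_one, Fintype.card_fin, Finset.sum_const,
    Finset.card_univ, nsmul_eq_mul] at h
  rw [hsum E, hsum U, ← (Subgroup.topEquiv.toEquiv).sum_comp (fun a => (σ a).trace)] at h
  rw [show ∑ i : (⊤ : Subgroup A), (σ (Subgroup.topEquiv.toEquiv i)).trace =
      ∑ i : (⊤ : Subgroup A), (σ (i : A)).trace from rfl, hsum ⊤] at h
  have hcA : Nat.card (⊤ : Subgroup A) = Nat.card U * Nat.card E := by
    rw [Subgroup.card_top, ← Nat.card_congr (Equiv.ofBijective _ hbij), Nat.card_prod]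
  rw [hcA, ← Nat.card_eq_fintype_card] at h
  have h' : (Nat.card U : ZMod (p ^ k)) * ((Nat.card E * d E + d U : ℕ) : ZMod (p ^ k)) =
      (Nat.card U : ZMod (p ^ k)) * ((Nat.card E * d ⊤ + n : ℕ) : ZMod (p ^ k)) := by
    push_cast at h ⊢
    linear_combination h
  have h'' := (ZMod.natCast_eq_natCast_iff' _ _ _).mp ((hu U).mul_left_cancel h')
  have hb : ∀ (K : Subgroup A) [Fintype K], Nat.card E * d K ≤ Nat.card E * n := fun K _ =>
    Nat.mul_le_mul_left _ (hdle K)
  have := hb E
  have := hb ⊤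
  have := hdle U
  rw [Nat.mod_eq_of_lt (by omega), Nat.mod_eq_of_lt (by omega)] at h''
  have htop : Nat.card {v : Fin n → ZMod p // ∀ a : A, ρ a *ᵥ v = v} = p ^ d ⊤ := by
    rw [← hfix ⊤]
    exact Nat.card_congr (Equiv.subtypeEquivRight fun v => by simp)
  rw [htop, hfix E, hfix U, ← pow_mul, ← pow_mul, ← pow_add, ← pow_add, mul_comm (d ⊤),
    mul_comm (d E)]
  rw [h'']

end CfsgLib.Frobenius.FixedFormula
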