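import Cfsg.Agent.Lib.LocalEvenB.HSubgroup

/-!
A `p'`-element fixing every subgroup of a given order centralises the `p`-group
(variant of `HSubgroup.centralizes_large` with the invariance as hypothesis).
-/

set_option autoImplicit false
set_option linter.style.haveILetI false
set_option linter.unusedSectionVars false
open scoped commutatorElement

namespace CfsgLib.Frobenius.FixedOrder

open CfsgLib.LocalEvenB.HSubgroup CfsgLib

variable {G : Type*} [Group G] [Finite G] {p : ℕ} [Fact p.Prime] {d : ℕ}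

theorem centralizes_large (hd : ∃ m : ℕ, 1 ≤ m ∧ d = p ^ m) {R : Subgroup G}
    (hR : IsPGroup p R) (hlarge : d < Nat.card R) {y : G}
    (hy : y ∈ Subgroup.normalizer (R : Set G)) (hcop : (orderOf y).Coprime p)
    (hmin : ∀ q : ℕ, q.Prime → q ∣ orderOf y → p ≤ q)
    (hfixed : ∀ E : Subgroup G, E ≤ R → (Nat.card E = d ∨ (d = 2 ∧ Nat.card E = 4)) →
      y ∈ Subgroup.normalizer (E : Set G)) : y ∈ Subgroup.centralizer (R : Set G) := by
  induction hn : Nat.card R using Nat.strong_induction_on generalizing R with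
  | _ n ih =>
  subst hn
  obtain ⟨m, hm1, hdm⟩ := hd
  have h2 := (Fact.out : p.Prime).two_le
  have hproper : ∀ X : Subgroup G, X ≤ R → X ≠ R → y ∈ Subgroup.normalizer (X : Set G) →
      d < Nat.card X → y ∈ Subgroup.centralizer (X : Set G) := fun X hX hne hyX hdX =>
    ih _ (lt_of_le_of_ne (Subgroup.card_le_of_le hX)
      fun e => hne (Subgroup.eq_of_le_of_card_ge hX e.ge)) (hR.to_le hX) hdX hyX (fun E hE hc => hfixed E (hE.trans hX) hc) rfl
  haveI : Nontrivial R := by
    rw [← Finite.one_lt_card_iff_nontrivial]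
    exact lt_of_le_of_lt (hdm ▸ Nat.one_le_pow _ _ (by omega)) hlarge
  have hphine : phi R ≠ R := fun e => by
    obtain ⟨K, hK, -⟩ := (eq_top_or_exists_le_coatom (⊥ : Subgroup R)).resolve_left bot_ne_top
    refine hK.1 ((Subgroup.eq_top_iff' K).mpr fun z => ?_)
    obtain ⟨w, hw, he⟩ := (mem_phi_iff.mp (e.symm ▸ z.2 : (z : G) ∈ phi R)).2 K hK
    exact (Subtype.ext he : w = z) ▸ hw
  have hyphi := normalizer_phi R hy
  by_cases hsmall : Nat.card ↥(phi R) < d
  · -- every maximal subgroup is normalised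
    refine centralizes_of_max hR hy hcop fun r hr K hK => ?_
    refine trivial_on_index_p (Subgroup.map_subtype_le _) (card_max hR hK) (le_normalizer_max hR hK)
      hy ?_ hcop hmin hr
    set M := K.map R.subtype
    have hphiM : phi R ≤ M := fun z hz => (mem_phi_iff.mp hz).2 K hK
    rw [Subgroup.mem_normalizer_iff_map_conj_eq]
    refine Subgroup.eq_of_le_of_card_ge ?_
      (le_of_eq (Subgroup.card_map_of_injective (MulAut.conj y).injective).symm)
    rintro _ ⟨x, hx, rfl⟩
    set X := phi R ⊔ Subgroup.zpowers x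
    have hxR : x ∈ R := Subgroup.map_subtype_le K hx
    have hXR : X ≤ R := sup_le (phi_le R) (Subgroup.zpowers_le.mpr hxR)
    have hXc : Nat.card X ≤ d := by
      have hcle : Nat.card X ≤ Nat.card ↥(phi R) * p := by
        have hn : R ≤ Subgroup.normalizer (phi R : Set G) := Subgroup.le_normalizer.trans (normalizer_phi R)
        haveI : ((phi R).subgroupOf X).Normal :=
          (Subgroup.normal_subgroupOf_iff_le_normalizer le_sup_left).mpr (hXR.trans hn)
        rw [← Nat.card_congr (Subgroup.subgroupOfEquivOfLe (le_sup_left : phi R ≤ X)).toEquiv,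
          ← ((phi R).subgroupOf X).card_mul_index]
        refine Nat.mul_le_mul_left _ ?_
        set π := QuotientGroup.mk' ((phi R).subgroupOf X)
        have hxX : x ∈ X := Subgroup.mem_sup_right (Subgroup.mem_zpowers x)
        have hgen : ∀ q : X ⧸ (phi R).subgroupOf X, q ∈ Subgroup.zpowers (π ⟨x, hxX⟩) := by
          intro q
          obtain ⟨⟨z, hz⟩, rfl⟩ := QuotientGroup.mk'_surjective _ q
          rw [← SetLike.mem_coe, Subgroup.coe_mul_of_right_le_normalizer_left _ _
            ((Subgroup.zpowers_le.mpr hxR).trans hn)] at hz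
          obtain ⟨f, hf, w, ⟨i, rfl⟩, rfl⟩ := Set.mem_mul.mp hz
          refine ⟨i, ?_⟩
          show π ⟨x, hxX⟩ ^ i = π _
          rw [← map_zpow]
          refine QuotientGroup.eq.mpr (Subgroup.mem_subgroupOf.mpr ?_)
          simp only [Subgroup.coe_mul, Subgroup.coe_inv, Subgroup.coe_zpow]
          exact (Subgroup.mem_normalizer_iff''.mp (hn (zpow_mem hxR i)) f).mp hf |> fun h => by
            simpa [mul_assoc] using h
        have hp1 : π ⟨x, hxX⟩ ^ p = 1 := by
          rw [← map_pow]
          exact (QuotientGroup.eq_one_iff _).mpr (Subgroup.mem_subgroupOf.mpr (pow_mem_phi hR hxR))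
        rw [Subgroup.index, ← Subgroup.card_top (G := X ⧸ (phi R).subgroupOf X),
          ← (Subgroup.eq_top_iff' _).mpr hgen, Nat.card_zpowers]
        exact orderOf_le_of_pow_eq_one (Fact.out : p.Prime).pos hp1
      obtain ⟨f, hf⟩ := (hR.to_le (phi_le R)).exists_card_eq
      have hfm : f < m := (Nat.pow_lt_pow_iff_right h2).mp (by rw [← hf, ← hdm]; exact hsmall)
      refine hcle.trans ?_
      rw [hf, hdm, ← pow_succ]
      exact Nat.pow_le_pow_right (by omega) hfm
    have hMd : d ≤ Nat.card M := by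
      have h1 := card_max hR hK
      obtain ⟨f, hf⟩ := (hR.to_le (Subgroup.map_subtype_le K)).exists_card_eq
      obtain ⟨k, hk⟩ := hR.exists_card_eq
      rw [hf, hk, ← pow_succ] at h1
      have h3 := Nat.pow_right_injective h2 h1
      have h4 : m < k := (Nat.pow_lt_pow_iff_right h2).mp (by rw [← hdm, ← hk]; exact hlarge)
      rw [hf, hdm]
      exact Nat.pow_le_pow_right (by omega) (by omega)
    obtain ⟨F, hXF, hFM, hF⟩ := exists_between (hR.to_le (Subgroup.map_subtype_le K))
      (sup_le hphiM (Subgroup.zpowers_le.mpr hx) : X ≤ M) (m := m) (hdm ▸ hXc) (hdm ▸ hMd)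
    have hyF := hfixed F (hFM.trans (Subgroup.map_subtype_le K)) (Or.inl (hF.trans hdm.symm))
    exact hFM ((Subgroup.mem_normalizer_iff.mp hyF x).mp
      (hXF (Subgroup.mem_sup_right (Subgroup.mem_zpowers x))))
  -- the Frattini subgroup is centralised
  replace hsmall := not_lt.mp hsmall
  have hmember : ∀ E : Subgroup G, E ≤ R → (Nat.card E = d ∨ (d = 2 ∧ Nat.card E = 4)) →
      ¬ E ≤ phi R → y ∈ Subgroup.centralizer ((E ⊔ phi R : Subgroup G) : Set G) ∨ E = R := by
    intro E hE hc hEphi
    by_cases heq : E ⊔ phi R = R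
    · exact Or.inr (eq_of_sup_phi hE heq)
    refine Or.inl (hproper _ (sup_le hE (phi_le R)) heq ?_ ?_)
    · rw [Subgroup.mem_normalizer_iff_map_conj_eq, Subgroup.map_sup,
        Subgroup.mem_normalizer_iff_map_conj_eq.mp (hfixed E hE hc),
        Subgroup.mem_normalizer_iff_map_conj_eq.mp hyphi]
    · refine lt_of_le_of_lt hsmall (lt_of_le_of_ne (Subgroup.card_le_of_le le_sup_right) fun e => ?_)
      exact hEphi (le_sup_left.trans (Subgroup.eq_of_le_of_card_ge le_sup_right e.ge).symm.le)
  have hcentphi : y ∈ Subgroup.centralizer (phi R : Set G) := by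
    rcases lt_or_eq_of_le hsmall with h | h
    · exact hproper _ (phi_le R) hphine hyphi h
    by_cases hex : ∃ E : Subgroup G, E ≤ R ∧ Nat.card E = d ∧ E ≠ phi R
    · obtain ⟨E, hE, hc, hne⟩ := hex
      have hnle : ¬ E ≤ phi R := fun hl => hne (Subgroup.eq_of_le_of_card_ge hl (by omega))
      rcases hmember E hE (Or.inl hc) hnle with h' | h'
      · exact Subgroup.centralizer_le (SetLike.coe_subset_coe.mpr le_sup_right) h'
      · rw [h'] at hc; omega
    · push_neg at hex
      haveI := cyclic_of_unique hR (lt_of_le_of_ne (phi_le R) hphine)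
        (fun F hF hc => hex F hF (hc.trans h.symm))
      exact centralizes_of_cyclic (hR.to_le (phi_le R)) hyphi hcop hmin
  -- elements of order p (or 4) are centralised
  have hfix : ∀ s ∈ R, (s ^ p = 1 ∨ (p = 2 ∧ s ^ 4 = 1)) → s * y = y * s := by
    intro s hs hsp
    by_cases hsphi : s ∈ phi R
    · exact hcentphi s hsphi
    obtain ⟨E, hsE, hER, hEc, hcyc⟩ : ∃ E : Subgroup G, s ∈ E ∧ E ≤ R ∧
        (Nat.card E = d ∨ (d = 2 ∧ Nat.card E = 4)) ∧
        (Nat.card E = d ∨ E = Subgroup.zpowers s) := by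
      by_cases hso : orderOf s ≤ d
      · obtain ⟨E, h1, h2', h3⟩ := exists_between hR (Subgroup.zpowers_le.mpr hs) (m := m)
          (by rwa [Nat.card_zpowers, ← hdm]) (by rw [← hdm]; exact hlarge.le)
        exact ⟨E, h1 (Subgroup.mem_zpowers s), h2', Or.inl (h3.trans hdm.symm), Or.inl (h3.trans hdm.symm)⟩
      · rcases hsp with hsp | ⟨hp2, hs4⟩
        · exact absurd ((orderOf_le_of_pow_eq_one (by omega) hsp).trans
            (hdm ▸ Nat.le_self_pow (by omega) p)) hso
        · subst hp2
          have ho : orderOf s ∣ 4 := orderOf_dvd_of_pow_eq_one hs4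
          have hle : orderOf s ≤ 4 := Nat.le_of_dvd (by omega) ho
          have hm : m = 1 := by
            by_contra hne
            exact hso (hle.trans (hdm ▸ Nat.pow_le_pow_right (n := 2) (by omega) (show 2 ≤ m by omega)))
          subst hm
          have h4 : orderOf s = 4 := by
            have : orderOf s ∈ (4 : ℕ).divisors := Nat.mem_divisors.mpr ⟨ho, by omega⟩
            rw [show (4 : ℕ).divisors = {1, 2, 4} by decide] at this
            simp only [Finset.mem_insert, Finset.mem_singleton] at this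
            omega
          exact ⟨_, Subgroup.mem_zpowers s, Subgroup.zpowers_le.mpr hs,
            Or.inr ⟨by simpa using hdm, by rw [Nat.card_zpowers, h4]⟩, Or.inr rfl⟩
    rcases hmember E hER hEc (fun hl => hsphi (hl hsE)) with h' | h'
    · exact h' s (Subgroup.mem_sup_left hsE)
    · subst h'
      rcases hcyc with hc | hc
      · omega
      · haveI : IsCyclic E := by rw [hc]; infer_instance
        exact centralizes_of_cyclic hR hy hcop hmin s hs
  -- the commutators with y
  have hstep : ∀ r ∈ R, Commute y (r⁻¹ * (y * r * y⁻¹)) → y * r * y⁻¹ = r := by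
    intro r hr hc
    set s := r⁻¹ * (y * r * y⁻¹) with hs
    have hit : ∀ i : ℕ, y ^ i * r * (y ^ i)⁻¹ = r * s ^ i := by
      intro i
      induction i with
      | zero => simp
      | succ i ih =>
        calc y ^ (i + 1) * r * (y ^ (i + 1))⁻¹ = y * (y ^ i * r * (y ^ i)⁻¹) * y⁻¹ := by group
          _ = (y * r * y⁻¹) * (y * s ^ i * y⁻¹) := by rw [ih]; group
          _ = r * s * s ^ i := by
              rw [(hc.pow_right i).eq, mul_inv_cancel_right, hs]; group
          _ = r * s ^ (i + 1) := by rw [pow_succ', mul_assoc]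
    have h1 := hit (orderOf y)
    rw [pow_orderOf_eq_one, one_mul, inv_one, mul_one, left_eq_mul] at h1
    obtain ⟨j, hj⟩ := IsPGroup.iff_orderOf.mp hR ⟨s, mul_mem (inv_mem hr)
      ((Subgroup.mem_normalizer_iff.mp hy r).mp hr)⟩
    rw [Subgroup.orderOf_mk] at hj
    have hd1 : orderOf s ∣ 1 := by
      have hg := Nat.dvd_gcd (orderOf_dvd_of_pow_eq_one h1) (dvd_refl (orderOf s))
      rw [hj] at hg ⊢
      rwa [Nat.Coprime.gcd_eq_one (hcop.pow_right j)] at hg
    have hs1 : s = 1 := orderOf_eq_one_iff.mp (Nat.dvd_one.mp hd1)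
    calc y * r * y⁻¹ = r * s := by rw [hs]; group
      _ = r := by rw [hs1, mul_one]
  set C := R ⊓ Subgroup.centralizer (phi R : Set G) with hC
  have hsC : ∀ r ∈ R, r⁻¹ * (y * r * y⁻¹) ∈ C := by
    intro r hr
    have hu := (Subgroup.mem_normalizer_iff.mp hy r).mp hr
    refine Subgroup.mem_inf.mpr ⟨mul_mem (inv_mem hr) hu, fun f hf => ?_⟩
    have hrf : r * f * r⁻¹ ∈ phi R :=
      (Subgroup.mem_normalizer_iff.mp (normalizer_phi R (Subgroup.le_normalizer hr)) f).mp hf
    have e1 : (y * r * y⁻¹) * f * (y * r * y⁻¹)⁻¹ = r * f * r⁻¹ := by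
      have hyf : y⁻¹ * f * y = f := by rw [mul_assoc, hcentphi f hf, inv_mul_cancel_left]
      calc (y * r * y⁻¹) * f * (y * r * y⁻¹)⁻¹ = y * (r * (y⁻¹ * f * y) * r⁻¹) * y⁻¹ := by group
        _ = y * (r * f * r⁻¹) * y⁻¹ := by rw [hyf]
        _ = r * f * r⁻¹ := by rw [← hcentphi _ hrf]; group
    calc f * (r⁻¹ * (y * r * y⁻¹)) = r⁻¹ * (r * f * r⁻¹) * (y * r * y⁻¹) := by group
      _ = r⁻¹ * (y * r * y⁻¹) * f := by rw [← e1]; group
  intro r hr
  suffices h : y * r * y⁻¹ = r by rw [← mul_inv_eq_iff_eq_mul.mp h]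
  refine hstep r hr ?_
  by_cases hCR : C = R
  · -- class two
    set u := y * r * y⁻¹ with hu_def
    set s := r⁻¹ * u with hs_def
    have hsR : s ∈ R := (Subgroup.mem_inf.mp (hsC r hr)).1
    have hcen : ∀ z ∈ R, ∀ f ∈ phi R, Commute f z := fun z hz f hf =>
      (Subgroup.mem_inf.mp (hCR.symm ▸ hz : z ∈ C)).2 f hf
    have hz := comm_mem_phi hR hsR hr
    have hp' : u ^ p = r ^ p := by
      rw [hu_def, conj_pow, ← hcentphi _ (pow_mem_phi hR hr)]; group
    have hmul := OddOrder.OmegaLemma.mul_pow_central (u := r) (v := s) (z := ⁅s, r⁆)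
      (by rw [commutatorElement_def]; group) (hcen s hsR _ hz) (hcen r hr _ hz) p
    rw [show r * s = u by rw [hs_def]; group, hp', ← mul_assoc,
      ((hcen r hr _ hz).pow_left (p.choose 2)).pow_right p |>.eq, mul_assoc, left_eq_mul] at hmul
    have hzp : ⁅s, r⁆ ^ p = 1 := by
      have h1 : Commute (s ^ p) r := hcen r hr _ (pow_mem_phi hR hsR)
      have hc' := OddOrder.OmegaLemma.pow_mul_comm_central (u := r) (v := s) (z := ⁅s, r⁆)
        (by rw [commutatorElement_def]; group) (hcen s hsR _ hz) (hcen r hr _ hz) p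
      rw [h1.eq] at hc'
      simpa using hc'
    refine (hfix s hsR ?_).symm
    rcases eq_or_ne p 2 with hp2 | hp2
    · refine Or.inr ⟨hp2, ?_⟩
      subst hp2
      rw [Nat.choose_self, pow_one] at hmul
      rw [show (4 : ℕ) = 2 * 2 from rfl, pow_mul, eq_inv_of_mul_eq_one_right hmul, inv_pow, hzp, inv_one]
    · obtain ⟨c, hc⟩ := (Fact.out : p.Prime).dvd_choose_self (k := 2) (by omega)
        (lt_of_le_of_ne h2 (Ne.symm hp2))
      rw [hc, pow_mul, hzp, one_pow, one_mul] at hmul
      exact Or.inl hmul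
  · have hyC : y ∈ Subgroup.normalizer (C : Set G) := by
      rw [Subgroup.mem_normalizer_iff_map_conj_eq]
      refine Subgroup.eq_of_le_of_card_ge ?_
        (le_of_eq (Subgroup.card_map_of_injective (MulAut.conj y).injective).symm)
      rintro _ ⟨z, hz, rfl⟩
      refine Subgroup.mem_inf.mpr ⟨(Subgroup.mem_normalizer_iff.mp hy z).mp hz.1, fun f hf => ?_⟩
      have hyf : y⁻¹ * f * y = f := by rw [mul_assoc, hcentphi f hf, inv_mul_cancel_left]
      show f * (y * z * y⁻¹) = y * z * y⁻¹ * f
      calc f * (y * z * y⁻¹) = y * ((y⁻¹ * f * y) * z) * y⁻¹ := by group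
        _ = y * (z * (y⁻¹ * f * y)) * y⁻¹ := by rw [hyf, (Subgroup.mem_inf.mp hz).2 f hf]
        _ = y * z * y⁻¹ * f := by group
    by_cases hCphi : C ≤ phi R
    · exact (hcentphi _ (hCphi (hsC r hr))).symm
    have hne : C ⊔ phi R ≠ R := fun e => hCR (eq_of_sup_phi inf_le_left e)
    have hyX : y ∈ Subgroup.normalizer ((C ⊔ phi R : Subgroup G) : Set G) := by
      rw [Subgroup.mem_normalizer_iff_map_conj_eq, Subgroup.map_sup,
        Subgroup.mem_normalizer_iff_map_conj_eq.mp hyC, Subgroup.mem_normalizer_iff_map_conj_eq.mp hyphi]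
    have := hproper _ (sup_le inf_le_left (phi_le R)) hne hyX
      (lt_of_le_of_lt hsmall (lt_of_le_of_ne (Subgroup.card_le_of_le le_sup_right) fun e =>
        hCphi (le_sup_left.trans (Subgroup.eq_of_le_of_card_ge le_sup_right e.ge).symm.le)))
    exact (this _ (Subgroup.mem_sup_left (hsC r hr))).symm


end CfsgLib.Frobenius.FixedOrder
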