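import Mathlib
import Cfsg.Agent.Lib.Fusion.NormalRankTwo
import Cfsg.Agent.Lib.Solvable.FrattiniFitting

/-!
A `p`-group, `p` odd, acting coprimely on an abelian group `V` with two generating sets `C`, `D` such
that `V` is the sum of the fixed points of `c` and `d` for all `c ∈ C`, `d ∈ D`, acts trivially.
-/

set_option autoImplicit false
set_option linter.style.haveILetI false

open scoped commutatorElement IsMulCommutative

namespace CfsgLib.Frobenius.FixedSum

open Finset

variable {V : Type*} [AddCommGroup V] {R : Type*} [Group R] (ρ : R →* AddMonoid.End V) (p : ℕ)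

/-- The sum of the powers of `x`. -/
def avg (x : R) : AddMonoid.End V := ∑ k ∈ range p, ρ (x ^ k)

variable {ρ p}

theorem avg_apply (x : R) (v : V) : avg ρ p x v = ∑ k ∈ range p, ρ (x ^ k) v := by
  unfold avg
  induction (range p) using Finset.induction_on with
  | empty => simp
  | insert a s ha ih =>
    rw [Finset.sum_insert ha, Finset.sum_insert ha, ← ih]
    rfl

theorem mul_apply' (f g : AddMonoid.End V) (v : V) : (f * g) v = f (g v) := rfl

theorem rho_mul (x y : R) (v : V) : ρ (x * y) v = ρ x (ρ y v) := by rw [map_mul]; rfl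

theorem rho_one (v : V) : ρ 1 v = v := by rw [map_one]; rfl

theorem rho_inv_rho (x : R) (v : V) : ρ x⁻¹ (ρ x v) = v := by
  rw [← rho_mul, inv_mul_cancel, rho_one]

theorem rho_injective (x : R) : Function.Injective (ρ x) :=
  Function.LeftInverse.injective (rho_inv_rho x)

theorem rho_avg (x : R) (hx : x ^ p = 1) (v : V) : ρ x (avg ρ p x v) = avg ρ p x v := by
  rw [avg_apply, map_sum]
  simp_rw [← rho_mul, ← pow_succ']
  have h1 := Finset.sum_range_succ' (fun k => ρ (x ^ k) v) p
  have h2 := Finset.sum_range_succ (fun k => ρ (x ^ k) v) p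
  rw [h1, hx, pow_zero] at h2
  exact add_right_cancel h2

theorem avg_of_fixed (x : R) (v : V) (h : ρ x v = v) : avg ρ p x v = p • v := by
  have hk : ∀ k : ℕ, ρ (x ^ k) v = v := fun k => by
    induction k with
    | zero => rw [pow_zero, rho_one]
    | succ k ih => rw [pow_succ, rho_mul, h, ih]
  rw [avg_apply]
  rw [Finset.sum_congr rfl fun k _ => hk k, Finset.sum_const, Finset.card_range]

theorem rho_avg_conj (g x : R) (v : V) :
    ρ g (avg ρ p x v) = avg ρ p (g * x * g⁻¹) (ρ g v) := by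
  rw [avg_apply, avg_apply, map_sum]
  refine Finset.sum_congr rfl fun k _ => ?_
  rw [← rho_mul, ← rho_mul]
  congr 2
  rw [conj_pow]
  group

theorem sum_avg_eq [Fact p.Prime] {a w : R} (haw : Commute a w)
    (hz : ∀ m : ℕ, 0 < m → m < p → ∀ v, avg ρ p (w ^ m) v = 0) (v : V) :
    ∑ i ∈ range p, avg ρ p (a * w ^ i) v = p • v := by
  simp_rw [avg_apply]
  rw [Finset.sum_comm, Finset.sum_eq_single 0]
  · simp
  · intro m hm hm0
    have := hz m (Nat.pos_of_ne_zero hm0) (Finset.mem_range.mp hm) v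
    rw [avg_apply] at this
    calc ∑ i ∈ range p, ρ ((a * w ^ i) ^ m) v
        = ∑ i ∈ range p, ρ (a ^ m) (ρ ((w ^ m) ^ i) v) := by
          refine Finset.sum_congr rfl fun i _ => ?_
          rw [← rho_mul, (haw.pow_right i).mul_pow, ← pow_mul, ← pow_mul, mul_comm i m]
      _ = 0 := by rw [← map_sum, this, map_zero]
  · intro h
    exact absurd (Finset.mem_range.mpr (Fact.out : p.Prime).pos) h

variable [Finite V] [Finite R]

theorem core [Fact p.Prime] (hp : 3 ≤ p) : ∀ n : ℕ, ∀ (V : Type*) [AddCommGroup V] [Finite V],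
    Nat.card V = n → p.Coprime n → ∀ (R : Type*) [Group R] [Finite R], IsPGroup p R →
    ∀ (ρ : R →* AddMonoid.End V) (C D : Set R), Subgroup.closure C = ⊤ → Subgroup.closure D = ⊤ →
    (∀ c ∈ C, ∀ d ∈ D, ∀ v : V, ∃ a b, v = a + b ∧ ρ d a = a ∧ ρ c b = b) →
    ∀ r v, ρ r v = v := by
  intro n
  induction n using Nat.strong_induction_on with
  | h n ih =>
  intro V _ _ hVn hcop R₀ _ _ hR₀ ρ₀ C₀ D₀ hC₀ hD₀ hT₀ r₀
  -- pass to the faithful quotient
  let R := R₀ ⧸ ρ₀.ker
  let ρ : R →* AddMonoid.End V := QuotientGroup.lift ρ₀.ker ρ₀ le_rfl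
  let π : R₀ →* R := QuotientGroup.mk' ρ₀.ker
  suffices ∀ r v, ρ r v = v from this (π r₀)
  have hfaith : ∀ r, ρ r = 1 → r = 1 := by
    intro r hr
    obtain ⟨x, rfl⟩ := QuotientGroup.mk'_surjective _ r
    exact (QuotientGroup.eq_one_iff x).mpr hr
  have hR : IsPGroup p R := hR₀.to_quotient _
  let C := π '' C₀
  let D := π '' D₀
  have hC : Subgroup.closure C = ⊤ := by
    rw [← MonoidHom.map_closure, hC₀, ← MonoidHom.range_eq_map, MonoidHom.range_eq_top]
    exact QuotientGroup.mk'_surjective _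
  have hD : Subgroup.closure D = ⊤ := by
    rw [← MonoidHom.map_closure, hD₀, ← MonoidHom.range_eq_map, MonoidHom.range_eq_top]
    exact QuotientGroup.mk'_surjective _
  have hT : ∀ c ∈ C, ∀ d ∈ D, ∀ v : V, ∃ a b, v = a + b ∧ ρ d a = a ∧ ρ c b = b := by
    rintro _ ⟨c, hc, rfl⟩ _ ⟨d, hd, rfl⟩ v
    exact hT₀ c hc d hd v
  have hfix : ∀ r, (∀ v, ρ r v = v) → r = 1 := fun r hr => hfaith r (AddMonoidHom.ext hr)
  rcases subsingleton_or_nontrivial R with hsub | hnt
  · intro r v
    rw [Subsingleton.elim r 1]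
    exact rho_one v
  have hpp : p.Prime := Fact.out
  have hpinj : ∀ v : V, p • v = 0 → v = 0 := fun v hv => by
    have h1 : addOrderOf v ∣ p := addOrderOf_dvd_iff_nsmul_eq_zero.mpr hv
    have h2 : addOrderOf v ∣ n := hVn ▸ addOrderOf_dvd_natCard v
    exact AddMonoid.addOrderOf_eq_one_iff.mp (Nat.eq_one_of_dvd_coprimes hcop h1 h2)
  -- equivariant endomorphisms with proper range
  have hind : ∀ f : AddMonoid.End V, (∀ r v, ρ r (f v) = f (ρ r v)) →
      ¬ Function.Surjective f → ∀ r v, ρ r (f v) = f v := by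
    intro f hf hsur
    let W : AddSubgroup V := AddMonoidHom.range (f : V →+ V)
    have hWmem : ∀ r, ∀ w ∈ W, ρ r w ∈ W := by
      rintro r _ ⟨u, rfl⟩
      exact ⟨ρ r u, (hf r u).symm⟩
    let σ : R →* AddMonoid.End W :=
      { toFun := fun r => AddMonoidHom.mk' (fun w => ⟨ρ r w, hWmem r w w.2⟩)
          fun a b => Subtype.ext (map_add (ρ r) (a : V) (b : V))
        map_one' := AddMonoidHom.ext fun w => Subtype.ext (rho_one (ρ := ρ) (w : V))
        map_mul' := fun x y => AddMonoidHom.ext fun w => Subtype.ext (rho_mul (ρ := ρ) x y (w : V)) }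
    have hlt : Nat.card W < n := by
      rw [← hVn]
      refine lt_of_le_of_ne (Nat.card_le_card_of_injective _ W.subtype_injective) fun e => hsur fun v => ?_
      have : W = ⊤ := AddSubgroup.eq_top_of_card_eq W e
      exact (this.ge (AddSubgroup.mem_top v) : v ∈ W)
    have hdvd : Nat.card W ∣ n := hVn ▸ AddSubgroup.card_addSubgroup_dvd_card W
    have key := ih _ hlt W rfl (hcop.coprime_dvd_right hdvd) R hR σ C D hC hD (by
      rintro c hc d hd ⟨_, u, rfl⟩
      obtain ⟨a, b, hab, ha, hb⟩ := hT c hc d hd u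
      refine ⟨⟨f a, a, rfl⟩, ⟨f b, b, rfl⟩, Subtype.ext ?_, Subtype.ext ?_, Subtype.ext ?_⟩
      · show f u = f a + f b
        rw [hab, map_add]
      · show ρ d (f a) = f a
        rw [hf, ha]
      · show ρ c (f b) = f b
        rw [hf, hb])
    exact fun r v => congrArg Subtype.val (key r ⟨f v, v, rfl⟩)
  -- central elements of order p have no fixed points
  have hz0 : ∀ z ∈ Subgroup.center R, z ^ p = 1 → z ≠ 1 → ∀ v, avg ρ p z v = 0 := by
    intro z hz hzp hz1
    have hcomm : ∀ g : R, g * z = z * g := fun g => Subgroup.mem_center_iff.mp hz g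
    set f : AddMonoid.End V := avg ρ p z with hfdef
    have hfeq : ∀ r v, ρ r (f v) = f (ρ r v) := fun r v => by
      rw [hfdef, rho_avg_conj, hcomm, mul_inv_cancel_right]
    have hfix' : ∀ v, ρ z (f v) = f v := rho_avg z hzp
    have h1 := hind f hfeq fun hs => hz1 (hfix z fun v => by
      obtain ⟨u, rfl⟩ := hs v
      exact hfix' u)
    let g : V →+ V :=
      AddMonoidHom.mk' (fun v => p • v - f v) fun a b => by rw [nsmul_add, map_add]; abel
    have hg : ∀ v, g v = p • v - f v := fun v => rfl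
    have hgsur : Function.Surjective g := by
      by_contra hns
      have h2 := hind g (fun r v => by
        show ρ r (p • v - f v) = p • ρ r v - f (ρ r v)
        rw [map_sub, map_nsmul, hfeq]) hns
      refine hz1 (hfix z fun v => sub_eq_zero.mp (hpinj _ ?_))
      have e1 : ρ z (p • v - f v) = p • v - f v := h2 z v
      rw [map_sub, hfix', sub_left_inj, map_nsmul] at e1
      rw [nsmul_sub, e1, sub_self]
    have hginj : Function.Injective g := Finite.injective_iff_surjective.mpr hgsur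
    intro v
    refine hginj ?_
    rw [map_zero, hg, show f (f v) = p • f v from avg_of_fixed z _ (hfix' v), sub_self]
  have hzfix : ∀ z ∈ Subgroup.center R, z ^ p = 1 → z ≠ 1 → ∀ v, ρ z v = v → v = 0 :=
    fun z hz hzp hz1 v hv => hpinj v (by rw [← avg_of_fixed z v hv]; exact hz0 z hz hzp hz1 v)
  -- it suffices that `V` is trivial
  suffices ∀ v : V, v = 0 by
    intro r v
    rw [this v, map_zero]
  have hout : ∀ (M : Subgroup R) (S : Set R), Subgroup.closure S = ⊤ → M ≠ ⊤ →
      ∃ s ∈ S, s ∉ M := by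
    intro M S hS hM
    by_contra hc
    push Not at hc
    exact hM (top_unique (hS ▸ (Subgroup.closure_le M).mpr hc))
  by_cases hcyc : IsCyclic R
  · obtain ⟨g, hg⟩ := hcyc.exists_generator
    have hab : ∀ x : R, x ∈ Subgroup.center R := fun x => by
      obtain ⟨i, rfl⟩ := hg x
      refine Subgroup.mem_center_iff.mpr fun y => ?_
      obtain ⟨j, rfl⟩ := hg y
      exact ((Commute.refl g).zpow_zpow j i).eq
    have hfree : ∀ x : R, x ≠ 1 → ∀ v, ρ x v = v → v = 0 := by
      intro x hx v hv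
      obtain ⟨k, hk⟩ := IsPGroup.iff_orderOf.mp hR x
      have hk0 : k ≠ 0 := by
        rintro rfl
        exact hx (orderOf_eq_one_iff.mp (by rw [hk, pow_zero]))
      have hz : orderOf (x ^ (p ^ (k - 1))) = p := by
        rw [orderOf_pow_of_dvd (pow_ne_zero _ hpp.ne_zero) (by rw [hk]; exact pow_dvd_pow p (by omega)),
          hk, Nat.pow_div (by omega) hpp.pos, show k - (k - 1) = 1 by omega, pow_one]
      refine hzfix _ (hab _) (by rw [← hz]; exact pow_orderOf_eq_one _)
        (fun e => hpp.ne_one (by rw [← hz, e, orderOf_one])) v ?_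
      have : ∀ m : ℕ, ρ (x ^ m) v = v := fun m => by
        induction m with
        | zero => rw [pow_zero, rho_one]
        | succ m ihm => rw [pow_succ, rho_mul, hv, ihm]
      exact this _
    obtain ⟨c, hc, hc1⟩ := hout ⊥ C hC bot_ne_top
    obtain ⟨d, hd, hd1⟩ := hout ⊥ D hD bot_ne_top
    intro v
    obtain ⟨a, b, hab', ha, hb⟩ := hT c hc d hd v
    rw [hab', hfree d (by simpa using hd1) a ha, hfree c (by simpa using hc1) b hb, add_zero]
  obtain ⟨E, -, hEn, ⟨hEab, hEp⟩, hEc⟩ := CfsgLib.Fusion.NormalRankTwo.exists_normal_rankTwo hR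
    (by omega) (S := (⊤ : Subgroup R)) (fun h => hcyc (Subgroup.topEquiv.isCyclic.mp h))
  haveI := hR.isNilpotent
  have hEZ : E ⊓ Subgroup.center R ≠ ⊥ := CfsgLib.Solvable.FrattiniFitting.inf_center_ne_bot _ (by
    rintro rfl
    rw [Subgroup.card_bot] at hEc
    exact (Nat.one_lt_pow two_ne_zero hpp.one_lt).ne hEc)
  haveI := (Subgroup.nontrivial_iff_ne_bot _).mpr hEZ
  obtain ⟨⟨z, hzE, hzZ⟩, hzne⟩ := exists_ne (1 : ↥(E ⊓ Subgroup.center R))
  have hz1 : z ≠ 1 := fun e => hzne (Subtype.ext e)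
  have hzp : z ^ p = 1 := hEp z hzE
  have hzo : orderOf z = p := orderOf_eq_prime hzp hz1
  haveI : (Subgroup.zpowers z).Normal := ⟨fun x hx g => by
    rw [Subgroup.mem_center_iff.mp ((Subgroup.zpowers_le.mpr hzZ) hx) g, mul_inv_cancel_right]
    exact hx⟩
  obtain ⟨a, haE, haz, -, hag⟩ := CfsgLib.Fusion.NormalRankTwo.exists_central_of_lt hR
    (M := Subgroup.zpowers z) (N := E) fun hle => by
      have := Subgroup.card_le_of_le hle
      rw [Nat.card_zpowers, hzo, hEc] at this
      have : p < p ^ 2 := by nlinarith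
      omega
  have hap : a ^ p = 1 := hEp a haE
  have haE' : ∀ x ∈ E, Commute a x := fun x hx =>
    congrArg Subtype.val (mul_comm (⟨a, haE⟩ : E) ⟨x, hx⟩)
  -- powers of a central element of order p
  have hpow : ∀ w : R, w ∈ Subgroup.center R → orderOf w = p → ∀ m : ℕ, 0 < m → m < p →
      ∀ v, avg ρ p (w ^ m) v = 0 := fun w hw hwo m hm0 hmp =>
    hz0 _ (pow_mem hw m) (by rw [← pow_mul, mul_comm, pow_mul, ← hwo, pow_orderOf_eq_one, one_pow])
      (pow_ne_one_of_lt_orderOf hm0.ne' (by rw [hwo]; exact hmp))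
  by_cases haC : a ∈ Subgroup.center R
  · intro v
    refine hpinj v ?_
    rw [← sum_avg_eq (haE' z hzE) (hpow z hzZ hzo) v]
    refine Finset.sum_eq_zero fun i _ => hz0 _ (mul_mem haC (pow_mem hzZ i)) ?_ ?_ v
    · rw [((haE' z hzE).pow_right i).mul_pow, hap, ← pow_mul, mul_comm, pow_mul, hzp, one_pow,
        one_mul]
    · intro e
      refine haz ?_
      rw [eq_inv_of_mul_eq_one_left e]
      exact inv_mem (pow_mem (Subgroup.mem_zpowers z) i)
  let M : Subgroup R := Subgroup.centralizer {a}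
  have hM : M ≠ ⊤ := fun e => haC (Subgroup.mem_center_iff.mpr fun g =>
    (Subgroup.mem_centralizer_singleton_iff.mp (e.ge (Subgroup.mem_top g))))
  -- facts about an element outside `M`
  have hmove : ∀ c : R, c ∉ M → ∃ w ∈ Subgroup.center R, orderOf w = p ∧ Commute a w ∧
      ∀ i : ℕ, c * (a * w ^ i) * c⁻¹ = a * w ^ (i + 1) := by
    intro c hc
    have hwz : ⁅c, a⁆ ∈ Subgroup.zpowers z := hag c
    have hwC : ⁅c, a⁆ ∈ Subgroup.center R := Subgroup.zpowers_le.mpr hzZ hwz
    have hwE : ⁅c, a⁆ ∈ E := Subgroup.zpowers_le.mpr hzE hwz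
    refine ⟨_, hwC, orderOf_eq_prime (hEp _ hwE) (fun e => hc (Subgroup.mem_centralizer_singleton_iff.mpr
      (commutatorElement_eq_one_iff_mul_comm.mp e))), haE' _ hwE, fun i => ?_⟩
    have hcw : c * ⁅c, a⁆ ^ i = ⁅c, a⁆ ^ i * c :=
      Subgroup.mem_center_iff.mp (pow_mem hwC i) c
    rw [pow_succ', ← mul_assoc a, (haE' _ hwE).eq, show ⁅c, a⁆ * a = c * a * c⁻¹ by
      rw [commutatorElement_def]; group]
    calc c * (a * ⁅c, a⁆ ^ i) * c⁻¹ = c * a * (⁅c, a⁆ ^ i * c⁻¹) := by group
      _ = c * a * (c⁻¹ * ⁅c, a⁆ ^ i) := by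
        congr 1
        rw [eq_comm, inv_mul_eq_iff_eq_mul, ← mul_assoc, hcw, mul_inv_cancel_right]
      _ = c * a * c⁻¹ * ⁅c, a⁆ ^ i := by group
  -- the averaging map of `a` is injective on the fixed points of such elements
  have hinj : ∀ c : R, c ∉ M → ∀ v, ρ c v = v → avg ρ p a v = 0 → v = 0 := by
    intro c hc v hv h0
    obtain ⟨w, hwC, hwo, haw, hconj⟩ := hmove c hc
    have hall : ∀ i : ℕ, avg ρ p (a * w ^ i) v = 0 := fun i => by
      induction i with
      | zero => rwa [pow_zero, mul_one]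
      | succ i ihi =>
        have h2 := congrArg (ρ c) ihi
        rwa [rho_avg_conj, hconj, hv, map_zero] at h2
    exact hpinj v (by rw [← sum_avg_eq haw (hpow w hwC hwo) v]; exact Finset.sum_eq_zero fun i _ => hall i)
  obtain ⟨c, hc, hcM⟩ := hout M C hC hM
  obtain ⟨d, hd, hdM⟩ := hout M D hD hM
  let W := AddMonoidHom.range (avg ρ p a : V →+ V)
  have hbound : ∀ e : R, e ∉ M → Nat.card {v : V // ρ e v = v} ≤ Nat.card W := fun e he =>
    Nat.card_le_card_of_injective (fun v => ⟨avg ρ p a v.1, v.1, rfl⟩) fun v v' h => by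
      refine Subtype.ext (sub_eq_zero.mp (hinj e he _ (by rw [map_sub, v.2, v'.2]) ?_))
      rw [map_sub, sub_eq_zero]
      exact congrArg Subtype.val h
  have hupper : n ≤ Nat.card W * Nat.card W := by
    rw [← hVn]
    refine le_trans ?_ (Nat.mul_le_mul (hbound d hdM) (hbound c hcM))
    rw [← Nat.card_prod]
    refine Nat.card_le_card_of_surjective (fun x => x.1.1 + x.2.1) fun v => ?_
    obtain ⟨x, y, hxy, hx, hy⟩ := hT c hc d hd v
    exact ⟨(⟨x, hx⟩, ⟨y, hy⟩), hxy.symm⟩
  have hlower : Nat.card W * (Nat.card W * Nat.card W) ≤ n := by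
    obtain ⟨w, hwC, hwo, haw, hconj⟩ := hmove c hcM
    have hap' : ∀ i : ℕ, (a * w ^ i) ^ p = 1 := fun i => by
      rw [(haw.pow_right i).mul_pow, hap, ← pow_mul, mul_comm, pow_mul, ← hwo, pow_orderOf_eq_one,
        one_pow, one_mul]
    -- the translates of `W`
    have htr : ∀ i : ℕ, ∀ x ∈ W, ρ (a * w ^ i) (ρ (c ^ i) x) = ρ (c ^ i) x := by
      intro i
      induction i with
      | zero =>
        rintro _ ⟨u, rfl⟩
        rw [pow_zero, mul_one, pow_zero, rho_one]
        exact rho_avg a hap u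
      | succ i ihi =>
        intro x hx
        have e : a * w ^ (i + 1) * c ^ (i + 1) = c * (a * w ^ i * c ^ i) := by
          rw [← hconj i, pow_succ' c]; group
        rw [← rho_mul, e, rho_mul, rho_mul, ihi x hx, ← rho_mul, ← pow_succ']
    have hsep : ∀ i k : ℕ, i < p → k < p → i ≠ k → ∀ y, ρ (a * w ^ k) y = y →
        avg ρ p (a * w ^ i) y = 0 := by
      intro i k hi hk hik y hy
      set u := w ^ i * (w ^ k)⁻¹ with hu
      have huC : u ∈ Subgroup.center R := mul_mem (pow_mem hwC i) (inv_mem (pow_mem hwC k))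
      have hcu : ∀ g : R, g * u = u * g := Subgroup.mem_center_iff.mp huC
      have hwik : a * w ^ i = u * (a * w ^ k) := by
        rw [← hcu, hu, mul_assoc, ← mul_assoc (w ^ k), (Commute.pow_pow_self w k i).eq,
          mul_inv_cancel_right]
      have hu1 : u ≠ 1 := fun e => hik (pow_injOn_Iio_orderOf (by rw [hwo]; exact hi)
        (by rw [hwo]; exact hk) (mul_inv_eq_one.mp e))
      have hup : u ^ p = 1 := by
        rw [hu, ((Commute.pow_pow_self w i k).inv_right).mul_pow, inv_pow, ← pow_mul, ← pow_mul,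
          mul_comm i, mul_comm k, pow_mul, pow_mul, ← hwo, pow_orderOf_eq_one, one_pow, one_pow,
          inv_one, one_mul]
      have hm : ∀ m : ℕ, ρ ((a * w ^ i) ^ m) y = ρ (u ^ m) y := fun m => by
        induction m with
        | zero => rw [pow_zero, pow_zero]
        | succ m ihm =>
          rw [pow_succ', rho_mul, ihm, hwik, ← rho_mul, mul_assoc,
            Subgroup.mem_center_iff.mp (pow_mem huC m) (a * w ^ k), ← mul_assoc, rho_mul, hy,
            ← pow_succ']
      rw [avg_apply, Finset.sum_congr rfl fun m _ => hm m, ← avg_apply]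
      exact hz0 u huC hup hu1 y
    rw [← hVn, ← Nat.card_prod, ← Nat.card_prod]
    refine Nat.card_le_card_of_injective
      (fun x => x.1.1 + (ρ (c ^ 1) x.2.1.1 + ρ (c ^ 2) x.2.2.1)) ?_
    rintro ⟨x, y, t⟩ ⟨x', y', t'⟩ h
    have h0 : ((x : V) - x') + (ρ (c ^ 1) ((y : V) - y') + ρ (c ^ 2) ((t : V) - t')) = 0 := by
      simp only at h
      rw [map_sub, map_sub, ← sub_eq_zero.mpr h]
      abel
    have hx : ρ (a * w ^ 0) ((x : V) - x') = (x : V) - x' := by
      have := htr 0 _ (W.sub_mem x.2 x'.2)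
      rwa [pow_zero c, rho_one] at this
    have hy := htr 1 _ (W.sub_mem y.2 y'.2)
    have ht := htr 2 _ (W.sub_mem t.2 t'.2)
    have hp2 : 2 < p := hp
    have hz' : ∀ (i : ℕ) (q : V), ρ (a * w ^ i) q = q → avg ρ p (a * w ^ i) q = 0 → q = 0 :=
      fun i q hq h1 => hpinj q (by rw [← avg_of_fixed _ q hq]; exact h1)
    have e0 := congrArg (avg ρ p (a * w ^ 0)) h0
    rw [map_add, map_add, hsep 0 1 (by omega) (by omega) (by omega) _ hy,
      hsep 0 2 (by omega) hp2 (by omega) _ ht, add_zero, add_zero, map_zero] at e0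
    have e1 := congrArg (avg ρ p (a * w ^ 1)) h0
    rw [map_add, map_add, hsep 1 0 (by omega) (by omega) (by omega) _ hx,
      hsep 1 2 (by omega) hp2 (by omega) _ ht, add_zero, zero_add, map_zero] at e1
    have e2 := congrArg (avg ρ p (a * w ^ 2)) h0
    rw [map_add, map_add, hsep 2 0 hp2 (by omega) (by omega) _ hx,
      hsep 2 1 hp2 (by omega) (by omega) _ hy, zero_add, zero_add, map_zero] at e2
    have r1 := rho_injective (ρ := ρ) (c ^ 1)
      ((hz' 1 _ hy e1).trans (map_zero (ρ (c ^ 1))).symm)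
    have r2 := rho_injective (ρ := ρ) (c ^ 2)
      ((hz' 2 _ ht e2).trans (map_zero (ρ (c ^ 2))).symm)
    exact Prod.ext (Subtype.ext (sub_eq_zero.mp (hz' 0 _ hx e0)))
      (Prod.ext (Subtype.ext (sub_eq_zero.mp r1)) (Subtype.ext (sub_eq_zero.mp r2)))
  have hW : Nat.card W = 1 := by
    have hpos : 0 < Nat.card W := Nat.card_pos
    have : Nat.card W ≤ 1 := Nat.le_of_mul_le_mul_right
      (by rw [one_mul]; exact hlower.trans hupper) (Nat.mul_pos hpos hpos)
    omega
  haveI : Subsingleton W := (Nat.card_eq_one_iff_unique.mp hW).1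
  intro v
  obtain ⟨x, y, hxy, hx, hy⟩ := hT c hc d hd v
  have hW0 : ∀ u, avg ρ p a u = 0 := fun u =>
    congrArg Subtype.val (Subsingleton.elim (⟨_, u, rfl⟩ : W) 0)
  rw [hxy, hinj d hdM x hx (hW0 x), hinj c hcM y hy (hW0 y), add_zero]

end CfsgLib.Frobenius.FixedSum
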