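import Mathlib

/-!
The derived length of a `p`-group of matrices of degree `n` is at most `log₂ n + 1`.
-/

set_option autoImplicit false

universe u v

open Module
open scoped commutatorElement

namespace CfsgLib.Frobenius.LinearPGroup

variable {K : Type*} [Field K]

/-- The restriction of a representation to an invariant submodule. -/
def subRep {P : Type u} [Group P] {V : Type v} [AddCommGroup V] [Module K V]
    (ρ : Representation K P V) (U : Submodule K V) (hU : ∀ g, ∀ x ∈ U, ρ g x ∈ U) :
    Representation K P U where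
  toFun g := (ρ g).restrict (hU g)
  map_one' := LinearMap.ext fun x => Subtype.ext (by simp)
  map_mul' g h := LinearMap.ext fun x => Subtype.ext (by simp)

theorem subRep_apply {P : Type u} [Group P] {V : Type v} [AddCommGroup V] [Module K V]
    (ρ : Representation K P V) (U : Submodule K V) (hU : ∀ g, ∀ x ∈ U, ρ g x ∈ U) (g : P) (x : U) :
    (subRep ρ U hU g x : V) = ρ g x := rfl

/-- The representation on the quotient by an invariant submodule. -/
def quotRep {P : Type u} [Group P] {V : Type v} [AddCommGroup V] [Module K V]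
    (ρ : Representation K P V) (U : Submodule K V) (hU : ∀ g, ∀ x ∈ U, ρ g x ∈ U) :
    Representation K P (V ⧸ U) where
  toFun g := U.mapQ U (ρ g) (fun x hx => hU g x hx)
  map_one' := Submodule.linearMap_qext _ (LinearMap.ext fun x => by simp)
  map_mul' g h := Submodule.linearMap_qext _ (LinearMap.ext fun x => by simp)

theorem derivedSeries_succ_le {P : Type u} [Group P] (N : Subgroup P) (h : derivedSeries P 1 ≤ N)
    (j : ℕ) : derivedSeries P (j + 1) ≤ (derivedSeries N j).map N.subtype := by
  induction j with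
  | zero => rw [derivedSeries_zero, ← MonoidHom.range_eq_map, Subgroup.range_subtype]; exact h
  | succ j ih =>
    rw [derivedSeries_succ P, derivedSeries_succ N, Subgroup.map_commutator]
    exact Subgroup.commutator_mono ih ih

theorem apply_inv_self {P : Type u} [Group P] {V : Type v} [AddCommGroup V] [Module K V]
    (ρ : Representation K P V) (g : P) (x : V) : ρ g⁻¹ (ρ g x) = x := by
  rw [← Module.End.mul_apply, ← map_mul, inv_mul_cancel, map_one]; rfl

theorem apply_self_inv {P : Type u} [Group P] {V : Type v} [AddCommGroup V] [Module K V]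
    (ρ : Representation K P V) (g : P) (x : V) : ρ g (ρ g⁻¹ x) = x := by
  rw [← Module.End.mul_apply, ← map_mul, mul_inv_cancel, map_one]; rfl

theorem commutator_apply_eq_one {P : Type u} [Group P] {V : Type v} [AddCommGroup V] [Module K V]
    (ρ : Representation K P V) {g h : P} (hc : ρ g * ρ h = ρ h * ρ g) : ρ ⁅g, h⁆ = 1 := by
  rw [commutatorElement_def, map_mul, map_mul, map_mul, hc, mul_assoc (ρ h), ← map_mul ρ g g⁻¹,
    mul_inv_cancel, map_one, mul_one, ← map_mul, mul_inv_cancel, map_one]

/-- A fixed vector of a `p`-group in characteristic `p`. -/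
theorem exists_fixed {p : ℕ} [hp : Fact p.Prime] [CharP K p] {P : Type u} [Group P] [Finite P]
    (hP : IsPGroup p P) {W : Type v} [AddCommGroup W] [Module K W] (σ : Representation K P W)
    [Nontrivial W] : ∃ w : W, w ≠ 0 ∧ ∀ g, σ g w = w := by
  classical
  haveI := Fintype.ofFinite P
  obtain ⟨v, hv⟩ := exists_ne (0 : W)
  have hpW : ∀ x : W, p • x = 0 := fun x => by
    rw [← Nat.cast_smul_eq_nsmul K, CharP.cast_eq_zero, zero_smul]
  letI : Module (ZMod p) W := AddCommGroup.zmodModule hpW
  let Φ : (P → ZMod p) →+ W :=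
    AddMonoidHom.mk' (fun c => ∑ g, c g • σ g v)
      (fun c d => by simp [add_smul, Finset.sum_add_distrib])
  let S : AddSubgroup W := Φ.range
  haveI : Finite S := Finite.of_surjective _ Φ.rangeRestrict_surjective
  have hinv : ∀ (g : P) (x : W), x ∈ S → σ g x ∈ S := by
    rintro g _ ⟨c, rfl⟩
    refine ⟨fun h => c (g⁻¹ * h), ?_⟩
    show ∑ h, c (g⁻¹ * h) • σ h v = σ g (∑ h, c h • σ h v)
    rw [map_sum, ← Equiv.sum_comp (Equiv.mulLeft g) (fun h => c (g⁻¹ * h) • σ h v)]
    refine Finset.sum_congr rfl fun h _ => ?_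
    simp only [Equiv.coe_mulLeft, inv_mul_cancel_left]
    rw [map_mul, Module.End.mul_apply]
    exact (ZMod.map_smul (σ g).toAddMonoidHom (c h) (σ h v)).symm
  let act : MulAction P S :=
    { smul := fun g x => ⟨σ g x, hinv g x x.2⟩
      one_smul := fun x => Subtype.ext (by show σ 1 (x : W) = x; rw [map_one]; rfl)
      mul_smul := fun g h x => Subtype.ext (by
        show σ (g * h) (x : W) = σ g (σ h x)
        rw [map_mul]; rfl) }
  have hvS : v ∈ S := by
    refine ⟨fun g => if g = 1 then 1 else 0, ?_⟩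
    show ∑ g, (if g = 1 then (1 : ZMod p) else 0) • σ g v = v
    simp [ite_smul]
  haveI : Nontrivial S := ⟨⟨⟨v, hvS⟩, 0, fun h => hv (congrArg Subtype.val h)⟩⟩
  have hpS : p ∣ Nat.card S := by
    have h1 : Nat.card S ∣ p ^ Fintype.card P := by
      have h := AddSubgroup.card_dvd_of_surjective _ Φ.rangeRestrict_surjective
      rwa [Nat.card_fun, Nat.card_zmod, Nat.card_eq_fintype_card (α := P)] at h
    obtain ⟨k, -, hk⟩ := (Nat.dvd_prime_pow hp.out).mp h1
    rw [hk]
    refine dvd_pow_self p fun h0 => ?_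
    have := Finite.one_lt_card (α := S)
    rw [hk, h0, pow_zero] at this
    omega
  have h0 : (0 : S) ∈ MulAction.fixedPoints P S := fun g => Subtype.ext (map_zero (σ g))
  obtain ⟨b, hb, hb0⟩ := hP.exists_fixed_point_of_prime_dvd_card_of_fixed_point S hpS h0
  exact ⟨b, fun h => hb0 (Subtype.ext h.symm), fun g => congrArg Subtype.val (hb g)⟩

/-- Invariant subspaces of every dimension in characteristic `p`. -/
theorem exists_invariant {p : ℕ} [hp : Fact p.Prime] [CharP K p] {P : Type u} [Group P] [Finite P]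
    (hP : IsPGroup p P) {V : Type v} [AddCommGroup V] [Module K V] [FiniteDimensional K V]
    (ρ : Representation K P V) : ∀ j ≤ finrank K V, ∃ U : Submodule K V,
      (∀ g, ∀ x ∈ U, ρ g x ∈ U) ∧ finrank K U = j := by
  intro j
  induction j with
  | zero => exact fun _ => ⟨⊥, fun g x hx => by simp [(Submodule.mem_bot K).mp hx], finrank_bot K V⟩
  | succ j ih =>
    intro hj
    obtain ⟨U, hU, hUj⟩ := ih (by omega)
    have hUtop : U ≠ ⊤ := fun h => by rw [h, finrank_top] at hUj; omega
    haveI : Nontrivial (V ⧸ U) := Submodule.Quotient.nontrivial_iff.mpr hUtop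
    obtain ⟨w, hw0, hw⟩ := exists_fixed hP (quotRep ρ U hU)
    refine ⟨(Submodule.span K {w}).comap U.mkQ, fun g x hx => ?_, ?_⟩
    · rw [Submodule.mem_comap, Submodule.mem_span_singleton] at hx ⊢
      obtain ⟨a, ha⟩ := hx
      refine ⟨a, ?_⟩
      show a • w = quotRep ρ U hU g (U.mkQ x)
      rw [← ha, map_smul, hw]
    · have h1 : finrank K ((Submodule.span K {w}).comap U.mkQ) = finrank K (Submodule.span K ({w} : Set (V ⧸ U))) + finrank K U := by
        set W := (Submodule.span K {w}).comap U.mkQ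
        have hUW : U ≤ W := fun x hx => by
          rw [Submodule.mem_comap, Submodule.mkQ_apply, (Submodule.Quotient.mk_eq_zero U).mpr hx]
          exact zero_mem _
        have h2 := LinearMap.finrank_range_add_finrank_ker (U.mkQ.comp W.subtype)
        rw [LinearMap.range_comp, Submodule.range_subtype, LinearMap.ker_comp, Submodule.ker_mkQ,
          Submodule.map_comap_eq, Submodule.range_mkQ, top_inf_eq] at h2
        rw [← h2, (Submodule.comapSubtypeEquivOfLe hUW).finrank_eq]
      rw [h1, finrank_span_singleton hw0, hUj, add_comm]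

/-- Characteristic `p`: derived length at most `m` in degree at most `2 ^ m`. -/
theorem derivedSeries_apply_char {p : ℕ} [hp : Fact p.Prime] [CharP K p] :
    ∀ (m : ℕ) (P : Type u) [Group P] [Finite P], IsPGroup p P →
      ∀ (V : Type v) [AddCommGroup V] [Module K V] [FiniteDimensional K V] (ρ : Representation K P V),
      finrank K V ≤ 2 ^ m → ∀ g ∈ derivedSeries P m, ρ g = 1 := by
  intro m
  induction m with
  | zero =>
    intro P _ _ hP V _ _ _ ρ hdim g _
    refine LinearMap.ext fun x => ?_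
    rcases Nat.eq_zero_or_pos (finrank K V) with h | h
    · haveI := (Module.finrank_zero_iff (R := K) (M := V)).mp h
      exact Subsingleton.elim _ _
    · haveI : Nontrivial V := Module.nontrivial_of_finrank_pos h
      obtain ⟨w, hw0, hw⟩ := exists_fixed hP ρ
      have h1 : finrank K V = 1 := by rw [pow_zero] at hdim; omega
      obtain ⟨a, rfl⟩ := (finrank_eq_one_iff_of_nonzero' w hw0).mp h1 x
      rw [map_smul, hw g]; rfl
  | succ m ih =>
    intro P _ _ hP V _ _ _ ρ hdim
    obtain ⟨U, hU, hUd⟩ := exists_invariant hP ρ (min (2 ^ m) (finrank K V)) (min_le_right _ _)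
    have hQd : finrank K (V ⧸ U) ≤ 2 ^ m := by
      have h := U.finrank_quotient_add_finrank
      rw [hUd] at h
      rw [pow_succ] at hdim
      omega
    have hUd' : finrank K U ≤ 2 ^ m := hUd ▸ min_le_left _ _
    intro g hg
    rw [derivedSeries_succ] at hg
    have hle : derivedSeries P m ≤ ((subRep ρ U hU).ker) ⊓ ((quotRep ρ U hU).ker) := fun a ha =>
      ⟨ih P hP U _ hUd' a ha, ih P hP (V ⧸ U) _ hQd a ha⟩
    have key : ∀ a ∈ derivedSeries P m, ∀ b ∈ derivedSeries P m, ρ a * ρ b = ρ b * ρ a := by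
      intro a ha b hb
      have hfix : ∀ c ∈ derivedSeries P m, ∀ x ∈ U, ρ c x = x := fun c hc x hx =>
        congrArg Subtype.val (LinearMap.congr_fun (hle hc).1 ⟨x, hx⟩)
      have hmod : ∀ c ∈ derivedSeries P m, ∀ x : V, ρ c x - x ∈ U := fun c hc x =>
        (Submodule.Quotient.eq U).mp (LinearMap.congr_fun (hle hc).2 (Submodule.Quotient.mk x))
      refine LinearMap.ext fun x => ?_
      simp only [Module.End.mul_apply]
      have e1 := hfix a ha _ (hmod b hb x)
      have e2 := hfix b hb _ (hmod a ha x)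
      rw [map_sub] at e1 e2
      have e1' : ρ a (ρ b x) = ρ b x - x + ρ a x := by rw [← e1]; abel
      have e2' : ρ b (ρ a x) = ρ a x - x + ρ b x := by rw [← e2]; abel
      rw [e1', e2']; abel
    have hker : ⁅derivedSeries P m, derivedSeries P m⁆ ≤ ρ.ker :=
      Subgroup.commutator_le.mpr fun a ha b hb => commutator_apply_eq_one ρ (key a ha b hb)
    exact hker hg

/-- Other characteristics: derived length at most `m + 1` in degree less than `2 ^ (m + 1)`. -/
theorem derivedSeries_apply [IsAlgClosed K] {p : ℕ} [hp : Fact p.Prime] (hpK : (p : K) ≠ 0) :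
    ∀ (n : ℕ) (P : Type u) [Group P] [Finite P], IsPGroup p P →
      ∀ (V : Type v) [AddCommGroup V] [Module K V] [FiniteDimensional K V] (ρ : Representation K P V),
      finrank K V = n → ∀ m, n < 2 ^ (m + 1) → ∀ g ∈ derivedSeries P (m + 1), ρ g = 1 := by
  intro n
  induction n using Nat.strong_induction_on with
  | _ n ih =>
  intro P _ _ hP V _ _ _ ρ hn m hm
  classical
  have hPK : ∀ g : P, (orderOf g : K) ≠ 0 := by
    intro g
    obtain ⟨k, hk⟩ := hP g
    obtain ⟨i, -, hi⟩ := (Nat.dvd_prime_pow hp.out).mp (orderOf_dvd_of_pow_eq_one hk)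
    rw [hi, Nat.cast_pow]
    exact pow_ne_zero i hpK
  by_cases hred : ∃ U : Submodule K V, (∀ g, ∀ x ∈ U, ρ g x ∈ U) ∧ U ≠ ⊥ ∧ U ≠ ⊤
  · obtain ⟨U, hU, hU0, hUtop⟩ := hred
    haveI : NeZero (Nat.card P : K) := ⟨by
      obtain ⟨k, hk⟩ := IsPGroup.iff_card.mp hP
      rw [hk, Nat.cast_pow]; exact pow_ne_zero k hpK⟩
    obtain ⟨W, hW, hUW⟩ : ∃ W : Submodule K V, (∀ g, ∀ x ∈ W, ρ g x ∈ W) ∧ IsCompl U W := by
      haveI := Fintype.ofFinite P
      obtain ⟨π₀, hπ₀⟩ := U.exists_isCompl
      set q : V →ₗ[K] V := U.subtype.comp (Submodule.linearProjOfIsCompl U π₀ hπ₀)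
      let A : V →ₗ[K] V := (Nat.card P : K)⁻¹ • ∑ g : P, ρ g ∘ₗ q ∘ₗ ρ g⁻¹
      have hqU : ∀ x, q x ∈ U := fun x => Submodule.coe_mem _
      have hqid : ∀ x ∈ U, q x = x := fun x hx => by
        exact congrArg Subtype.val (Submodule.linearProjOfIsCompl_apply_left hπ₀ ⟨x, hx⟩)
      have hAU : ∀ x, A x ∈ U := fun x => by
        simp only [A, LinearMap.smul_apply, LinearMap.sum_apply, LinearMap.comp_apply]
        exact U.smul_mem _ (Submodule.sum_mem _ fun g _ => hU g _ (hqU _))
      have hAid : ∀ x ∈ U, A x = x := fun x hx => by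
        simp only [A, LinearMap.smul_apply, LinearMap.sum_apply, LinearMap.comp_apply]
        rw [Finset.sum_congr rfl fun g _ => by rw [hqid _ (hU g⁻¹ x hx), apply_self_inv],
          Finset.sum_const, Finset.card_univ, ← Nat.card_eq_fintype_card, ← Nat.cast_smul_eq_nsmul K,
          smul_smul, inv_mul_cancel₀ (NeZero.ne _), one_smul]
      have hAcomm : ∀ (h : P) (x : V), A (ρ h x) = ρ h (A x) := fun h x => by
        simp only [A, LinearMap.smul_apply, LinearMap.sum_apply, LinearMap.comp_apply, map_smul, map_sum]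
        congr 1
        rw [← Equiv.sum_comp (Equiv.mulLeft h) (fun g => ρ g (q (ρ g⁻¹ (ρ h x))))]
        refine Finset.sum_congr rfl fun g _ => ?_
        simp only [Equiv.coe_mulLeft, mul_inv_rev, map_mul, Module.End.mul_apply, apply_inv_self]
      refine ⟨LinearMap.ker A, fun g x hx => ?_, ?_⟩
      · rw [LinearMap.mem_ker] at hx ⊢
        rw [hAcomm, hx, map_zero]
      · refine ⟨Submodule.disjoint_def.mpr fun x hxU hxA => by
          rw [LinearMap.mem_ker, hAid x hxU] at hxA; exact hxA, ?_⟩
        rw [codisjoint_iff, eq_top_iff]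
        intro x _
        rw [show x = A x + (x - A x) by abel]
        refine Submodule.add_mem_sup (hAU x) ?_
        rw [LinearMap.mem_ker, map_sub, hAid _ (hAU x), sub_self]
    have hUlt : finrank K U < n := hn ▸ Submodule.finrank_lt hUtop
    have hWlt : finrank K W < n := by
      refine hn ▸ Submodule.finrank_lt fun h => hU0 ?_
      rw [h] at hUW
      exact eq_bot_iff.mpr (fun x hx => (Submodule.disjoint_def.mp hUW.disjoint x hx Submodule.mem_top) ▸ Submodule.zero_mem _)
    intro g hg
    refine LinearMap.ext fun x => ?_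
    have hx : x ∈ U ⊔ W := hUW.sup_eq_top ▸ Submodule.mem_top
    obtain ⟨u, hu, w, hw, rfl⟩ := Submodule.mem_sup.mp hx
    have h1 : ρ g u = u := congrArg Subtype.val
      (LinearMap.congr_fun (ih _ hUlt P hP U (subRep ρ U hU) rfl m (hUlt.trans hm) g hg) ⟨u, hu⟩)
    have h2 : ρ g w = w := congrArg Subtype.val
      (LinearMap.congr_fun (ih _ hWlt P hP W (subRep ρ W hW) rfl m (hWlt.trans hm) g hg) ⟨w, hw⟩)
    rw [map_add, h1, h2]; rfl
  push Not at hred
  intro g hg
  by_cases hab : ∀ a b : P, ρ a * ρ b = ρ b * ρ a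
  · have hle : derivedSeries P 1 ≤ ρ.ker := by
      rw [derivedSeries_one, commutator_def]
      exact Subgroup.commutator_le.mpr fun a _ b _ => commutator_apply_eq_one ρ (hab a b)
    exact hle (derivedSeries_antitone P (by omega) hg)
  -- scalar elements
  let Z : Subgroup P :=
    { carrier := {z | ∃ c : K, ρ z = c • (1 : Module.End K V)}
      one_mem' := ⟨1, by rw [map_one, one_smul]⟩
      mul_mem' := by
        rintro a b ⟨c, hc⟩ ⟨d, hd⟩
        exact ⟨c * d, by rw [map_mul, hc, hd, smul_mul_smul_comm, one_mul]⟩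
      inv_mem' := by
        rintro a ⟨c, hc⟩
        refine ⟨c⁻¹, ?_⟩
        rcases eq_or_ne c 0 with rfl | hc0
        · rw [zero_smul] at hc
          have h1 : (1 : Module.End K V) = 0 := by
            rw [← map_one ρ, ← mul_inv_cancel a, map_mul, hc, zero_mul]
          rw [inv_zero, zero_smul]
          exact LinearMap.ext fun x => by
            have := LinearMap.congr_fun h1 (ρ a⁻¹ x)
            simpa using this
        · refine LinearMap.ext fun x => ?_
          have h1 := apply_inv_self ρ a (c⁻¹ • x)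
          rw [hc, LinearMap.smul_apply, Module.End.one_apply, smul_smul, mul_inv_cancel₀ hc0, one_smul] at h1
          rw [h1]; simp }
  have hZn : Z.Normal := ⟨fun z ⟨c, hc⟩ g => ⟨c, by
    rw [map_mul, map_mul, hc, mul_smul_comm, mul_one, smul_mul_assoc, ← map_mul, mul_inv_cancel, map_one]⟩⟩
  have hZtop : Z ≠ ⊤ := by
    intro h
    refine hab fun a b => ?_
    obtain ⟨c, hc⟩ : a ∈ Z := h ▸ Subgroup.mem_top a
    rw [hc, smul_mul_assoc, one_mul, mul_smul_comm, mul_one]
  haveI : Nontrivial (P ⧸ Z) := QuotientGroup.nontrivial_iff.mpr hZtop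
  haveI := (hP.to_quotient Z).center_nontrivial
  obtain ⟨⟨ab, habc⟩, hab1⟩ := exists_ne (1 : Subgroup.center (P ⧸ Z))
  obtain ⟨a, rfl⟩ := QuotientGroup.mk'_surjective Z ab
  have haZ : a ∉ Z := fun h => hab1 (Subtype.ext ((QuotientGroup.eq_one_iff a).mpr h))
  -- conjugation multiplies `ρ a` by scalars
  have hζ : ∀ h : P, ∃ c : K, ρ h * ρ a = c • (ρ a * ρ h) := by
    intro h
    have e := Subgroup.mem_center_iff.mp habc (QuotientGroup.mk' Z h)
    rw [← map_mul, ← map_mul] at e
    obtain ⟨c, hc⟩ : (a * h)⁻¹ * (h * a) ∈ Z := QuotientGroup.eq.mp e.symm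
    refine ⟨c, ?_⟩
    rw [← map_mul, show h * a = a * h * ((a * h)⁻¹ * (h * a)) by group, map_mul, hc, mul_smul_comm, mul_one,
      map_mul]
  let N : Subgroup P :=
    { carrier := {h | ρ h * ρ a = ρ a * ρ h}
      one_mem' := by simp
      mul_mem' := fun {x y} hx hy => by
        show ρ (x * y) * ρ a = ρ a * ρ (x * y)
        rw [map_mul, mul_assoc, hy, ← mul_assoc, hx, mul_assoc]
      inv_mem' := fun {x} hx => by
        show ρ x⁻¹ * ρ a = ρ a * ρ x⁻¹
        have h := congrArg (fun T => ρ x⁻¹ * T * ρ x⁻¹) (show ρ x * ρ a = ρ a * ρ x from hx)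
        simp only [← mul_assoc] at h
        simp only [← map_mul, inv_mul_cancel, one_mul, mul_assoc, mul_inv_cancel, mul_one] at h
        rw [← map_mul, ← map_mul]; exact h.symm }
  have hN1 : derivedSeries P 1 ≤ N := by
    rw [derivedSeries_one, commutator_def]
    refine Subgroup.commutator_le.mpr fun x _ y _ => ?_
    obtain ⟨c, hc⟩ := hζ x
    obtain ⟨d, hd⟩ := hζ y
    show ρ ⁅x, y⁆ * ρ a = ρ a * ρ ⁅x, y⁆
    have hxy : ∀ u v : P, ∀ c d : K, ρ u * ρ a = c • (ρ a * ρ u) → ρ v * ρ a = d • (ρ a * ρ v) →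
        ρ (u * v) * ρ a = (c * d) • (ρ a * ρ (u * v)) := fun u v c d hu hv => by
      rw [map_mul, mul_assoc, hv, mul_smul_comm, ← mul_assoc, hu, smul_mul_assoc, smul_smul, mul_comm d c,
        mul_assoc]
    have h1 := hxy x y c d hc hd
    have h2 := hxy y x d c hd hc
    have e : x * y = ⁅x, y⁆ * (y * x) := by rw [commutatorElement_def]; group
    rw [e, map_mul, mul_assoc, h2, mul_smul_comm, mul_comm c d] at h1
    rcases eq_or_ne (d * c) 0 with h0 | h0
    · exfalso
      rw [h0, zero_smul] at h2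
      refine haZ ⟨0, ?_⟩
      rw [zero_smul, ← one_mul (ρ a), ← map_one ρ, ← inv_mul_cancel (y * x), map_mul, mul_assoc, h2, mul_zero]
    · have h3 := smul_right_injective (Module.End K V) h0 h1
      simp only [← mul_assoc] at h3
      have h4 := congrArg (fun T => T * ρ (y * x)⁻¹) h3
      simp only [mul_assoc, ← map_mul, mul_inv_cancel, mul_one] at h4
      rw [← map_mul, ← map_mul]
      exact h4
  -- eigenspaces of `ρ a`
  have hss : Module.End.IsSemisimple (ρ a) := by
    refine Module.End.isSemisimple_of_squarefree_aeval_eq_zero (p := Polynomial.X ^ orderOf a - 1)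
      ((Polynomial.X_pow_sub_one_separable_iff.mpr (hPK a)).squarefree) ?_
    rw [map_sub, map_pow, Polynomial.aeval_X, map_one, ← map_pow, pow_orderOf_eq_one, map_one, sub_self]
  have htop : ⨆ μ, Module.End.eigenspace (ρ a) μ = ⊤ := by
    rw [← Module.End.iSup_maxGenEigenspace_eq_top (ρ a)]
    congr 1
    ext1 μ
    rw [hss.isFinitelySemisimple.maxGenEigenspace_eq_eigenspace]
  obtain ⟨h₀, c₀, hc₀, hc₀1⟩ : ∃ h : P, ∃ c : K, ρ h * ρ a = c • (ρ a * ρ h) ∧ c ≠ 1 := by
    by_contra hall
    push Not at hall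
    have hcen : ∀ h, ρ h * ρ a = ρ a * ρ h := fun h => by
      obtain ⟨c, hc⟩ := hζ h
      rw [hall h c hc, one_smul] at hc; exact hc
    rcases subsingleton_or_nontrivial V with hV | hV
    · exact haZ ⟨1, LinearMap.ext fun x => Subsingleton.elim _ _⟩
    obtain ⟨μ, hμ⟩ := Module.End.exists_eigenvalue (ρ a)
    have hE := hred (Module.End.eigenspace (ρ a) μ) (fun h x hx => by
      rw [Module.End.mem_eigenspace_iff] at hx ⊢
      rw [← Module.End.mul_apply, ← hcen h, Module.End.mul_apply, hx, map_smul]) hμ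
    refine haZ ⟨μ, LinearMap.ext fun x => ?_⟩
    have hx : x ∈ Module.End.eigenspace (ρ a) μ := hE ▸ Submodule.mem_top
    simpa using Module.End.mem_eigenspace_iff.mp hx
  have hc00 : c₀ ≠ 0 := by
    intro h0
    rw [h0, zero_smul] at hc₀
    exact haZ ⟨0, by rw [zero_smul, ← one_mul (ρ a), ← map_one ρ, ← inv_mul_cancel h₀, map_mul, mul_assoc, hc₀, mul_zero]⟩
  have hdim : ∀ μ : K, 2 * finrank K (Module.End.eigenspace (ρ a) μ) ≤ n := by
    intro μ
    rcases eq_or_ne μ 0 with rfl | hμ0
    · have : Module.End.eigenspace (ρ a) (0 : K) = ⊥ := eq_bot_iff.mpr fun x hx => by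
        rw [Module.End.mem_eigenspace_iff, zero_smul] at hx
        rw [Submodule.mem_bot, ← apply_inv_self ρ a x, hx, map_zero]
      rw [this, finrank_bot]; omega
    have hmap : ∀ x ∈ Module.End.eigenspace (ρ a) μ, ρ h₀ x ∈ Module.End.eigenspace (ρ a) (c₀⁻¹ * μ) := fun x hx => by
      rw [Module.End.mem_eigenspace_iff] at hx ⊢
      have := LinearMap.congr_fun hc₀ x
      simp only [Module.End.mul_apply, LinearMap.smul_apply, hx, map_smul] at this
      rw [← smul_smul, this, smul_smul, inv_mul_cancel₀ hc00, one_smul]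
    have hinj : finrank K (Module.End.eigenspace (ρ a) μ) ≤ finrank K (Module.End.eigenspace (ρ a) (c₀⁻¹ * μ)) :=
      LinearMap.finrank_le_finrank_of_injective (f := (ρ h₀).restrict hmap) fun x y hxy => Subtype.ext (by
        have h := congrArg (fun t => ρ h₀⁻¹ (t : Module.End.eigenspace (ρ a) (c₀⁻¹ * μ)).1) hxy
        simpa [apply_inv_self] using h)
    have hne : μ ≠ c₀⁻¹ * μ := fun h => hc₀1 (inv_eq_one.mp (mul_right_cancel₀ hμ0 (h.symm.trans (one_mul μ).symm)))
    have hd : Disjoint (Module.End.eigenspace (ρ a) μ) (Module.End.eigenspace (ρ a) (c₀⁻¹ * μ)) :=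
      (Module.End.eigenspaces_iSupIndep (ρ a)).pairwiseDisjoint hne
    have h := Submodule.finrank_sup_add_finrank_inf_eq (Module.End.eigenspace (ρ a) μ) (Module.End.eigenspace (ρ a) (c₀⁻¹ * μ))
    rw [hd.eq_bot, finrank_bot, add_zero] at h
    have := Submodule.finrank_le (Module.End.eigenspace (ρ a) μ ⊔ Module.End.eigenspace (ρ a) (c₀⁻¹ * μ))
    omega
  obtain ⟨d, hd, rfl⟩ := derivedSeries_succ_le N hN1 m hg
  refine LinearMap.ext fun x => ?_
  have hx : x ∈ ⨆ μ, Module.End.eigenspace (ρ a) μ := htop ▸ Submodule.mem_top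
  induction hx using Submodule.iSup_induction' with
  | mem μ y hy =>
    have hinv : ∀ h : N, ∀ z ∈ Module.End.eigenspace (ρ a) μ, (ρ.comp N.subtype) h z ∈ Module.End.eigenspace (ρ a) μ := by
      intro h z hz
      rw [Module.End.mem_eigenspace_iff] at hz ⊢
      show ρ a (ρ h z) = μ • ρ h z
      rw [← Module.End.mul_apply, ← h.2, Module.End.mul_apply, hz, map_smul]
    rcases Nat.eq_zero_or_pos (finrank K (Module.End.eigenspace (ρ a) μ)) with h0 | hpos
    · rw [Submodule.finrank_eq_zero.mp h0, Submodule.mem_bot] at hy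
      rw [hy]; simp
    have h2 := hdim μ
    rcases m with _ | m
    · rw [zero_add, pow_one] at hm; omega
    have hlt : finrank K (Module.End.eigenspace (ρ a) μ) < n := by omega
    have hlt' : finrank K (Module.End.eigenspace (ρ a) μ) < 2 ^ (m + 1) := by rw [pow_succ] at hm; omega
    exact congrArg Subtype.val (LinearMap.congr_fun
      (ih _ hlt N (hP.to_subgroup N) _ (subRep (ρ.comp N.subtype) _ hinv) rfl m hlt' d hd) ⟨y, hy⟩)
  | zero => simp
  | add y z _ _ h1 h2 => rw [map_add, h1, h2, map_add]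

end CfsgLib.Frobenius.LinearPGroup
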