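import Mathlib
import Cfsg.Agent.Lib.Frobenius.CountSubgroups
import Cfsg.Agent.Lib.FrobRealize.Quaternion
import Cfsg.Agent.Lib.Fusion.ClassThree
import Cfsg.Agent.Lib.Solvable.SupersolvableCriteria

/-!
Miller: in a noncyclic `p`-group, `p` odd, the number of cyclic subgroups of order `p ^ s`, `1 < s`,
is divisible by `p`.
-/

set_option autoImplicit false

open Subgroup
open scoped commutatorElement

universe u

namespace CfsgLib.Frobenius.Miller

/-- The elements of order `d` are distributed evenly over the cyclic subgroups of order `d`. -/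
theorem card_orderOf_eq {W : Type*} [Group W] [Finite W] (d : ℕ) :
    Nat.card {g : W // orderOf g = d} =
      Nat.card {X : Subgroup W // IsCyclic X ∧ Nat.card X = d} * d.totient := by
  classical
  haveI := Fintype.ofFinite {X : Subgroup W // IsCyclic X ∧ Nat.card X = d}
  let f : {g : W // orderOf g = d} → {X : Subgroup W // IsCyclic X ∧ Nat.card X = d} :=
    fun g => ⟨zpowers g.1, inferInstance, by rw [Nat.card_zpowers, g.2]⟩
  rw [Nat.card_congr (Equiv.sigmaFiberEquiv f).symm, Nat.card_sigma]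
  have hfib : ∀ X, Nat.card {g : {g : W // orderOf g = d} // f g = X} = d.totient := by
    rintro ⟨X, hXc, hX⟩
    haveI := hXc
    haveI := Fintype.ofFinite X
    rw [← IsCyclic.card_orderOf_eq_totient (α := X) (d := d)
      (by rw [← Nat.card_eq_fintype_card, hX]), ← Fintype.card_subtype, ← Nat.card_eq_fintype_card]
    refine Nat.card_congr
      { toFun := fun g => ⟨⟨g.1.1, (congrArg Subtype.val g.2 : zpowers g.1.1 = X).le
          (mem_zpowers g.1.1)⟩, by rw [orderOf_mk]; exact g.1.2⟩
        invFun := fun g => ⟨⟨g.1, by rw [orderOf_coe]; exact g.2⟩, Subtype.ext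
          (eq_of_le_of_card_ge (zpowers_le.2 g.1.2) (by rw [hX, Nat.card_zpowers, orderOf_coe, g.2]))⟩
        left_inv := fun g => rfl
        right_inv := fun g => rfl }
  rw [Finset.sum_congr rfl fun X _ => hfib X, Finset.sum_const, smul_eq_mul, Finset.card_univ,
    ← Nat.card_eq_fintype_card]

variable {p : ℕ} [hp : Fact p.Prime]

theorem pow_sub_one_dvd {r : ℕ} {k : ℕ} (hodd : p ≠ 2) (hk : 1 ≤ k)
    (h : (p : ℤ) ^ k ∣ (r : ℤ) ^ p - 1) : (p : ℤ) ^ (k - 1) ∣ (r : ℤ) - 1 := by
  have hp' : Odd p := hp.out.odd_of_ne_two hodd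
  have hmod : (p : ℤ) ∣ (r : ℤ) - 1 := by
    rw [← ZMod.intCast_zmod_eq_zero_iff_dvd]
    have h1 : (((r : ℤ) ^ p - 1 : ℤ) : ZMod p) = 0 :=
      (ZMod.intCast_zmod_eq_zero_iff_dvd _ _).mpr ((dvd_pow_self _ (by omega)).trans h)
    push_cast at h1 ⊢
    rwa [ZMod.pow_card] at h1
  have hnd : ¬ (p : ℤ) ∣ (r : ℤ) := fun hd => by
    have := dvd_sub hd hmod
    rw [sub_sub_cancel] at this
    exact hp.out.ne_one (Nat.dvd_one.mp (by exact_mod_cast this))
  have he := Int.emultiplicity_pow_sub_pow hp.out hp' (x := (r : ℤ)) (y := 1) (by simpa using hmod) hnd p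
  rw [one_pow, hp.out.emultiplicity_self] at he
  have h2 := pow_dvd_iff_le_emultiplicity.mp h
  rw [he] at h2
  refine pow_dvd_iff_le_emultiplicity.mpr ?_
  rcases eq_or_ne (emultiplicity (p : ℤ) ((r : ℤ) - 1)) ⊤ with ht | ht
  · rw [ht]; exact le_top
  · obtain ⟨e, he'⟩ := ENat.ne_top_iff_exists.mp ht
    rw [← he'] at h2 ⊢
    norm_cast at h2 ⊢
    omega

variable {W : Type u} [Group W] [Finite W]

/-- A noncyclic group of order `p ^ (k+1)`, `p` odd, has `p` or no cyclic subgroups of index `p`. -/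
theorem card_cyclic_maximal (hodd : p ≠ 2) {k : ℕ} (hk : 2 ≤ k) (hW : Nat.card W = p ^ (k + 1))
    (hnc : ¬ IsCyclic W) (M : Subgroup W) (hMc : IsCyclic M) (hM : Nat.card M = p ^ k) :
    Nat.card {X : Subgroup W // IsCyclic X ∧ Nat.card X = p ^ k} = p := by
  classical
  have hWp : IsPGroup p W := IsPGroup.of_card hW
  obtain ⟨x, hx⟩ := (Subgroup.isCyclic_iff_exists_zpowers_eq_top M).mp hMc
  have hxo : orderOf x = p ^ k := by rw [← Nat.card_zpowers, hx, hM]
  -- an element of order `p` outside `M`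
  obtain ⟨y, hy, hyM⟩ : ∃ y : W, y ^ p = 1 ∧ y ∉ M := by
    by_contra h
    push Not at h
    haveI := Fintype.ofFinite M
    have hfew : Nat.card {x : W // x ^ p = 1} ≤ p := by
      calc Nat.card {x : W // x ^ p = 1} ≤ Nat.card {x : M // x ^ p = 1} :=
            Nat.card_le_card_of_injective (fun a => ⟨⟨a.1, h a.1 a.2⟩, Subtype.ext a.2⟩)
              fun a b hab => Subtype.ext (congrArg (fun c => ((c.1 : M) : W)) hab)
        _ ≤ p := by
            rw [Nat.card_eq_fintype_card, Fintype.card_subtype]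
            exact IsCyclic.card_pow_eq_one_le hp.out.pos
    rcases CfsgLib.FrobRealize.Quaternion.cyclic_or_quaternion hWp hfew with h' | ⟨h', -⟩
    exacts [hnc h', hodd h']
  have hidx : M.index = p := by
    have h := M.card_mul_index
    rw [hM, hW, pow_succ] at h
    exact Nat.eq_of_mul_eq_mul_left (pow_pos hp.out.pos k) h
  have hMn : M.Normal := Subgroup.normal_of_index_eq_minFac_card (by
    rw [hidx, hW, Nat.pow_minFac (Nat.succ_ne_zero k), hp.out.minFac_eq])
  obtain ⟨r, hr⟩ : ∃ r : ℕ, y * x * y⁻¹ = x ^ r := by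
    have : y * x * y⁻¹ ∈ zpowers x := by rw [hx]; exact hMn.conj_mem x (hx ▸ mem_zpowers x) y
    exact ((Submonoid.mem_powers_iff _ _).mp (mem_powers_iff_mem_zpowers.mpr this)).imp fun _ h => h.symm
  have hpow : ∀ j : ℕ, y ^ j * x * (y ^ j)⁻¹ = x ^ (r ^ j) := by
    intro j
    induction j with
    | zero => simp
    | succ j ih =>
      rw [pow_succ' y j, pow_succ r j, pow_mul']
      calc y * y ^ j * x * (y * y ^ j)⁻¹ = y * (y ^ j * x * (y ^ j)⁻¹) * y⁻¹ := by group
        _ = y * x ^ (r ^ j) * y⁻¹ := by rw [ih]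
        _ = (y * x * y⁻¹) ^ (r ^ j) := by rw [conj_pow]
        _ = (x ^ r) ^ (r ^ j) := by rw [hr]
  have hdiv : (p : ℤ) ^ k ∣ (r : ℤ) ^ p - 1 := by
    have h1 := hpow p
    rw [hy, one_mul, inv_one, mul_one] at h1
    have h2 : r ^ p ≡ 1 [MOD p ^ k] := by
      rw [← hxo, ← pow_eq_pow_iff_modEq, pow_one]; exact h1.symm
    have h3 := Nat.modEq_iff_dvd.mp h2.symm
    push_cast at h3
    exact h3
  obtain ⟨t, ht⟩ := pow_sub_one_dvd hodd (by omega) hdiv
  set z := x ^ (p ^ (k - 1)) with hz
  have hzo : orderOf z = p := by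
    rw [hz, orderOf_pow' _ (pow_ne_zero _ hp.out.ne_zero), hxo,
      Nat.gcd_eq_right (pow_dvd_pow p (Nat.sub_le k 1)), Nat.pow_div (Nat.sub_le k 1) hp.out.pos,
      Nat.sub_sub_self (by omega), pow_one]
  have hxy : y * x * y⁻¹ * x⁻¹ = z ^ t := by
    rw [hr, hz, ← zpow_natCast x r, ← zpow_natCast x (p ^ (k - 1)), ← zpow_mul, ← zpow_neg_one,
      ← zpow_add]
    congr 1
  have hgen : ∀ H : Subgroup W, x ∈ H → y ∈ H → H = ⊤ := by
    intro H hxH hyH
    have hle : M ≤ H := by rw [← hx]; exact zpowers_le.mpr hxH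
    by_contra hne
    have h1 := Subgroup.index_dvd_of_le hle
    rw [hidx] at h1
    rcases (Nat.dvd_prime hp.out).mp h1 with h2 | h2
    · exact hne (Subgroup.index_eq_one.mp h2)
    · have : M = H := eq_of_le_of_card_ge hle (by
        have a := M.card_mul_index; have b := H.card_mul_index
        rw [hidx] at a; rw [h2, ← a] at b
        exact le_of_eq (Nat.eq_of_mul_eq_mul_right hp.out.pos b))
      exact hyM (this ▸ hyH)
  have hzx : Commute x z := (Commute.refl x).pow_right _
  have hzy : Commute y z := by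
    have h1 : y * z * y⁻¹ = z := by
      rw [hz, ← conj_pow, hr, ← pow_mul]
      conv_rhs => rw [← one_mul (p ^ (k - 1))]
      rw [pow_eq_pow_iff_modEq, hxo]
      refine Nat.ModEq.symm ?_
      rw [Nat.modEq_iff_dvd]
      push_cast
      rw [one_mul, show (r : ℤ) * (p : ℤ) ^ (k - 1) - (p : ℤ) ^ (k - 1) =
        ((r : ℤ) - 1) * (p : ℤ) ^ (k - 1) by ring, ht, mul_right_comm, ← pow_add]
      exact dvd_mul_of_dvd_left (pow_dvd_pow _ (by omega)) _
    exact (mul_inv_eq_iff_eq_mul.mp h1)
  have hzc : z ∈ Subgroup.center W := by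
    have htop := hgen _ (mem_centralizer_singleton_iff.mpr hzx.eq)
      (mem_centralizer_singleton_iff.mpr hzy.eq)
    exact Subgroup.mem_center_iff.mpr fun g =>
      mem_centralizer_singleton_iff.mp (htop.symm ▸ mem_top g : g ∈ centralizer {z})
  set Z := zpowers z
  have hZc : Z ≤ Subgroup.center W := zpowers_le.mpr hzc
  haveI hZn : Z.Normal := ⟨fun a ha g => by
    rwa [Subgroup.mem_center_iff.mp (hZc ha) g, mul_inv_cancel_right]⟩
  have hcomm : ∀ g h : W, ⁅g, h⁆ ∈ Z := by
    have hq : Commute (QuotientGroup.mk' Z x) (QuotientGroup.mk' Z y) := by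
      have h1 : QuotientGroup.mk' Z (y * x * y⁻¹ * x⁻¹) = 1 :=
        (QuotientGroup.eq_one_iff _).mpr (hxy ▸ zpow_mem (mem_zpowers z) t)
      simp only [map_mul, map_inv] at h1
      exact (mul_inv_eq_iff_eq_mul.mp (mul_inv_eq_one.mp h1)).symm
    intro g h
    have key : ∀ a : W ⧸ Z, Commute a (QuotientGroup.mk' Z x) →
        Commute a (QuotientGroup.mk' Z y) → ∀ g : W, Commute a (QuotientGroup.mk' Z g) := by
      intro a hax hay g
      have := hgen ((centralizer {a}).comap (QuotientGroup.mk' Z))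
        (mem_centralizer_singleton_iff.mpr hax.symm.eq) (mem_centralizer_singleton_iff.mpr hay.symm.eq)
      exact (mem_centralizer_singleton_iff.mp (this.symm ▸ mem_top g :
        g ∈ (centralizer {a}).comap (QuotientGroup.mk' Z))).symm
    have hc := key (QuotientGroup.mk' Z g)
      ((key _ (Commute.refl _) hq g).symm) ((key _ hq.symm (Commute.refl _) g).symm) h
    refine (QuotientGroup.eq_one_iff _).mp ?_
    show QuotientGroup.mk' Z ⁅g, h⁆ = 1
    rw [map_commutatorElement, commutatorElement_eq_one_iff_mul_comm]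
    exact hc.eq
  have hsc : CfsgLib.Fusion.ClassThree.SmallClass p W := CfsgLib.Fusion.ClassThree.SmallClass.of_hyp
    (Or.inl ⟨hodd, Subgroup.commutator_eq_bot_iff_le_centralizer.mpr fun a ha => by
      have ha' : a ∈ Subgroup.center W := hZc ((Subgroup.commutator_le.mpr fun g _ h _ => hcomm g h) ha)
      exact Subgroup.mem_centralizer_iff.mpr fun g _ => Subgroup.mem_center_iff.mp ha' g⟩)
  have hcp : ∀ u v : W, ⁅u, v⁆ ^ p = 1 := fun u v => by
    obtain ⟨i, hi⟩ := mem_zpowers_iff.mp (hcomm u v)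
    rw [← hi, ← zpow_natCast, ← zpow_mul, mul_comm, zpow_mul, zpow_natCast,
      ← hzo, pow_orderOf_eq_one, one_zpow]
  have hmulpow : ∀ (j : ℕ) (a b : W), (a * b) ^ p ^ j = a ^ p ^ j * b ^ p ^ j := by
    intro j
    induction j with
    | zero => simp
    | succ j ih =>
      intro a b
      rw [pow_succ, pow_mul, ih, CfsgLib.Fusion.ClassThree.pow_mul hsc _ _ hcp, ← pow_mul, ← pow_mul]
  let f : W →* W := MonoidHom.mk' (fun g => g ^ p ^ (k - 1)) (hmulpow (k - 1))
  have hrange : f.range = Z := by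
    refine le_antisymm ?_ (zpowers_le.mpr ⟨x, rfl⟩)
    have : Z.comap f = ⊤ := hgen _ (mem_zpowers z) (by
      show y ^ p ^ (k - 1) ∈ Z
      rw [show k - 1 = (k - 2) + 1 by omega, pow_succ', pow_mul, hy, one_pow]
      exact one_mem _)
    rintro _ ⟨g, rfl⟩
    exact (this.symm ▸ mem_top g : g ∈ Z.comap f)
  have hker : Nat.card f.ker = p ^ k := by
    have h := f.ker.card_mul_index
    rw [Subgroup.index_ker, hrange, Nat.card_zpowers, hzo, hW, pow_succ] at h
    exact Nat.eq_of_mul_eq_mul_right hp.out.pos h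
  have hexp : ∀ g : W, g ^ p ^ k = 1 := by
    intro g
    have h1 : f g ∈ Z := hrange ▸ ⟨g, rfl⟩
    obtain ⟨i, hi⟩ := mem_zpowers_iff.mp h1
    have h2 : g ^ p ^ (k - 1) = z ^ i := hi.symm
    rw [show k = k - 1 + 1 by omega, pow_succ, pow_mul, h2, ← zpow_natCast, ← zpow_mul, mul_comm,
      zpow_mul, zpow_natCast, ← hzo, pow_orderOf_eq_one, one_zpow]
  haveI := Fintype.ofFinite W
  have hcount : Nat.card {g : W // orderOf g = p ^ k} + Nat.card f.ker = Nat.card W := by
    have he : ∀ g : W, orderOf g = p ^ k ↔ g ∉ f.ker := by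
      intro g
      rw [MonoidHom.mem_ker]
      show orderOf g = p ^ k ↔ ¬ g ^ p ^ (k - 1) = 1
      constructor
      · intro h h1
        have := Nat.le_of_dvd (pow_pos hp.out.pos _) (h ▸ orderOf_dvd_of_pow_eq_one h1)
        exact absurd this (not_le.mpr (Nat.pow_lt_pow_right hp.out.one_lt (by omega)))
      · intro h
        obtain ⟨j, hj, hj'⟩ := (Nat.dvd_prime_pow hp.out).mp (orderOf_dvd_of_pow_eq_one (hexp g))
        rcases lt_or_eq_of_le hj with h' | h'
        · exact absurd (orderOf_dvd_iff_pow_eq_one.mp (hj' ▸ pow_dvd_pow p (by omega : j ≤ k - 1))) h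
        · rw [hj', h']
    rw [Nat.card_congr (Equiv.subtypeEquivRight he), add_comm,
      ← Nat.card_sum, Nat.card_congr (Equiv.sumCompl (· ∈ f.ker))]
  rw [card_orderOf_eq, hker, hW, Nat.totient_prime_pow hp.out (by omega)] at hcount
  have h1 : p ^ (k + 1) = p * (p ^ (k - 1) * (p - 1)) + p ^ k := by
    have e1 : p ^ k = p ^ (k - 1) * p := by rw [← pow_succ]; congr 1; omega
    rw [pow_succ, e1]
    obtain ⟨q, hq⟩ : ∃ q, p = q + 1 := ⟨p - 1, by have := hp.out.one_le; omega⟩
    rw [hq]; simp only [Nat.add_sub_cancel]; ring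
  rw [h1] at hcount
  exact Nat.eq_of_mul_eq_mul_right (Nat.mul_pos (pow_pos hp.out.pos _)
    (Nat.sub_pos_of_lt hp.out.one_lt)) (Nat.add_right_cancel hcount)

/-- Miller's theorem. -/
theorem dvd_card_cyclic (hodd : p ≠ 2) {s : ℕ} (hs : 1 < s) :
    ∀ (n : ℕ) (W : Type u) [Group W] [Finite W], Nat.card W = p ^ n → ¬ IsCyclic W →
      p ∣ Nat.card {X : Subgroup W // IsCyclic X ∧ Nat.card X = p ^ s} := by
  classical
  intro n
  induction n using Nat.strong_induction_on with
  | _ n ih =>
  intro W _ _ hW hnc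
  have hWp : IsPGroup p W := IsPGroup.of_card hW
  by_cases hsn : n ≤ s
  · have : IsEmpty {X : Subgroup W // IsCyclic X ∧ Nat.card X = p ^ s} := ⟨fun ⟨X, hXc, hX⟩ => by
      have h1 : Nat.card X ≤ Nat.card W := Nat.le_of_dvd Nat.card_pos X.card_subgroup_dvd_card
      have h2 : X = ⊤ := eq_top_of_card_eq X (le_antisymm h1 (by
        rw [hX, hW]; exact Nat.pow_le_pow_right hp.out.pos hsn))
      subst h2
      exact hnc (isCyclic_of_surjective (⊤ : Subgroup W).subtype fun w => ⟨⟨w, mem_top w⟩, rfl⟩)⟩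
    simp
  push Not at hsn
  obtain ⟨k, rfl⟩ : ∃ k, n = k + 1 := ⟨n - 1, by omega⟩
  let A := {X : Subgroup W // IsCyclic X ∧ Nat.card X = p ^ s}
  let B := {M : Subgroup W // Nat.card M = p ^ k}
  have : Fintype A := Fintype.ofFinite _
  have : Fintype B := Fintype.ofFinite _
  have hA : ∀ X : A, Nat.card {M : B // X.1 ≤ M.1} ≡ 1 [MOD p] := by
    intro X
    set U := X.1 ⊔ frattini W with hU
    haveI := hWp.isNilpotent
    have hUn : U.Normal := by
      refine ⟨fun a ha g => ?_⟩
      have h1 : ⁅g, a⁆ ∈ U := le_sup_right (a := X.1)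
        (CfsgLib.Solvable.FrattiniFitting.commutator_le_frattini
          (Subgroup.commutator_mem_commutator (mem_top g) (mem_top a)))
      have : g * a * g⁻¹ = ⁅g, a⁆ * a := by rw [commutatorElement_def]; group
      rw [this]
      exact mul_mem h1 ha
    have hUtop : U ≠ ⊤ := fun h => by
      have h2 : X.1 = ⊤ := frattini_nongenerating h
      have h3 := X.2.2
      rw [h2, card_top, hW] at h3
      exact absurd (Nat.pow_right_injective hp.out.two_le h3) (by omega)
    obtain ⟨j, hj⟩ := IsPGroup.iff_card.mp (hWp.to_quotient U)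
    have hj0 : j ≠ 0 := fun h0 => hUtop (index_eq_one.mp (by rw [Subgroup.index, hj, h0, pow_zero]))
    refine Nat.ModEq.trans (congrArg (· % p) ?_)
      (CountSubgroups.card_subgroup (G := W ⧸ U) (b := j - 1) (by rw [hj]; exact pow_dvd_pow p (Nat.sub_le j 1)))
    have hcard : ∀ K : Subgroup (W ⧸ U), Nat.card K = p ^ (j - 1) ↔
        Nat.card (K.comap (QuotientGroup.mk' U)) = p ^ k := by
      intro K
      have h1 := (K.comap (QuotientGroup.mk' U)).card_mul_index
      rw [index_comap_of_surjective _ (QuotientGroup.mk'_surjective U), hW] at h1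
      have h2 := K.card_mul_index
      rw [hj] at h2
      constructor
      · intro h
        rw [h, show j = j - 1 + 1 by omega, pow_succ] at h2
        rw [show j - 1 + 1 - 1 = j - 1 by omega] at h2
        rw [Nat.eq_of_mul_eq_mul_left (pow_pos hp.out.pos _) h2, pow_succ] at h1
        exact Nat.eq_of_mul_eq_mul_right hp.out.pos h1
      · intro h
        rw [h, pow_succ] at h1
        rw [Nat.eq_of_mul_eq_mul_left (pow_pos hp.out.pos _) h1, show j = j - 1 + 1 by omega,
          pow_succ] at h2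
        exact Nat.eq_of_mul_eq_mul_right hp.out.pos h2
    have hmem : ∀ M : B, X.1 ≤ M.1 → U ≤ M.1 := by
      intro M hXM
      refine sup_le hXM (frattini_le_coatom ?_)
      refine ⟨fun h => ?_, fun H hlt => ?_⟩
      · have h3 := M.2
        rw [h, card_top, hW] at h3
        exact absurd (Nat.pow_right_injective hp.out.two_le h3) (by omega)
      · obtain ⟨i, hi⟩ := IsPGroup.iff_card.mp (hWp.to_subgroup H)
        have h4 : Nat.card M.1 < Nat.card H := by
          refine lt_of_le_of_ne (card_le_of_le hlt.le) fun he => hlt.ne (eq_of_le_of_card_ge hlt.le he.ge)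
        rw [M.2, hi] at h4
        have h5 := (Nat.pow_lt_pow_iff_right hp.out.one_lt).mp h4
        refine eq_top_of_card_eq H (le_antisymm (Nat.le_of_dvd Nat.card_pos H.card_subgroup_dvd_card) ?_)
        rw [hi, hW]
        exact Nat.pow_le_pow_right hp.out.pos (by omega)
    refine Nat.card_congr
      { toFun := fun M => ⟨M.1.1.map (QuotientGroup.mk' U), (hcard _).mpr (by
          rw [comap_map_eq_self (by rw [QuotientGroup.ker_mk']; exact hmem _ M.2)]; exact M.1.2)⟩
        invFun := fun K => ⟨⟨K.1.comap (QuotientGroup.mk' U), (hcard _).mp K.2⟩,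
          le_sup_left.trans (QuotientGroup.le_comap_mk' U K.1)⟩
        left_inv := fun M => Subtype.ext (Subtype.ext (comap_map_eq_self
          (by rw [QuotientGroup.ker_mk']; exact hmem _ M.2)))
        right_inv := fun K => Subtype.ext (map_comap_eq_self_of_surjective
          (QuotientGroup.mk'_surjective U) K.1) }
  have hB : ∀ M : B, Nat.card {X : A // X.1 ≤ M.1} ≡ (if IsCyclic M.1 then 1 else 0) [MOD p] := by
    intro M
    have he : Nat.card {X : A // X.1 ≤ M.1} =
        Nat.card {X : Subgroup M.1 // IsCyclic X ∧ Nat.card X = p ^ s} := Nat.card_congr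
      { toFun := fun X => ⟨X.1.1.subgroupOf M.1, by
          haveI := X.1.2.1
          exact isCyclic_of_surjective _ (subgroupOfEquivOfLe X.2).symm.surjective, by
          rw [Nat.card_congr (subgroupOfEquivOfLe X.2).toEquiv, X.1.2.2]⟩
        invFun := fun X => ⟨⟨X.1.map M.1.subtype, by
          haveI := X.2.1
          exact isCyclic_of_surjective _ (equivMapOfInjective X.1 M.1.subtype M.1.subtype_injective).surjective,
          by rw [card_map_of_injective M.1.subtype_injective, X.2.2]⟩, map_subtype_le _⟩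
        left_inv := fun X => Subtype.ext (Subtype.ext (by
          simp only [subgroupOf_map_subtype]; exact inf_eq_left.2 X.2))
        right_inv := fun X => Subtype.ext (comap_map_eq_self_of_injective M.1.subtype_injective _) }
    rw [he]
    split_ifs with hc
    · refine congrArg (· % p) (Nat.card_eq_one_iff_unique.mpr ⟨⟨fun X Y => Subtype.ext ?_⟩, ?_⟩)
      · haveI : IsCyclic (⊤ : Subgroup M.1) := isCyclic_of_surjective _ topEquiv.symm.surjective
        exact CfsgLib.Solvable.SupersolvableCriteria.eq_of_card_eq_of_le_cyclic (A := ⊤)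
          le_top le_top (X.2.2.trans Y.2.2.symm)
      · obtain ⟨X, hX⟩ := Sylow.exists_subgroup_card_pow_prime p (G := M.1) (n := s)
          (by rw [M.2]; exact pow_dvd_pow p (by omega))
        exact ⟨⟨X, inferInstance, hX⟩⟩
    · exact (Nat.modEq_zero_iff_dvd).mpr (ih k (by omega) M.1 M.2 hc)
  have hdc : ∑ M : B, Nat.card {X : A // X.1 ≤ M.1} = ∑ X : A, Nat.card {M : B // X.1 ≤ M.1} := by
    simp only [Nat.card_eq_fintype_card, Fintype.card_subtype, Finset.card_filter]
    exact Finset.sum_comm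
  have h1 : ∑ X : A, Nat.card {M : B // X.1 ≤ M.1} ≡ ∑ _X : A, 1 [MOD p] :=
    Nat.ModEq.sum fun X _ => hA X
  have h2 : ∑ M : B, Nat.card {X : A // X.1 ≤ M.1} ≡ ∑ M : B, (if IsCyclic M.1 then 1 else 0) [MOD p] :=
    Nat.ModEq.sum fun M _ => hB M
  have h3 : p ∣ ∑ M : B, (if IsCyclic M.1 then 1 else 0) := by
    rw [← Finset.card_filter, ← Fintype.card_subtype, ← Nat.card_eq_fintype_card]
    by_cases hex : Nonempty {M : B // IsCyclic M.1}
    · obtain ⟨⟨⟨M, hM⟩, hMc⟩⟩ := hex
      have e : Nat.card {M : B // IsCyclic M.1} =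
          Nat.card {X : Subgroup W // IsCyclic X ∧ Nat.card X = p ^ k} := Nat.card_congr
        { toFun := fun M => ⟨M.1.1, M.2, M.1.2⟩
          invFun := fun X => ⟨⟨X.1, X.2.2⟩, X.2.1⟩
          left_inv := fun _ => rfl
          right_inv := fun _ => rfl }
      rw [e, card_cyclic_maximal hodd (by omega) hW hnc M hMc hM]
    · haveI := not_nonempty_iff.mp hex
      simp
  simp only [Finset.sum_const, smul_eq_mul, mul_one, Finset.card_univ,
    ← Nat.card_eq_fintype_card] at h1
  exact Nat.modEq_zero_iff_dvd.mp (h1.symm.trans (hdc ▸ h2.trans (Nat.modEq_zero_iff_dvd.mpr h3)))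

/-- For a noncyclic Sylow `p`-subgroup, `p` odd: the pairs of an element of order `m` and a cyclic
subgroup of order `p ^ s` centralised by it have number divisible by `p`. -/
theorem dvd_card_pairs {G : Type u} [Group G] [Finite G] (hodd : p ≠ 2) (P : Sylow p G)
    (hP : ¬ IsCyclic (P : Subgroup G)) {s : ℕ} (hs : 1 < s) (m : ℕ) :
    p ∣ Nat.card {T : Subgroup G × G //
      (IsCyclic T.1 ∧ Nat.card T.1 = p ^ s) ∧ orderOf T.2 = m ∧ T.2 ∈ centralizer (T.1 : Set G)} := by
  classical
  let X := {T : Subgroup G × G //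
      (IsCyclic T.1 ∧ Nat.card T.1 = p ^ s) ∧ orderOf T.2 = m ∧ T.2 ∈ centralizer (T.1 : Set G)}
  have hok : ∀ (g : G) (T : X), (IsCyclic (T.1.1.map (MulAut.conj g).toMonoidHom) ∧
      Nat.card (T.1.1.map (MulAut.conj g).toMonoidHom) = p ^ s) ∧
      orderOf (MulAut.conj g T.1.2) = m ∧
      MulAut.conj g T.1.2 ∈ centralizer ((T.1.1.map (MulAut.conj g).toMonoidHom : Subgroup G) : Set G) := by
    rintro g ⟨⟨H, y⟩, ⟨hc, hcard⟩, ho, hcy⟩
    haveI := hc
    refine ⟨⟨isCyclic_of_surjective _ (equivMapOfInjective H _ (MulAut.conj g).injective).surjective,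
      by rw [card_map_of_injective (MulAut.conj g).injective]; exact hcard⟩,
      by rw [MulEquiv.orderOf_eq]; exact ho, ?_⟩
    rw [mem_centralizer_iff]
    rintro _ ⟨h, hh, rfl⟩
    show MulAut.conj g h * MulAut.conj g y = MulAut.conj g y * MulAut.conj g h
    rw [← map_mul, ← map_mul, mem_centralizer_iff.mp hcy h hh]
  let act : MulAction (P : Subgroup G) X :=
    { smul := fun g T => ⟨(T.1.1.map (MulAut.conj (g : G)).toMonoidHom, MulAut.conj (g : G) T.1.2), hok g T⟩
      one_smul := fun T => Subtype.ext (Prod.ext (by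
        show T.1.1.map (MulAut.conj ((1 : (P : Subgroup G)) : G)).toMonoidHom = T.1.1
        rw [Subgroup.coe_one, map_one]; exact Subgroup.map_id _) (by
        show MulAut.conj ((1 : (P : Subgroup G)) : G) T.1.2 = T.1.2
        simp))
      mul_smul := fun g h T => Subtype.ext (Prod.ext (by
        show T.1.1.map (MulAut.conj ((g * h : (P : Subgroup G)) : G)).toMonoidHom =
          (T.1.1.map (MulAut.conj (h : G)).toMonoidHom).map (MulAut.conj (g : G)).toMonoidHom
        rw [Subgroup.map_map, Subgroup.coe_mul, map_mul]; rfl) (by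
        show MulAut.conj ((g * h : (P : Subgroup G)) : G) T.1.2 = MulAut.conj (g : G) (MulAut.conj (h : G) T.1.2)
        rw [Subgroup.coe_mul, map_mul]; rfl)) }
  refine Nat.modEq_zero_iff_dvd.mp ((P.isPGroup'.card_modEq_card_fixedPoints X).trans ?_)
  have hnrm : ∀ T : X, T ∈ MulAction.fixedPoints (P : Subgroup G) X →
      (P : Subgroup G) ≤ normalizer (T.1.1 : Set G) := fun T hT g hg =>
    mem_normalizer_iff_map_conj_eq.2 (congrArg (fun T : X => T.1.1) (hT ⟨g, hg⟩))
  have hle : ∀ T : X, T ∈ MulAction.fixedPoints (P : Subgroup G) X → T.1.1 ≤ (P : Subgroup G) := by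
    intro T hT
    exact (P.is_maximal' ((IsPGroup.iff_card.2 ⟨s, T.2.1.2⟩).to_sup_of_normal_left' P.isPGroup'
      (hnrm T hT)) le_sup_right) ▸ le_sup_left
  have hcent : ∀ T : X, T ∈ MulAction.fixedPoints (P : Subgroup G) X →
      T.1.2 ∈ centralizer ((P : Subgroup G) : Set G) := fun T hT => mem_centralizer_iff.mpr fun g hg => by
    have : g * T.1.2 * g⁻¹ = T.1.2 := congrArg (fun T : X => T.1.2) (hT ⟨g, hg⟩)
    exact mul_inv_eq_iff_eq_mul.mp this
  have e : Nat.card (MulAction.fixedPoints (P : Subgroup G) X) =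
      Nat.card {K : Subgroup (P : Subgroup G) // K.Normal ∧ IsCyclic K ∧ Nat.card K = p ^ s} *
        Nat.card {y : G // orderOf y = m ∧ y ∈ centralizer ((P : Subgroup G) : Set G)} := by
    rw [← Nat.card_prod]
    refine Nat.card_congr
      { toFun := fun T => (⟨T.1.1.1.subgroupOf (P : Subgroup G),
          (normal_subgroupOf_iff_le_normalizer (hle _ T.2)).2 (hnrm _ T.2), by
          haveI := T.1.2.1.1
          exact isCyclic_of_surjective _ (subgroupOfEquivOfLe (hle _ T.2)).symm.surjective, by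
          rw [Nat.card_congr (subgroupOfEquivOfLe (hle _ T.2)).toEquiv]; exact T.1.2.1.2⟩,
          ⟨T.1.1.2, T.1.2.2.1, hcent _ T.2⟩)
        invFun := fun K => ⟨⟨(K.1.1.map (P : Subgroup G).subtype, K.2.1), ⟨by
            haveI := K.1.2.2.1
            exact isCyclic_of_surjective _
              (equivMapOfInjective K.1.1 _ (P : Subgroup G).subtype_injective).surjective,
            by rw [card_map_of_injective (P : Subgroup G).subtype_injective]; exact K.1.2.2.2⟩,
            K.2.2.1, centralizer_le (map_subtype_le _) K.2.2.2⟩,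
          fun g => Subtype.ext (Prod.ext (by
            show (K.1.1.map (P : Subgroup G).subtype).map (MulAut.conj (g : G)).toMonoidHom = _
            rw [map_map, show (MulAut.conj (g : G)).toMonoidHom.comp (P : Subgroup G).subtype =
              (P : Subgroup G).subtype.comp (MulAut.conj g).toMonoidHom from rfl, ← map_map]
            haveI := K.1.2.1
            rw [show K.1.1.map (MulAut.conj g).toMonoidHom = K.1.1 from mem_normalizer_iff_map_conj_eq.1
              (by rw [normalizer_eq_top_iff.2 K.1.2.1]; exact mem_top g)]) (by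
            show (g : G) * K.2.1 * (g : G)⁻¹ = K.2.1
            rw [mem_centralizer_iff.mp K.2.2.2 g g.2, mul_inv_cancel_right]))⟩
        left_inv := fun T => Subtype.ext (Subtype.ext (Prod.ext (by
          simp only [subgroupOf_map_subtype]; exact inf_eq_left.2 (hle _ T.2)) rfl))
        right_inv := fun K => Prod.ext (Subtype.ext (comap_map_eq_self_of_injective
          (P : Subgroup G).subtype_injective K.1.1)) rfl }
  rw [Nat.modEq_zero_iff_dvd, e]
  refine dvd_mul_of_dvd_left ?_ _
  -- all cyclic subgroups and the normal ones are congruent in number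
  let Y := {K : Subgroup (P : Subgroup G) // IsCyclic K ∧ Nat.card K = p ^ s}
  let act' : MulAction (P : Subgroup G) Y :=
    { smul := fun g K => ⟨K.1.map (MulAut.conj g).toMonoidHom, by
        haveI := K.2.1
        exact isCyclic_of_surjective _ (equivMapOfInjective K.1 _ (MulAut.conj g).injective).surjective,
        by rw [card_map_of_injective (MulAut.conj g).injective]; exact K.2.2⟩
      one_smul := fun K => Subtype.ext (by
        show K.1.map (MulAut.conj (1 : (P : Subgroup G))).toMonoidHom = K.1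
        rw [map_one]; exact Subgroup.map_id _)
      mul_smul := fun g h K => Subtype.ext (by
        show K.1.map (MulAut.conj (g * h)).toMonoidHom =
          (K.1.map (MulAut.conj h).toMonoidHom).map (MulAut.conj g).toMonoidHom
        rw [map_map, map_mul]; rfl) }
  have hY := dvd_card_cyclic hodd hs _ (P : Subgroup G) P.card_eq_multiplicity hP
  have hfix := P.isPGroup'.card_modEq_card_fixedPoints Y
  have e2 : Nat.card (MulAction.fixedPoints (P : Subgroup G) Y) =
      Nat.card {K : Subgroup (P : Subgroup G) // K.Normal ∧ IsCyclic K ∧ Nat.card K = p ^ s} :=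
    Nat.card_congr
      { toFun := fun K => ⟨K.1.1, normalizer_eq_top_iff.1 (eq_top_iff.2 fun g _ =>
          mem_normalizer_iff_map_conj_eq.2 (congrArg Subtype.val (K.2 g))), K.1.2⟩
        invFun := fun K => ⟨⟨K.1, K.2.2⟩, fun g => Subtype.ext (mem_normalizer_iff_map_conj_eq.1
          (by rw [normalizer_eq_top_iff.2 K.2.1]; exact mem_top g))⟩
        left_inv := fun _ => rfl
        right_inv := fun _ => rfl }
  rw [← e2]
  exact Nat.modEq_zero_iff_dvd.mp (hfix.symm.trans (Nat.modEq_zero_iff_dvd.mpr hY))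

/-- Splitting an element of order `a * b`, `a` and `b` coprime. -/
theorem card_orderOf_mul {G : Type*} [Group G] [Finite G] {a b : ℕ} (hab : a.Coprime b)
    (ha : 0 < a) (hb : 0 < b) :
    Nat.card {g : G // orderOf g = a * b} =
      Nat.card {T : G × G // (orderOf T.1 = a ∧ orderOf T.2 = b) ∧ Commute T.1 T.2} := by
  obtain ⟨e, he1, he2⟩ := Nat.chineseRemainder hab 1 0
  obtain ⟨f, hf1, hf2⟩ := Nat.chineseRemainder hab 0 1
  have hef : ∀ g : G, orderOf g = a * b → g ^ e * g ^ f = g := fun g hg => by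
    rw [← pow_add]
    conv_rhs => rw [← pow_one g]
    rw [pow_eq_pow_iff_modEq, hg]
    exact (Nat.modEq_and_modEq_iff_modEq_mul hab).mp ⟨by simpa using he1.add hf1, by simpa using he2.add hf2⟩
  have hea : a ∣ f := Nat.modEq_zero_iff_dvd.mp hf1
  have heb : b ∣ e := Nat.modEq_zero_iff_dvd.mp he2
  have hord : ∀ g : G, orderOf g = a * b → orderOf (g ^ e) = a ∧ orderOf (g ^ f) = b := by
    intro g hg
    have h1 : orderOf (g ^ e) ∣ a := orderOf_dvd_of_pow_eq_one (by
      rw [← pow_mul]; exact orderOf_dvd_iff_pow_eq_one.mp (hg ▸ by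
        rw [mul_comm a b]; exact mul_dvd_mul_right heb a))
    have h2 : orderOf (g ^ f) ∣ b := orderOf_dvd_of_pow_eq_one (by
      rw [← pow_mul]; exact orderOf_dvd_iff_pow_eq_one.mp (hg ▸ mul_dvd_mul_right hea b))
    have h4 := (Commute.pow_pow_self g e f).orderOf_mul_eq_mul_orderOf_of_coprime
        ((hab.coprime_dvd_left h1).coprime_dvd_right h2)
    rw [hef g hg, hg] at h4
    have l1 := Nat.le_of_dvd ha h1
    have l2 := Nat.le_of_dvd hb h2
    constructor <;> nlinarith
  refine Nat.card_congr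
    { toFun := fun g => ⟨(g.1 ^ e, g.1 ^ f), hord _ g.2, Commute.pow_pow_self g.1 e f⟩
      invFun := fun T => ⟨T.1.1 * T.1.2, by
        rw [T.2.2.orderOf_mul_eq_mul_orderOf_of_coprime (by rw [T.2.1.1, T.2.1.2]; exact hab),
          T.2.1.1, T.2.1.2]⟩
      left_inv := fun g => Subtype.ext (hef _ g.2)
      right_inv := ?_ }
  rintro ⟨⟨x, y⟩, ⟨hx, hy⟩, hc⟩
  dsimp only at hx hy hc
  refine Subtype.ext (Prod.ext ?_ ?_)
  · show (x * y) ^ e = x
    rw [hc.mul_pow, orderOf_dvd_iff_pow_eq_one.mp (show orderOf y ∣ e by rw [hy]; exact heb), mul_one]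
    conv_rhs => rw [← pow_one x]
    rw [pow_eq_pow_iff_modEq, hx]; exact he1
  · show (x * y) ^ f = y
    rw [hc.mul_pow, orderOf_dvd_iff_pow_eq_one.mp (show orderOf x ∣ f by rw [hx]; exact hea), one_mul]
    conv_rhs => rw [← pow_one y]
    rw [pow_eq_pow_iff_modEq, hy]; exact hf2

end CfsgLib.Frobenius.Miller
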