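import Cfsg.Agent.Lib.Frobenius.IndexP
import Cfsg.Agent.S3807

/-!
The tower above an abelian self-centralising subgroup of index `p` in its normaliser.
-/

set_option autoImplicit false

universe u

open scoped commutatorElement

namespace CfsgLib.Frobenius.NormalizerTower

variable {P : Type u} [Group P] [Finite P] {p : ℕ} [hp : Fact p.Prime]

/-- Abelian, self-centralising, of index `p` in its normaliser. -/
structure Soft (p : ℕ) {P : Type u} [Group P] (E : Subgroup P) : Prop where
  ab : ∀ a ∈ E, ∀ b ∈ E, a * b = b * a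
  cen : Subgroup.centralizer (E : Set P) ≤ E
  nidx : E.relIndex (Subgroup.normalizer (E : Set P)) = p

theorem ncard_eq {A B : Subgroup P} (h : A ≤ B) (hidx : A.relIndex B = p) :
    Nat.card B = Nat.card A * p := by
  rw [← Subgroup.card_mul_index (A.subgroupOf B), Nat.card_congr (Subgroup.subgroupOfEquivOfLe h).toEquiv]
  exact congrArg _ hidx

theorem Soft.card_normalizer {E : Subgroup P} (hE : Soft p E) :
    Nat.card ↥(Subgroup.normalizer (E : Set P)) = Nat.card E * p :=
  ncard_eq Subgroup.le_normalizer hE.nidx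

theorem Soft.center_le {E : Subgroup P} (hE : Soft p E) : Subgroup.center P ≤ E :=
  (Subgroup.center_le_centralizer _).trans hE.cen

/-- Proper subgroups grow inside larger ones. -/
theorem lt_inf_normalizer (hP : IsPGroup p P) {M K : Subgroup P} (h : M < K) :
    M < K ⊓ Subgroup.normalizer (M : Set P) := by
  refine lt_of_le_of_ne (le_inf h.le Subgroup.le_normalizer) fun e => ?_
  haveI : Group.IsNilpotent K := (hP.to_subgroup K).isNilpotent
  have hlt : M.subgroupOf K < ⊤ :=
    lt_top_iff_ne_top.mpr fun h' => h.not_ge (Subgroup.subgroupOf_eq_top.mp h')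
  obtain ⟨y, hy, hy'⟩ := SetLike.exists_of_lt (Group.normalizerCondition_of_isNilpotent (M.subgroupOf K) hlt)
  refine hy' (Subgroup.mem_subgroupOf.mpr (e.ge ⟨y.2, ?_⟩))
  show (y : P) ∈ Subgroup.normalizer (M : Set P)
  rw [Subgroup.mem_normalizer_iff]
  intro z
  have hyz := Subgroup.mem_normalizer_iff.mp hy
  constructor
  · intro hz
    exact Subgroup.mem_subgroupOf.mp ((hyz ⟨z, h.le hz⟩).mp (Subgroup.mem_subgroupOf.mpr hz))
  · intro hz
    have hzK : z ∈ K := by
      have := mul_mem (mul_mem (inv_mem y.2) (h.le hz)) y.2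
      simpa [mul_assoc] using this
    exact Subgroup.mem_subgroupOf.mp ((hyz ⟨z, hzK⟩).mpr (Subgroup.mem_subgroupOf.mpr hz))

theorem eq_normalizer_of_le (hP : IsPGroup p P) {M K : Subgroup P}
    (hidx : M.relIndex (Subgroup.normalizer (M : Set P)) = p) (h : M < K) :
    Subgroup.normalizer (M : Set P) ≤ K := by
  have h1 := lt_inf_normalizer hP h
  have h2 : M.relIndex (K ⊓ Subgroup.normalizer (M : Set P)) * (K ⊓ Subgroup.normalizer (M : Set P)).relIndex (Subgroup.normalizer (M : Set P)) = p := by
    rw [Subgroup.relIndex_mul_relIndex _ _ _ h1.le inf_le_right, hidx]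
  rcases (Nat.dvd_prime hp.out).mp (Dvd.intro _ h2) with h3 | h3
  · exact absurd (Subgroup.relIndex_eq_one.mp h3) h1.not_ge
  · rw [h3] at h2
    exact (Subgroup.relIndex_eq_one.mp (Nat.eq_of_mul_eq_mul_left hp.out.pos (h2.trans (mul_one p).symm))).trans inf_le_left

/-- The normaliser of the normaliser. -/
theorem Soft.base (hP : IsPGroup p P) {E : Subgroup P} (hE : Soft p E)
    (hne : Subgroup.normalizer (E : Set P) ≠ ⊤) :
    (Subgroup.normalizer (E : Set P)).relIndex
      (Subgroup.normalizer ((Subgroup.normalizer (E : Set P) : Subgroup P) : Set P)) = p := by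
  classical
  set N := Subgroup.normalizer (E : Set P) with hN
  set M := Subgroup.normalizer (N : Set P) with hM
  have hA : IsMulCommutative ↥(E.subgroupOf N) :=
    ⟨⟨fun a b => Subtype.ext (Subtype.ext (hE.ab _ a.2 _ b.2))⟩⟩
  have hAi : (E.subgroupOf N).index = p := hE.nidx
  have hna : ¬ IsMulCommutative ↥N := by
    intro hc
    have h : N ≤ E := fun x hx => hE.cen (Subgroup.mem_centralizer_iff.mpr fun e he =>
      congrArg Subtype.val (hc.is_comm.comm (⟨e, Subgroup.le_normalizer he⟩ : N) ⟨x, hx⟩))
    have h1 := hE.nidx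
    rw [← hN, Subgroup.relIndex_eq_one.mpr h] at h1
    exact hp.out.ne_one h1.symm
  have hbound : Nat.card {B : Subgroup ↥N // IsMulCommutative ↥B ∧ B.index = p} ≤ p + 1 := by
    rcases (Cfsg.Agent.S3807.result p (hP.to_subgroup N) hna _ hA hAi).2 with ⟨-, -, -, h⟩ | ⟨-, h⟩
    · exact h.le
    · haveI : Subsingleton {B : Subgroup ↥N // IsMulCommutative ↥B ∧ B.index = p} :=
        ⟨fun a b => Subtype.ext ((h _ a.2.1 a.2.2).trans (h _ b.2.1 b.2.2).symm)⟩
      exact le_trans (Finite.card_le_one_iff_subsingleton.mpr this) (by omega)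
  have hconjle : ∀ g : M, E.map (MulAut.conj (g : P)).toMonoidHom ≤ N := fun g => by
    rintro _ ⟨e, he, rfl⟩
    exact (Subgroup.mem_normalizer_iff.mp g.2 e).mp (Subgroup.le_normalizer he)
  let f : M ⧸ N.subgroupOf M → {B : Subgroup ↥N // IsMulCommutative ↥B ∧ B.index = p} :=
    Quotient.lift (fun (g : M) => ⟨(E.map (MulAut.conj (g : P)).toMonoidHom).subgroupOf N, by
      refine ⟨⟨⟨fun a b => ?_⟩⟩, ?_⟩
      · obtain ⟨x, hx, hxa⟩ := a.2
        obtain ⟨y, hy, hyb⟩ := b.2
        refine Subtype.ext (Subtype.ext ?_)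
        have hxa' : (MulAut.conj (g : P)).toMonoidHom x = ((a : ↥N) : P) := hxa
        have hyb' : (MulAut.conj (g : P)).toMonoidHom y = ((b : ↥N) : P) := hyb
        show ((a : ↥N) : P) * ((b : ↥N) : P) = ((b : ↥N) : P) * ((a : ↥N) : P)
        rw [← hxa', ← hyb', ← map_mul, ← map_mul, hE.ab x hx y hy]
      · have h1 := ((E.map (MulAut.conj (g : P)).toMonoidHom).subgroupOf N).card_mul_index
        rw [Nat.card_congr (Subgroup.subgroupOfEquivOfLe (hconjle g)).toEquiv,
          Subgroup.card_map_of_injective (MulAut.conj (g : P)).injective, hE.card_normalizer] at h1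
        exact Nat.eq_of_mul_eq_mul_left Nat.card_pos h1⟩)
      (fun g h hgh => by
        have hgh' : (g⁻¹ * h : M) ∈ N.subgroupOf M := QuotientGroup.leftRel_apply.mp hgh
        refine Subtype.ext ?_
        show (E.map (MulAut.conj (g : P)).toMonoidHom).subgroupOf N = (E.map (MulAut.conj (h : P)).toMonoidHom).subgroupOf N
        congr 1
        have h1 : E.map (MulAut.conj ((g : P)⁻¹ * h)).toMonoidHom = E :=
          Subgroup.mem_normalizer_iff_map_conj_eq.mp (Subgroup.mem_subgroupOf.mp hgh')
        conv_lhs => rw [← h1]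
        rw [Subgroup.map_map]
        congr 1
        ext x
        simp [mul_assoc])
  have hf : Function.Injective f := by
    intro a b
    induction a using QuotientGroup.induction_on with
    | H g =>
      induction b using QuotientGroup.induction_on with
      | H h =>
        intro e
        refine QuotientGroup.eq.mpr (Subgroup.mem_subgroupOf.mpr ?_)
        have e1 : (E.map (MulAut.conj (g : P)).toMonoidHom).subgroupOf N = (E.map (MulAut.conj (h : P)).toMonoidHom).subgroupOf N :=
          congrArg Subtype.val e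
        have e2 : E.map (MulAut.conj (g : P)).toMonoidHom = E.map (MulAut.conj (h : P)).toMonoidHom := by
          rw [← Subgroup.map_subgroupOf_eq_of_le (hconjle g), e1, Subgroup.map_subgroupOf_eq_of_le (hconjle h)]
        show ((g⁻¹ * h : M) : P) ∈ N
        rw [hN, Subgroup.mem_normalizer_iff]
        intro x
        simp only [Subgroup.coe_mul, Subgroup.coe_inv]
        have hmem' : ∀ w : P, (w ∈ E ↔ (h : P) * w * (h : P)⁻¹ ∈ E.map (MulAut.conj (h : P)).toMonoidHom) := fun w =>
          (Subgroup.mem_map_iff_mem (f := (MulAut.conj (h : P)).toMonoidHom) (MulAut.conj (h : P)).injective).symm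
        have hmemg : ∀ w : P, (w ∈ E ↔ (g : P) * w * (g : P)⁻¹ ∈ E.map (MulAut.conj (h : P)).toMonoidHom) := fun w => by
          rw [← e2]
          exact (Subgroup.mem_map_iff_mem (f := (MulAut.conj (g : P)).toMonoidHom) (MulAut.conj (g : P)).injective).symm
        rw [hmem' x, hmemg ((g : P)⁻¹ * h * x * ((g : P)⁻¹ * h)⁻¹)]
        rw [show (g : P) * ((g : P)⁻¹ * h * x * ((g : P)⁻¹ * h)⁻¹) * (g : P)⁻¹ = (h : P) * x * (h : P)⁻¹ by group]
  have hle : N.relIndex M ≤ p + 1 := by
    rw [Subgroup.relIndex, Subgroup.index_eq_card]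
    exact (Nat.card_le_card_of_injective f hf).trans hbound
  obtain ⟨k, hk⟩ := (hP.to_subgroup M).index (N.subgroupOf M)
  change N.relIndex M = p ^ k at hk
  rcases k with _ | _ | k
  · have h1 := lt_inf_normalizer hP (lt_top_iff_ne_top.mpr hne)
    rw [top_inf_eq] at h1
    exact absurd (Subgroup.relIndex_eq_one.mp (by rw [hk, pow_zero])) h1.not_ge
  · rw [hk, pow_one]
  · rw [hk] at hle
    have h2 := hp.out.two_le
    have : p ^ 2 ≤ p ^ (k + 1 + 1) := Nat.pow_le_pow_right hp.out.pos (by omega)
    have : p + 1 < p ^ 2 := by nlinarith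
    omega

/-- Either the image of `E` or the image of its normaliser is soft modulo the centre. -/
theorem Soft.quotient_normalizer (hP : IsPGroup p P) {E : Subgroup P} (hE : Soft p E)
    (hne : Subgroup.normalizer (E : Set P) ≠ ⊤)
    (hc : ⁅Subgroup.normalizer (E : Set P), Subgroup.normalizer (E : Set P)⁆ ≤ Subgroup.center P) :
    Soft p ((Subgroup.normalizer (E : Set P)).map (QuotientGroup.mk' (Subgroup.center P))) := by
  set q := QuotientGroup.mk' (Subgroup.center P) with hq
  set N := Subgroup.normalizer (E : Set P) with hN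
  have hs := QuotientGroup.mk'_surjective (Subgroup.center P)
  have hZN : Subgroup.center P ≤ N := hE.center_le.trans Subgroup.le_normalizer
  have hcm : (N.map q).comap q = N := Subgroup.comap_map_eq_self (by rw [QuotientGroup.ker_mk']; exact hZN)
  refine ⟨?_, ?_, ?_⟩
  · rintro _ ⟨a, ha, rfl⟩ _ ⟨b, hb, rfl⟩
    rw [← commutatorElement_eq_one_iff_mul_comm, ← map_commutatorElement, hq, QuotientGroup.mk'_apply,
      QuotientGroup.eq_one_iff]
    exact hc (Subgroup.commutator_mem_commutator ha hb)
  · intro y hy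
    obtain ⟨x, rfl⟩ := hs y
    refine ⟨x, ?_, rfl⟩
    rw [SetLike.mem_coe, hN, Subgroup.mem_normalizer_iff_map_conj_eq]
    refine Subgroup.eq_of_le_of_card_ge ?_
      (le_of_eq (Subgroup.card_map_of_injective (MulAut.conj x).injective).symm)
    rintro _ ⟨e, he, rfl⟩
    have h := Subgroup.mem_centralizer_iff.mp hy (q e) ⟨e, Subgroup.le_normalizer he, rfl⟩
    have h' : ⁅x, e⁆ ∈ Subgroup.center P := by
      rw [← QuotientGroup.eq_one_iff, ← QuotientGroup.mk'_apply, ← hq, map_commutatorElement]
      exact commutatorElement_eq_one_iff_mul_comm.mpr h.symm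
    show x * e * x⁻¹ ∈ E
    rw [show x * e * x⁻¹ = ⁅x, e⁆ * e by rw [commutatorElement_def]; group]
    exact mul_mem (hE.center_le h') he
  · have h1 : (Subgroup.normalizer ((N.map q : Subgroup _) : Set _)).comap q = Subgroup.normalizer (N : Set P) := by
      rw [Subgroup.comap_normalizer_eq_of_surjective _ hs, hcm]
    rw [← Subgroup.map_comap_eq_self_of_surjective hs (Subgroup.normalizer ((N.map q : Subgroup _) : Set _)), h1,
      ← Subgroup.relIndex_comap, hcm]
    exact hE.base hP hne

theorem Soft.quotient_self {E : Subgroup P} (hE : Soft p E)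
    (hc : ¬ ⁅Subgroup.normalizer (E : Set P), Subgroup.normalizer (E : Set P)⁆ ≤ Subgroup.center P) :
    Soft p (E.map (QuotientGroup.mk' (Subgroup.center P))) := by
  set q := QuotientGroup.mk' (Subgroup.center P) with hq
  have hs := QuotientGroup.mk'_surjective (Subgroup.center P)
  have hcm : (E.map q).comap q = E := Subgroup.comap_map_eq_self (by rw [QuotientGroup.ker_mk']; exact hE.center_le)
  refine ⟨?_, ?_, ?_⟩
  · rintro _ ⟨a, ha, rfl⟩ _ ⟨b, hb, rfl⟩
    rw [← map_mul, ← map_mul, hE.ab a ha b hb]
  · intro y hy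
    obtain ⟨x, rfl⟩ := hs y
    by_contra hxE
    replace hxE : x ∉ E := fun h => hxE ⟨x, h, rfl⟩
    have hxc : ∀ e ∈ E, ⁅x, e⁆ ∈ Subgroup.center P := by
      intro e he
      have h := Subgroup.mem_centralizer_iff.mp hy (q e) ⟨e, he, rfl⟩
      rw [← QuotientGroup.eq_one_iff, ← QuotientGroup.mk'_apply, ← hq, map_commutatorElement]
      exact commutatorElement_eq_one_iff_mul_comm.mpr h.symm
    have hxN : x ∈ Subgroup.normalizer (E : Set P) := by
      rw [Subgroup.mem_normalizer_iff_map_conj_eq]
      refine Subgroup.eq_of_le_of_card_ge ?_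
        (le_of_eq (Subgroup.card_map_of_injective (MulAut.conj x).injective).symm)
      rintro _ ⟨e, he, rfl⟩
      show x * e * x⁻¹ ∈ E
      rw [show x * e * x⁻¹ = ⁅x, e⁆ * e by rw [commutatorElement_def]; group]
      exact mul_mem (hE.center_le (hxc e he)) he
    -- the normaliser is abelian modulo the centre
    have hgen : Subgroup.normalizer (E : Set P) ≤ E ⊔ Subgroup.zpowers x := by
      have hle : E ⊔ Subgroup.zpowers x ≤ Subgroup.normalizer (E : Set P) :=
        sup_le Subgroup.le_normalizer (Subgroup.zpowers_le.mpr hxN)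
      have h2 := Subgroup.relIndex_mul_relIndex E _ _ le_sup_left hle
      rw [hE.nidx] at h2
      rcases (Nat.dvd_prime hp.out).mp (Dvd.intro _ h2) with h3 | h3
      · exact absurd (Subgroup.relIndex_eq_one.mp h3 (Subgroup.mem_sup_right (Subgroup.mem_zpowers x))) hxE
      · rw [h3] at h2
        exact Subgroup.relIndex_eq_one.mp (Nat.eq_of_mul_eq_mul_left hp.out.pos (h2.trans (mul_one p).symm))
    apply hc
    rw [Subgroup.commutator_le]
    intro a ha b hb
    rw [← QuotientGroup.eq_one_iff, ← QuotientGroup.mk'_apply, ← hq, map_commutatorElement,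
      commutatorElement_eq_one_iff_mul_comm]
    have key : ∀ c : P, (∀ e ∈ E, q e * q c = q c * q e) → q x * q c = q c * q x →
        ∀ w ∈ Subgroup.normalizer (E : Set P), q w * q c = q c * q w := by
      intro c h1 h2 w hw
      have hle : E ⊔ Subgroup.zpowers x ≤ (Subgroup.centralizer ({q c} : Set _)).comap q :=
        sup_le (fun e he => Subgroup.mem_centralizer_singleton_iff.mpr (h1 e he))
          (Subgroup.zpowers_le.mpr (Subgroup.mem_centralizer_singleton_iff.mpr h2))
      exact Subgroup.mem_centralizer_singleton_iff.mp (hle (hgen hw))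
    have hex : ∀ e ∈ E, q e * q x = q x * q e := fun e he =>
      Subgroup.mem_centralizer_iff.mp hy (q e) ⟨e, he, rfl⟩
    have hee : ∀ e ∈ E, ∀ f ∈ E, q f * q e = q e * q f := fun e he f hf => by
      rw [← map_mul, ← map_mul, hE.ab f hf e he]
    have hE' : ∀ e ∈ E, q a * q e = q e * q a := fun e he =>
      key e (hee e he) (hex e he).symm a ha
    exact (key a (fun e he => (hE' e he).symm) (key x hex rfl a ha).symm b hb).symm
  · have h1 : (Subgroup.normalizer ((E.map q : Subgroup _) : Set _)).comap q = Subgroup.normalizer (E : Set P) := by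
      rw [Subgroup.comap_normalizer_eq_of_surjective _ hs, hcm]
    rw [← Subgroup.map_comap_eq_self_of_surjective hs (Subgroup.normalizer ((E.map q : Subgroup _) : Set _)), h1,
      ← Subgroup.relIndex_comap, hcm]
    exact hE.nidx

theorem card_quotient_center_lt [Nontrivial P] (hP : IsPGroup p P) :
    Nat.card (P ⧸ Subgroup.center P) < Nat.card P := by
  haveI := hP.center_nontrivial
  rw [← Subgroup.index_eq_card, ← (Subgroup.center P).card_mul_index]
  exact lt_mul_of_one_lt_left (Nat.pos_of_ne_zero Subgroup.index_ne_zero_of_finite) Finite.one_lt_card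

/-- Every proper overgroup has index `p` in its normaliser. -/
theorem step : ∀ (n : ℕ) (P : Type u) [Group P] [Finite P], Nat.card P = n → IsPGroup p P →
    ∀ E : Subgroup P, Soft p E → ∀ K : Subgroup P, E ≤ K → K ≠ ⊤ →
      K.relIndex (Subgroup.normalizer (K : Set P)) = p := by
  intro n
  induction n using Nat.strong_induction_on with
  | _ n ih =>
  intro P _ _ hn hP E hE K hEK hK
  rcases eq_or_lt_of_le hEK with rfl | hlt
  · exact hE.nidx
  set N := Subgroup.normalizer (E : Set P) with hN
  have hNK : N ≤ K := eq_normalizer_of_le hP hE.nidx hlt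
  have hNtop : N ≠ ⊤ := fun h => hK (top_le_iff.mp (h ▸ hNK))
  rcases eq_or_lt_of_le hNK with rfl | hltN
  · exact hE.base hP hNtop
  haveI : Nontrivial P := by
    obtain ⟨x, -, hx⟩ := SetLike.exists_of_lt (lt_top_iff_ne_top.mpr hK)
    exact ⟨⟨x, 1, fun h => hx (h ▸ one_mem K)⟩⟩
  have hs := QuotientGroup.mk'_surjective (Subgroup.center P)
  set q := QuotientGroup.mk' (Subgroup.center P) with hq
  have hZK : Subgroup.center P ≤ K := hE.center_le.trans hEK
  have hcm : (K.map q).comap q = K := Subgroup.comap_map_eq_self (by rw [QuotientGroup.ker_mk']; exact hZK)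
  have hKq : K.map q ≠ ⊤ := fun h => hK (by rw [← hcm, h, Subgroup.comap_top])
  have hlt' : Nat.card (P ⧸ Subgroup.center P) < n := hn ▸ card_quotient_center_lt hP
  have main : (K.map q).relIndex (Subgroup.normalizer ((K.map q : Subgroup _) : Set _)) = p := by
    by_cases hc : ⁅N, N⁆ ≤ Subgroup.center P
    · exact ih _ hlt' _ rfl (hP.to_quotient _) _ (hE.quotient_normalizer hP hNtop hc) _ (Subgroup.map_mono hNK) hKq
    · exact ih _ hlt' _ rfl (hP.to_quotient _) _ (hE.quotient_self hc) _ (Subgroup.map_mono hEK) hKq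
  rw [← hcm, ← Subgroup.comap_normalizer_eq_of_surjective _ hs, Subgroup.relIndex_comap,
    Subgroup.map_comap_eq_self_of_surjective hs]
  exact main

theorem chain (hP : IsPGroup p P) {E : Subgroup P} (hE : Soft p E) {K L : Subgroup P} (hK : E ≤ K)
    (hL : E ≤ L) : K ≤ L ∨ L ≤ K := by
  by_contra hcon
  push Not at hcon
  set M := K ⊓ L with hM
  have hMK : M < K := inf_lt_left.mpr hcon.1
  have hML : M < L := inf_lt_right.mpr hcon.2
  have hne : M ≠ ⊤ := fun h => by rw [h] at hMK; exact not_top_lt hMK
  have h := step _ P rfl hP E hE M (le_inf hK hL) hne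
  have h2 : Subgroup.normalizer (M : Set P) ≤ M := le_inf (eq_normalizer_of_le hP h hMK) (eq_normalizer_of_le hP h hML)
  rw [Subgroup.relIndex_eq_one.mpr h2] at h
  exact hp.out.ne_one h.symm

theorem mem_normalizer_of_conj (hP : IsPGroup p P) {E : Subgroup P} (hE : Soft p E) {M : Subgroup P}
    (hM : E ≤ M) {v : P} (h : ∀ e ∈ E, v * e * v⁻¹ ∈ M) : v ∈ Subgroup.normalizer (M : Set P) := by
  set M' := M.comap (MulAut.conj v).toMonoidHom with hM'
  have hEM' : E ≤ M' := fun e he => h e he
  have hcard : Nat.card M' = Nat.card M := by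
    rw [hM', Subgroup.comap_equiv_eq_map_symm', Subgroup.card_map_of_injective (MulAut.conj v).symm.injective]
  have heq : M' = M := by
    rcases chain hP hE hEM' hM with h1 | h1
    · exact Subgroup.eq_of_le_of_card_ge h1 hcard.ge
    · exact (Subgroup.eq_of_le_of_card_ge h1 hcard.le).symm
  rw [Subgroup.mem_normalizer_iff]
  intro x
  conv_lhs => rw [← heq]
  rfl

/-- Lower bound on the lower central series. -/
theorem card_le_of_lcs_le (hP : IsPGroup p P) {E : Subgroup P} (hE : Soft p E) {K : Subgroup P}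
    (hK : E ≤ K) : ∀ (j : ℕ) (M : Subgroup P), E ≤ M → K.lowerCentralSeries j ≤ M →
      Nat.card K ≤ p ^ j * Nat.card M := by
  intro j
  induction j with
  | zero => intro M _ h; rw [pow_zero, one_mul]; exact Subgroup.card_le_of_le h
  | succ j ih =>
    intro M hM h
    by_cases hKM : K ≤ M
    · exact (Subgroup.card_le_of_le hKM).trans (Nat.le_mul_of_pos_left _ (pow_pos hp.out.pos _))
    have hMK : M < K := ((chain hP hE hK hM).resolve_left hKM).lt_of_ne fun e => hKM e.ge
    have hne : M ≠ ⊤ := fun e => by rw [e] at hMK; exact not_top_lt hMK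
    have hidx := step _ P rfl hP E hE M hM hne
    have hle : K.lowerCentralSeries j ≤ Subgroup.normalizer (M : Set P) := by
      intro v hv
      refine mem_normalizer_of_conj hP hE hM fun e he => ?_
      rw [show v * e * v⁻¹ = ⁅v, e⁆ * e by rw [commutatorElement_def]; group]
      refine mul_mem (h ?_) (hM he)
      rw [Subgroup.lowerCentralSeries_succ]
      exact Subgroup.commutator_mem_commutator hv (hK he)
    have h1 := ih _ (hM.trans Subgroup.le_normalizer) hle
    rw [ncard_eq Subgroup.le_normalizer hidx] at h1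
    rw [pow_succ]
    calc Nat.card K ≤ p ^ j * (Nat.card M * p) := h1
      _ = _ := by ring

theorem lcs_ne_bot (hP : IsPGroup p P) {E : Subgroup P} (hE : Soft p E) {K : Subgroup P} (hK : E ≤ K)
    {i : ℕ} (hcard : Nat.card K = p ^ i * Nat.card E) : K.lowerCentralSeries i ≠ ⊥ := by
  intro h
  rcases i with _ | i
  · rw [Subgroup.lowerCentralSeries_zero] at h
    have hEb : E = ⊥ := le_bot_iff.mp (h ▸ hK)
    have h2 : Subgroup.normalizer (E : Set P) = ⊥ := by
      have h3 := hE.cen
      rw [hEb] at h3 ⊢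
      exact le_bot_iff.mp fun x _ => h3 (Subgroup.mem_centralizer_iff.mpr fun e he => by
        rw [SetLike.mem_coe, Subgroup.mem_bot] at he
        rw [he, one_mul, mul_one])
    have h4 := hE.nidx
    rw [h2, hEb, Subgroup.relIndex_self] at h4
    exact hp.out.ne_one h4.symm
  · have hle : K.lowerCentralSeries i ≤ E := fun v hv => hE.cen (Subgroup.mem_centralizer_iff.mpr fun e he => by
      have hc : ⁅v, e⁆ ∈ K.lowerCentralSeries (i + 1) := by
        rw [Subgroup.lowerCentralSeries_succ]; exact Subgroup.commutator_mem_commutator hv (hK he)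
      rw [h, Subgroup.mem_bot] at hc
      exact (commutatorElement_eq_one_iff_mul_comm.mp hc).symm)
    have h1 := card_le_of_lcs_le hP hE hK i E le_rfl hle
    rw [hcard, pow_succ] at h1
    have h5 : p ^ i * 1 < p ^ i * p := Nat.mul_lt_mul_of_pos_left hp.out.one_lt (pow_pos hp.out.pos i)
    rw [mul_one] at h5
    exact absurd h1 (not_le.mpr (Nat.mul_lt_mul_of_pos_right h5 Nat.card_pos))

/-- A proper overgroup is generated by two conjugates of `E`. -/
theorem exists_gen (hP : IsPGroup p P) {E : Subgroup P} (hE : Soft p E) {K : Subgroup P} (hlt : E < K)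
    (hK : K ≠ ⊤) : ∃ g ∈ Subgroup.normalizer (K : Set P),
      E ⊔ E.map (MulAut.conj g).toMonoidHom = K := by
  have h1 := lt_inf_normalizer hP (lt_top_iff_ne_top.mpr hK)
  rw [top_inf_eq] at h1
  obtain ⟨g, hg, hgK⟩ := SetLike.exists_of_lt h1
  refine ⟨g, hg, ?_⟩
  set X := E ⊔ E.map (MulAut.conj g).toMonoidHom
  have hXK : X ≤ K := sup_le hlt.le (by
    rintro _ ⟨e, he, rfl⟩
    exact (Subgroup.mem_normalizer_iff.mp hg e).mp (hlt.le he))
  rcases eq_or_lt_of_le hXK with h | h
  · exact h
  exfalso
  have hne : X ≠ ⊤ := fun e => by rw [e] at h; exact not_top_lt h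
  have hidx := step _ P rfl hP E hE X le_sup_left hne
  have hgX : g ∈ Subgroup.normalizer (X : Set P) :=
    mem_normalizer_of_conj hP hE le_sup_left fun e he => Subgroup.mem_sup_right ⟨e, he, rfl⟩
  exact hgK (eq_normalizer_of_le hP hidx h hgX)

/-- Upper bound on the class. -/
theorem lcs_eq_bot : ∀ (n : ℕ) (P : Type u) [Group P] [Finite P], Nat.card P = n → IsPGroup p P →
    ∀ E : Subgroup P, Soft p E → ∀ K : Subgroup P, E ≤ K → K ≠ ⊤ → ∀ i : ℕ,
      Nat.card K = p ^ i * Nat.card E → K.lowerCentralSeries (i + 1) = ⊥ := by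
  intro n
  induction n using Nat.strong_induction_on with
  | _ n ih =>
  intro P _ _ hn hP E hE K hEK hK i hcard
  rcases eq_or_lt_of_le hEK with rfl | hlt
  · have hi : i = 0 := by
      by_contra hi
      have h1 : 1 * Nat.card E < p ^ i * Nat.card E := Nat.mul_lt_mul_of_pos_right (Nat.one_lt_pow hi hp.out.one_lt) Nat.card_pos
      rw [one_mul, ← hcard] at h1
      exact lt_irrefl _ h1
    subst hi
    rw [Subgroup.lowerCentralSeries_succ, Subgroup.lowerCentralSeries_zero, Subgroup.commutator_eq_bot_iff_le_centralizer]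
    exact fun a ha => Subgroup.mem_centralizer_iff.mpr fun b hb => hE.ab b hb a ha
  set N := Subgroup.normalizer (E : Set P) with hN
  have hNK : N ≤ K := eq_normalizer_of_le hP hE.nidx hlt
  have hNtop : N ≠ ⊤ := fun h => hK (top_le_iff.mp (h ▸ hNK))
  haveI : Nontrivial P := by
    obtain ⟨x, -, hx⟩ := SetLike.exists_of_lt (lt_top_iff_ne_top.mpr hK)
    exact ⟨⟨x, 1, fun h => hx (h ▸ one_mem K)⟩⟩
  have hs := QuotientGroup.mk'_surjective (Subgroup.center P)
  set q := QuotientGroup.mk' (Subgroup.center P) with hq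
  have hlt' : Nat.card (P ⧸ Subgroup.center P) < n := hn ▸ card_quotient_center_lt hP
  have hmapcard : ∀ L : Subgroup P, Subgroup.center P ≤ L →
      Nat.card (L.map q) * Nat.card (Subgroup.center P) = Nat.card L := by
    intro L hL
    have h := Subgroup.card_mul_index ((Subgroup.center P).subgroupOf L)
    rw [Nat.card_congr (Subgroup.subgroupOfEquivOfLe hL).toEquiv] at h
    rw [← h, mul_comm]
    congr 1
    have h2 := MonoidHom.range_eq_map (q.comp L.subtype)
    rw [← Subgroup.map_map, ← MonoidHom.range_eq_map L.subtype, Subgroup.range_subtype] at h2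
    rw [← h2, ← Subgroup.index_ker]
    congr 1
    rw [← MonoidHom.comap_ker, hq, QuotientGroup.ker_mk']
    rfl
  have hZK : Subgroup.center P ≤ K := hE.center_le.trans hEK
  have hcm : (K.map q).comap q = K := Subgroup.comap_map_eq_self (by rw [QuotientGroup.ker_mk']; exact hZK)
  have hKq : K.map q ≠ ⊤ := fun h => hK (by rw [← hcm, h, Subgroup.comap_top])
  by_cases hc : ⁅N, N⁆ ≤ Subgroup.center P
  · have hle := Subgroup.card_le_of_le hNK
    rw [hE.card_normalizer, hcard] at hle
    obtain ⟨j, rfl⟩ : ∃ j, i = j + 1 := by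
      rcases i with _ | j
      · rw [pow_zero, one_mul] at hle
        exact absurd hle (not_le.mpr (lt_mul_of_one_lt_right Nat.card_pos hp.out.one_lt))
      · exact ⟨j, rfl⟩
    have hcq : Nat.card (K.map q) = p ^ j * Nat.card (N.map q) := by
      refine Nat.eq_of_mul_eq_mul_right (Nat.card_pos (α := Subgroup.center P)) ?_
      rw [hmapcard K hZK, mul_assoc, hmapcard N (hE.center_le.trans Subgroup.le_normalizer), hE.card_normalizer, hcard, pow_succ]
      ring
    have h := ih _ hlt' _ rfl (hP.to_quotient _) _ (hE.quotient_normalizer hP hNtop hc) _ (Subgroup.map_mono hNK) hKq j hcq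
    rw [← Subgroup.map_lowerCentralSeries, Subgroup.map_eq_bot_iff, QuotientGroup.ker_mk'] at h
    rw [Subgroup.lowerCentralSeries_succ, Subgroup.commutator_eq_bot_iff_le_centralizer]
    exact h.trans (Subgroup.center_le_centralizer _)
  · have hcq : Nat.card (K.map q) = p ^ i * Nat.card (E.map q) := by
      refine Nat.eq_of_mul_eq_mul_right (Nat.card_pos (α := Subgroup.center P)) ?_
      rw [hmapcard K hZK, mul_assoc, hmapcard E hE.center_le, hcard]
    have h := ih _ hlt' _ rfl (hP.to_quotient _) _ (hE.quotient_self hc) _ (Subgroup.map_mono hEK) hKq i hcq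
    rw [← Subgroup.map_lowerCentralSeries, Subgroup.map_eq_bot_iff, QuotientGroup.ker_mk'] at h
    have hsoft := hE.quotient_self hc
    have hle : K.lowerCentralSeries i ≤ E := by
      intro v hv
      have hcen : q v ∈ Subgroup.centralizer ((E.map q : Subgroup _) : Set _) := by
        rintro _ ⟨e, he, rfl⟩
        rw [← commutatorElement_eq_one_iff_mul_comm, ← map_commutatorElement, hq, QuotientGroup.mk'_apply,
          QuotientGroup.eq_one_iff]
        have := h (show ⁅v, e⁆ ∈ K.lowerCentralSeries (i + 1) by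
          rw [Subgroup.lowerCentralSeries_succ]; exact Subgroup.commutator_mem_commutator hv (hEK he))
        rw [← commutatorElement_inv]; exact inv_mem this
      have := hsoft.cen hcen
      rw [← Subgroup.mem_comap, Subgroup.comap_map_eq_self (by rw [hq, QuotientGroup.ker_mk']; exact hE.center_le)] at this
      exact this
    obtain ⟨g, hg, hgen⟩ := exists_gen hP hE hlt hK
    rw [Subgroup.lowerCentralSeries_succ, Subgroup.commutator_eq_bot_iff_le_centralizer]
    intro v hv
    have hgi : g⁻¹ * v * g ∈ K.lowerCentralSeries i := by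
      have hgK : K.map (MulAut.conj g⁻¹).toMonoidHom = K :=
        Subgroup.mem_normalizer_iff_map_conj_eq.mp (inv_mem hg)
      have h1 : (MulAut.conj g⁻¹).toMonoidHom v ∈ (K.lowerCentralSeries i).map (MulAut.conj g⁻¹).toMonoidHom := ⟨v, hv, rfl⟩
      rw [Subgroup.map_lowerCentralSeries, hgK] at h1
      simpa using h1
    have hsub : E ⊔ E.map (MulAut.conj g).toMonoidHom ≤ Subgroup.centralizer ({v} : Set P) := by
      refine sup_le (fun e he => Subgroup.mem_centralizer_singleton_iff.mpr (hE.ab e he v (hle hv))) ?_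
      rintro _ ⟨e, he, rfl⟩
      refine Subgroup.mem_centralizer_singleton_iff.mpr ?_
      have h1 := hE.ab e he _ (hle hgi)
      show g * e * g⁻¹ * v = v * (g * e * g⁻¹)
      calc g * e * g⁻¹ * v = g * (e * (g⁻¹ * v * g)) * g⁻¹ := by group
        _ = g * ((g⁻¹ * v * g) * e) * g⁻¹ := by rw [h1]
        _ = v * (g * e * g⁻¹) := by group
    exact Subgroup.mem_centralizer_iff.mpr fun k hk =>
      Subgroup.mem_centralizer_singleton_iff.mp (hsub (hgen.ge hk))

end CfsgLib.Frobenius.NormalizerTower
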