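import Cfsg.Agent.Lib.Involution.BaerSuzuki
import Cfsg.Agent.Lib.Coprime.SchurZassenhaus

/-! # If 2-elements act trivially on odd cyclic subgroups, the Sylow 2-subgroup is normal -/

namespace CfsgLib.Frobenius.OddInverted

universe u

open Subgroup
open scoped Pointwise

/-- The odd part and the 2-part of a finite order element. -/
theorem exists_two_power_pow {G : Type u} [Group G] [Finite G] (g : G) :
    ∃ a m : ℕ, Odd m ∧ orderOf g = 2 ^ a * m ∧ orderOf (g ^ m) = 2 ^ a ∧ orderOf (g ^ 2 ^ a) = m := by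
  obtain ⟨a, m, hm, h⟩ := Nat.exists_eq_two_pow_mul_odd (orderOf_pos g).ne'
  refine ⟨a, m, hm, h, ?_, ?_⟩
  · rw [orderOf_pow' _ hm.pos.ne', h, Nat.gcd_mul_left_left, Nat.mul_div_cancel _ hm.pos]
  · rw [orderOf_pow' _ (by positivity), h, Nat.gcd_mul_right_left,
      Nat.mul_div_cancel_left _ (by positivity)]

/-- Sylow 2-subgroups are normal if every 2-element normalizing an odd cyclic subgroup centralizes it. -/
theorem sylow_normal : ∀ (k : ℕ) {G : Type u} [Group G] [Finite G], Nat.card G = k →
    (∀ x g : G, Odd (orderOf x) → (∃ i, orderOf g = 2 ^ i) → g * x * g⁻¹ ∈ zpowers x →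
      g * x = x * g) →
    ∀ P : Sylow 2 G, (P : Subgroup G).Normal := by
  intro k
  induction k using Nat.strong_induction_on with
  | _ k ih =>
    intro G _ _ hk h P
    haveI : Fact (Nat.Prime 2) := ⟨Nat.prime_two⟩
    by_cases heven : 2 ∣ Nat.card G
    swap
    · have hbot : (P : Subgroup G) = ⊥ := by
        apply Subgroup.eq_bot_of_card_eq
        obtain ⟨i, hi⟩ := IsPGroup.iff_card.mp P.2
        rcases Nat.eq_zero_or_pos i with rfl | hipos
        · simpa using hi
        · exact absurd ((dvd_pow_self 2 hipos.ne').trans (hi ▸ card_subgroup_dvd_card (P : Subgroup G))) heven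
      rw [hbot]; infer_instance
    obtain ⟨t, ht⟩ := exists_prime_orderOf_dvd_card' 2 heven
    obtain ⟨N, hN, hN2, htN⟩ : ∃ N : Subgroup G, N.Normal ∧ IsPGroup 2 N ∧ t ∈ N := by
      by_contra hcon
      push Not at hcon
      obtain ⟨x, hx1, hxodd, hxt⟩ := CfsgLib.Involution.BaerSuzuki.exists_inverted_odd t ht hcon
      have hc := h x t hxodd ⟨1, by rw [ht, pow_one]⟩ (by rw [hxt]; exact inv_mem (mem_zpowers x))
      rw [hc, mul_inv_cancel_right] at hxt
      have h2 : x ^ 2 = 1 := by rw [sq]; nth_rewrite 1 [hxt]; exact inv_mul_cancel x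
      have h3 := orderOf_dvd_of_pow_eq_one h2
      rcases (Nat.dvd_prime Nat.prime_two).mp h3 with h4 | h4
      · exact hx1 (orderOf_eq_one_iff.mp h4)
      · rw [h4] at hxodd; exact absurd hxodd (by decide)
    haveI := hN
    have hNcard : 1 < Nat.card N := by
      have h1 : Nat.card N ≠ 1 := fun h1 => by
        rw [Subgroup.eq_bot_of_card_eq N h1, mem_bot] at htN
        rw [htN, orderOf_one] at ht; omega
      have h2 : 0 < Nat.card N := Nat.card_pos
      omega
    have hlt : Nat.card (G ⧸ N) < k := by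
      rw [← hk, Subgroup.card_eq_card_quotient_mul_card_subgroup N]
      exact lt_mul_of_one_lt_right Nat.card_pos hNcard
    obtain ⟨i, hi⟩ := IsPGroup.iff_card.mp hN2
    have hq : ∀ y q : G ⧸ N, Odd (orderOf y) → (∃ j, orderOf q = 2 ^ j) →
        q * y * q⁻¹ ∈ zpowers y → q * y = y * q := by
      intro y q hy hqp hconj
      obtain ⟨g, rfl⟩ := QuotientGroup.mk_surjective q
      obtain ⟨x0, rfl⟩ := QuotientGroup.mk_surjective y
      obtain ⟨a, m, hm, -, -, hxm⟩ := exists_two_power_pow x0
      -- replace `x0` by an odd order generator of the same subgroup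
      set x := x0 ^ 2 ^ a with hxdef
      have hxodd : Odd (orderOf x) := hxm ▸ hm
      have hzp : zpowers (x0 : G ⧸ N) = zpowers (x : G ⧸ N) := by
        rw [hxdef, QuotientGroup.mk_pow]
        have hco : (2 ^ a).Coprime (orderOf (x0 : G ⧸ N)) :=
          (Nat.coprime_two_left.mpr hy).pow_left a
        obtain ⟨l, hl⟩ := exists_pow_eq_self_of_coprime hco
        exact le_antisymm (zpowers_le.mpr ⟨(l : ℤ), by simpa using hl⟩)
          (zpowers_le.mpr (pow_mem (mem_zpowers _) _))
      have hX : Nat.card (zpowers x) = orderOf x := Nat.card_zpowers x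
      have hcop : (Nat.card N).Coprime (Nat.card (zpowers x)) := by
        rw [hX, hi]
        exact (Nat.coprime_two_left.mpr hxodd).pow_left i
      have hsup : (zpowers x).map (MulAut.conj g).toMonoidHom ≤ N ⊔ zpowers x := by
        rw [MonoidHom.map_zpowers, zpowers_le]
        have h1 : ((g * x * g⁻¹ : G) : G ⧸ N) ∈ zpowers (x : G ⧸ N) := by
          rw [← hzp]
          have hx' : (x : G ⧸ N) = (x0 : G ⧸ N) ^ 2 ^ a := by rw [hxdef, QuotientGroup.mk_pow]
          rw [QuotientGroup.mk_mul, QuotientGroup.mk_mul, QuotientGroup.mk_inv, hx', ← conj_pow]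
          exact pow_mem hconj _
        obtain ⟨j, hj⟩ := h1
        have h2 : (x ^ j)⁻¹ * (g * x * g⁻¹) ∈ N := by
          rw [← QuotientGroup.eq, QuotientGroup.mk_zpow]; exact hj
        have h3 := mul_mem_sup (mem_zpowers x |> (fun h => zpow_mem h j)) h2
        rw [sup_comm] at h3
        rwa [mul_inv_cancel_left] at h3
      obtain ⟨n, hn, hnX⟩ := CfsgLib.Coprime.exists_conj_eq (Or.inl (by
          haveI := hN2.isNilpotent; infer_instance))
        (le_normalizer_of_normal) (le_normalizer_of_normal) hsup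
        (Nat.card_congr (equivMapOfInjective _ _ (MulAut.conj g).injective).toEquiv).symm
        (by rwa [← Nat.card_congr (equivMapOfInjective _ _ (MulAut.conj g).injective).toEquiv])
      obtain ⟨j, hj⟩ := hqp
      have hng : ∃ i', orderOf (n * g) = 2 ^ i' := by
        have h1 : ((n * g : G) : G ⧸ N) = (g : G ⧸ N) := by
          rw [QuotientGroup.mk_mul, (QuotientGroup.eq_one_iff n).mpr hn, one_mul]
        have h2 : (n * g) ^ 2 ^ j ∈ N := by
          rw [← QuotientGroup.eq_one_iff, QuotientGroup.mk_pow, h1, ← hj, pow_orderOf_eq_one]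
        have h3 : (n * g) ^ (2 ^ (j + i)) = 1 := by
          rw [pow_add, pow_mul]
          have := congrArg Subtype.val (pow_card_eq_one' (G := N) (x := ⟨_, h2⟩))
          rw [hi] at this
          simpa using this
        obtain ⟨i', -, hi'⟩ := (Nat.dvd_prime_pow Nat.prime_two).mp (orderOf_dvd_of_pow_eq_one h3)
        exact ⟨i', hi'⟩
      have hmem : (n * g) * x * (n * g)⁻¹ ∈ zpowers x := by
        have : n * (g * x * g⁻¹) * n⁻¹ ∈
            ((zpowers x).map (MulAut.conj g).toMonoidHom).map (MulAut.conj n).toMonoidHom :=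
          ⟨g * x * g⁻¹, ⟨x, mem_zpowers x, rfl⟩, rfl⟩
        rw [hnX] at this
        convert this using 1
        group
      have hc := h x (n * g) hxodd hng hmem
      have hc' := congrArg (fun z : G => (z : G ⧸ N)) hc
      simp only [QuotientGroup.mk_mul, (QuotientGroup.eq_one_iff n).mpr hn, one_mul] at hc'
      obtain ⟨j', hj'⟩ : (x0 : G ⧸ N) ∈ zpowers (x : G ⧸ N) := hzp ▸ mem_zpowers _
      have : Commute (g : G ⧸ N) ((x : G ⧸ N) ^ j') := Commute.zpow_right hc' j'
      simp only at hj'
      rwa [hj'] at this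
    have hQ := ih _ hlt rfl hq (Sylow.mapSurjective (QuotientGroup.mk'_surjective N) P)
    rw [Sylow.coe_mapSurjective] at hQ
    have hle : N ≤ (P : Subgroup G) := by
      obtain ⟨R, hR⟩ := hN2.exists_le_sylow
      obtain ⟨g, hg⟩ := MulAction.exists_smul_eq G R P
      intro y hy
      rw [← hg]
      have : g⁻¹ * y * g ∈ (R : Subgroup G) := hR (by simpa using hN.conj_mem y hy g⁻¹)
      show y ∈ (MulAut.conj g • (R : Subgroup G))
      rw [Subgroup.mem_pointwise_smul_iff_inv_smul_mem]
      simpa [MulAut.smul_def, mul_assoc] using this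
    have := hQ.comap (QuotientGroup.mk' N)
    rwa [Subgroup.comap_map_eq, QuotientGroup.ker_mk', sup_eq_left.mpr hle] at this

end CfsgLib.Frobenius.OddInverted
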