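import Mathlib
import Cfsg.Agent.Lib.Coprime.Sylow

/-!
An involution `z` lying in a single conjugate of a proper subgroup `H`, such that the products with
commuting conjugates have the same property, has a class of odd size.
-/

set_option autoImplicit false
set_option linter.style.haveILetI false

namespace CfsgLib.Frobenius.OnePoint

open Subgroup

variable {G : Type*} [Group G]

/-- `e` lies in the conjugate `g H g⁻¹` exactly for `g ∈ H`. -/
def One (H : Subgroup G) (e : G) : Prop := ∀ g : G, g⁻¹ * e * g ∈ H ↔ g ∈ H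

theorem mem_conj_iff (H : Subgroup G) (g e : G) :
    e ∈ H.map (MulAut.conj g).toMonoidHom ↔ g⁻¹ * e * g ∈ H := by
  constructor
  · rintro ⟨y, hy, rfl⟩
    simpa [mul_assoc] using hy
  · intro h
    exact ⟨_, h, by simp [mul_assoc]⟩

theorem conj_inv_pow {a d : G} (ha : a * a = 1) (had : a * d * a = d⁻¹) (i : ℕ) :
    (d ^ i)⁻¹ * a * d ^ i = a * d ^ (2 * i) := by
  have h1 : a * d ^ i * a = (d ^ i)⁻¹ := by
    have hinv : a⁻¹ = a := inv_eq_of_mul_eq_one_right ha
    calc a * d ^ i * a = a * d ^ i * a⁻¹ := by rw [hinv]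
      _ = (a * d * a⁻¹) ^ i := (conj_pow).symm
      _ = (d ^ i)⁻¹ := by rw [hinv, had, inv_pow]
  rw [← h1, two_mul, pow_add]
  calc a * d ^ i * a * a * d ^ i = a * d ^ i * (a * a) * d ^ i := by group
    _ = a * (d ^ i * d ^ i) := by rw [ha, mul_one, mul_assoc]

section dihedral

variable {a b : G} (ha : a * a = 1) (hb : b * b = 1)
include ha hb

theorem dihedral_even (i : ℕ) :
    IsConj a (a * (a * b) ^ (2 * i)) ∧ IsConj b (b * (a * b) ^ (2 * i)) := by
  have ia : a⁻¹ = a := inv_eq_of_mul_eq_one_right ha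
  have ib : b⁻¹ = b := inv_eq_of_mul_eq_one_right hb
  refine ⟨isConj_iff.mpr ⟨((a * b) ^ i)⁻¹, ?_⟩, isConj_iff.mpr ⟨((a * b) ^ i)⁻¹, ?_⟩⟩
  · rw [inv_inv]
    refine conj_inv_pow ha ?_ i
    rw [mul_inv_rev, ia, ib, ← mul_assoc, ha, one_mul]
  · rw [inv_inv]
    refine conj_inv_pow hb ?_ i
    rw [mul_inv_rev, ia, ib, mul_assoc, mul_assoc, hb, mul_one]

theorem dihedral_odd (i : ℕ) : IsConj b (a * (a * b) ^ (2 * i + 1)) := by
  have := (dihedral_even ha hb i).2
  rwa [pow_succ', ← mul_assoc, ← mul_assoc, ha, one_mul]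

theorem dihedral_middle {j : ℕ} (h : orderOf (a * b) = 2 * j) :
    Commute ((a * b) ^ j) a ∧ Commute ((a * b) ^ j) b ∧ (a * b) ^ j * (a * b) ^ j = 1 := by
  have hk : (a * b) ^ j * (a * b) ^ j = 1 := by
    rw [← pow_add, show j + j = 2 * j by omega, ← h, pow_orderOf_eq_one]
  have hk' : ((a * b) ^ j)⁻¹ = (a * b) ^ j := inv_eq_of_mul_eq_one_right hk
  have ia : a⁻¹ = a := inv_eq_of_mul_eq_one_right ha
  have ib : b⁻¹ = b := inv_eq_of_mul_eq_one_right hb
  have key : ∀ c : G, c * c = 1 → c * (a * b) * c = (a * b)⁻¹ → Commute ((a * b) ^ j) c := by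
    intro c hc hcd
    have ic : c⁻¹ = c := inv_eq_of_mul_eq_one_right hc
    have h1 : c * (a * b) ^ j * c⁻¹ = (a * b) ^ j := by
      rw [← conj_pow, ic, hcd, inv_pow, hk']
    exact (mul_inv_eq_iff_eq_mul.mp h1).symm
  refine ⟨key a ha ?_, key b hb ?_, hk⟩
  · rw [mul_inv_rev, ia, ib, ← mul_assoc, ha, one_mul]
  · rw [mul_inv_rev, ia, ib, mul_assoc, mul_assoc, hb, mul_one]

end dihedral

theorem class_card_modEq [Finite G] (z k : G) (hk : k * k = 1) :
    Nat.card {a : G // IsConj z a} ≡ Nat.card {a : G // IsConj z a ∧ Commute k a} [MOD 2] := by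
  classical
  haveI := Fintype.ofFinite G
  let f : Function.End {a : G // IsConj z a} := fun a =>
    ⟨k * a.1 * k⁻¹, a.2.trans (isConj_iff.mpr ⟨k, rfl⟩)⟩
  have hf : f ^ 2 ^ 1 = 1 := funext fun a => Subtype.ext (by
    show k * (k * a.1 * k⁻¹) * k⁻¹ = a.1
    rw [inv_eq_of_mul_eq_one_right hk]
    calc k * (k * a.1 * k) * k = (k * k) * a.1 * (k * k) := by group
      _ = a.1 := by rw [hk, one_mul, mul_one])
  have h := Equiv.Perm.card_fixedPoints_modEq hf
  rw [← Nat.card_eq_fintype_card, ← Nat.card_eq_fintype_card] at h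
  refine h.trans (congrArg (· % 2) (Nat.card_congr ?_))
  exact
    { toFun := fun a => ⟨a.1.1, a.1.2, mul_inv_eq_iff_eq_mul.mp (congrArg Subtype.val a.2)⟩
      invFun := fun a => ⟨⟨a.1, a.2.1⟩, Subtype.ext (mul_inv_eq_iff_eq_mul.mpr a.2.2)⟩
      left_inv := fun a => rfl
      right_inv := fun a => rfl }

theorem card_class_eq_index [Finite G] (z : G) :
    Nat.card {a : G // IsConj z a} = (centralizer {z}).index := by
  classical
  have h1 := MulAction.index_stabilizer (ConjAct G) z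
  rw [ConjAct.stabilizer_eq_centralizer] at h1
  rw [show (centralizer {z}).index = (centralizer {ConjAct.toConjAct z}).index from rfl, h1]
  exact Nat.card_congr (Equiv.subtypeEquivRight fun a => by
    rw [ConjAct.mem_orbit_conjAct, isConj_comm])

theorem core.{u} : ∀ n : ℕ, ∀ (G : Type u) [Group G] [Finite G], Nat.card G = n →
    ∀ (z : G) (H : Subgroup G), z ≠ 1 → z * z = 1 → H ≠ ⊤ → One H z →
    (∀ t : G, IsConj z t → t ≠ z → t * z = z * t → One H (z * t)) →
    Odd (Nat.card {a : G // IsConj z a}) := by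
  intro n
  induction n using Nat.strong_induction_on with
  | h n ih =>
  intro G _ _ hGn z H hz1 hzz hH h0 hone
  by_contra hodd
  -- conjugates of `z`
  have hinv : ∀ a, IsConj z a → a * a = 1 := by
    rintro a ha
    obtain ⟨x, rfl⟩ := isConj_iff.mp ha
    calc x * z * x⁻¹ * (x * z * x⁻¹) = x * (z * z) * x⁻¹ := by group
      _ = 1 := by rw [hzz]; group
  have hcz : ∀ y, Commute y z → y ∈ H := fun y hy => (h0 y).mp (by
    rw [mul_assoc, hy.symm.eq, inv_mul_cancel_left]
    simpa using (h0 1).mpr H.one_mem)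
  have hpt : ∀ (x g : G), g⁻¹ * (x * z * x⁻¹) * g ∈ H ↔ x⁻¹ * g ∈ H := fun x g => by
    rw [← h0 (x⁻¹ * g)]; simp [mul_assoc]
  have hCa : ∀ (x y : G), Commute y (x * z * x⁻¹) → x⁻¹ * y * x ∈ H := fun x y hy => by
    refine hcz _ ?_
    show x⁻¹ * y * x * z = z * (x⁻¹ * y * x)
    calc x⁻¹ * y * x * z = x⁻¹ * (y * (x * z * x⁻¹)) * x := by group
      _ = x⁻¹ * ((x * z * x⁻¹) * y) * x := by rw [hy.eq]
      _ = z * (x⁻¹ * y * x) := by group
  -- products of commuting conjugates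
  have hprod : ∀ (x g : G) (b : G), IsConj z b → b ≠ x * z * x⁻¹ → Commute b (x * z * x⁻¹) →
      g⁻¹ * (x * z * x⁻¹ * b) * g ∈ H → x⁻¹ * g ∈ H := by
    intro x g b hb hne hcomm hg
    refine (hone (x⁻¹ * b * x) (hb.trans (isConj_iff.mpr ⟨x⁻¹, by rw [inv_inv]⟩)) ?_ ?_ _).mp ?_
    · intro e
      apply hne
      rw [← e]; group
    · calc x⁻¹ * b * x * z = x⁻¹ * (b * (x * z * x⁻¹)) * x := by group
        _ = x⁻¹ * ((x * z * x⁻¹) * b) * x := by rw [hcomm.eq]
        _ = z * (x⁻¹ * b * x) := by group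
    · have e : (x⁻¹ * g)⁻¹ * (z * (x⁻¹ * b * x)) * (x⁻¹ * g) = g⁻¹ * (x * z * x⁻¹ * b) * g := by group
      rwa [e]
  -- an element lying in two conjugates is not such a product
  have hnot : ∀ (x y : G) (b k : G), x⁻¹ * y ∉ H → IsConj z b → b ≠ x * z * x⁻¹ →
      Commute b (x * z * x⁻¹) → k = x * z * x⁻¹ * b → ¬ y⁻¹ * k * y ∈ H := by
    rintro x y b k hxy hb hne hcomm rfl hk
    exact hxy (hprod x y b hb hne hcomm hk)
  -- conjugates at different points have products of odd order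
  have hodd' : ∀ x y : G, x⁻¹ * y ∉ H → Odd (orderOf (x * z * x⁻¹ * (y * z * y⁻¹))) := by
    intro x y hxy
    by_contra he
    obtain ⟨j, hj⟩ := (Nat.not_odd_iff_even.mp he).two_dvd
    have ha := hinv _ (isConj_iff.mpr ⟨x, rfl⟩)
    have hb := hinv _ (isConj_iff.mpr ⟨y, rfl⟩)
    obtain ⟨hka, hkb, hkk⟩ := dihedral_middle ha hb hj
    set a := x * z * x⁻¹ with hadef
    set b := y * z * y⁻¹ with hbdef
    set k := (a * b) ^ j with hkdef
    have hk1 : k ≠ 1 := by
      intro e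
      have h1 : orderOf (a * b) ∣ j := orderOf_dvd_of_pow_eq_one e
      have h2 := orderOf_pos (a * b)
      have h3 : j ≠ 0 := by omega
      have := Nat.le_of_dvd (Nat.pos_of_ne_zero h3) h1
      omega
    have hak : IsConj z (a * k) := by
      rcases Nat.even_or_odd' j with ⟨i, hi | hi⟩
      · rw [hkdef, hi]; exact (isConj_iff.mpr ⟨x, rfl⟩ : IsConj z a).trans (dihedral_even ha hb i).1
      · rw [hkdef, hi]; exact (isConj_iff.mpr ⟨y, rfl⟩ : IsConj z b).trans (dihedral_odd ha hb i)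
    refine hnot x y (a * k) k hxy hak ?_ ?_ ?_ (hCa y k hkb)
    · exact fun e => hk1 (mul_eq_left.mp e)
    · exact (Commute.refl a).mul_left hka
    · rw [← mul_assoc, ha, one_mul]
  -- a Sylow subgroup of `C(z)` is properly contained in a 2-subgroup
  let C := centralizer ({z} : Set G)
  have hC : ∀ y, y ∈ C ↔ Commute y z := fun y => mem_centralizer_singleton_iff
  haveI : Fact (Nat.Prime 2) := ⟨Nat.prime_two⟩
  let S₀ : Sylow 2 C := default
  let S : Subgroup G := (S₀ : Subgroup C).map C.subtype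
  have hSC : S ≤ C := map_subtype_le _
  obtain ⟨T, hST⟩ := (S₀.isPGroup'.map C.subtype).exists_le_sylow
  have hSlt : S < (T : Subgroup G) := by
    refine lt_of_le_of_ne hST fun e => hodd ?_
    rw [card_class_eq_index, Nat.odd_iff, ← Nat.two_dvd_ne_zero]
    intro h2
    have h3 : 2 ∣ (T : Subgroup G).index := dvd_trans h2 (Subgroup.index_dvd_of_le (e ▸ hSC))
    exact T.not_dvd_index h3
  obtain ⟨g₀, hg₀, hg₀S⟩ := SetLike.exists_of_lt
    (CfsgLib.Coprime.lt_normalizer_inf_of_lt T.isPGroup' hSlt)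
  obtain ⟨l, hl⟩ := T.isPGroup' ⟨g₀, hg₀.1⟩
  have hl' : g₀ ^ 2 ^ l = 1 := congrArg Subtype.val hl
  have hex : ∃ r, g₀ ^ 2 ^ r ∈ S := ⟨l, by rw [hl']; exact one_mem _⟩
  classical
  obtain ⟨r, hr⟩ : ∃ r, Nat.find hex = r + 1 := by
    refine Nat.exists_eq_succ_of_ne_zero fun e => hg₀S ?_
    have := Nat.find_spec hex
    rwa [e, pow_zero, pow_one] at this
  set g := g₀ ^ 2 ^ r with hgdef
  have hgS : g ∉ S := Nat.find_min hex (by omega)
  have hgg : g * g ∈ S := by
    have := Nat.find_spec hex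
    rwa [hr, pow_succ, pow_mul, pow_two] at this
  have hgT : g ∈ (T : Subgroup G) := pow_mem hg₀.1 _
  have hgN : g ∈ normalizer (S : Set G) := pow_mem hg₀.2 _
  let L := S ⊔ zpowers g
  have hLT : L ≤ (T : Subgroup G) := sup_le hST (zpowers_le.mpr hgT)
  have hbig : ∀ a, IsConj z a → ¬ L ≤ centralizer {a} := by
    intro a ha hLa
    obtain ⟨x, rfl⟩ := isConj_iff.mp ha
    have hL' : L.map (MulAut.conj x⁻¹).toMonoidHom ≤ C := by
      rintro _ ⟨y, hy, rfl⟩
      have := mem_centralizer_singleton_iff.mp (hLa hy)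
      refine (hC _).mpr ?_
      show x⁻¹ * y * x⁻¹⁻¹ * z = z * (x⁻¹ * y * x⁻¹⁻¹)
      calc x⁻¹ * y * x⁻¹⁻¹ * z = x⁻¹ * (y * (x * z * x⁻¹)) * x := by group
        _ = x⁻¹ * ((x * z * x⁻¹) * y) * x := by rw [this]
        _ = z * (x⁻¹ * y * x⁻¹⁻¹) := by group
    obtain ⟨S', hS'⟩ := (((T.isPGroup'.to_le hLT).map (MulAut.conj x⁻¹).toMonoidHom).of_equiv
      (subgroupOfEquivOfLe hL').symm).exists_le_sylow
    have h1 := card_le_of_le hS'
    rw [Nat.card_congr (subgroupOfEquivOfLe hL').toEquiv, CfsgLib.Coprime.card_conj_map,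
      S'.card_eq_multiplicity, ← S₀.card_eq_multiplicity, ← CfsgLib.Coprime.card_map_subtype] at h1
    have : S < L := lt_of_le_of_ne le_sup_left fun e =>
      hgS (e.ge (mem_sup_right (mem_zpowers g)))
    exact this.ne (eq_of_le_of_card_ge this.le h1)
  set t := g * z * g⁻¹ with htdef
  have htz : t ≠ z := by
    intro e
    refine hgS ?_
    have hgC : g ∈ C := (hC g).mpr (mul_inv_eq_iff_eq_mul.mp e)
    -- `g` normalises the Sylow subgroup `S` of `C`
    have hTC : S = (T : Subgroup G) ⊓ C := by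
      refine le_antisymm (le_inf hST hSC) ?_
      have h2 := S₀.is_maximal' ((T.isPGroup'.to_le (inf_le_left : (T : Subgroup G) ⊓ C ≤ T)).of_equiv
        (subgroupOfEquivOfLe inf_le_right).symm)
        (fun y hy => ⟨hST ⟨y, hy, rfl⟩, y.2⟩)
      intro y hy
      exact ⟨⟨y, hy.2⟩, h2.le (show (⟨y, hy.2⟩ : C) ∈ _ from hy), rfl⟩
    rw [hTC]
    exact ⟨hgT, hgC⟩
  have hSt : ∀ s ∈ S, Commute s t := by
    intro s hs
    have hs' : g⁻¹ * s * g ∈ S := (mem_normalizer_iff''.mp hgN s).mp hs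
    show s * t = t * s
    calc s * t = g * ((g⁻¹ * s * g) * z) * g⁻¹ := by rw [htdef]; group
      _ = g * (z * (g⁻¹ * s * g)) * g⁻¹ := by rw [((hC _).mp (hSC hs')).eq]
      _ = t * s := by rw [htdef]; group
  have hzS : z ∈ S := by
    refine ⟨⟨z, (hC z).mpr (Commute.refl z)⟩, ?_, rfl⟩
    have hN : (zpowers (⟨z, (hC z).mpr (Commute.refl z)⟩ : C)).Normal := ⟨fun y hy c => by
      have hcy : c * y = y * c := by
        obtain ⟨i, rfl⟩ := mem_zpowers_iff.mp hy
        exact (Commute.zpow_right (Subtype.ext ((hC c).mp c.2).eq : Commute c ⟨z, _⟩) i).eq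
      rw [hcy, mul_inv_cancel_right]
      exact hy⟩
    refine (IsPGroup.le_sylow_of_normal (p := 2) ?_ S₀) (mem_zpowers _)
    refine IsPGroup.of_card (n := 1) ?_
    rw [Nat.card_zpowers, ← Subgroup.orderOf_coe, pow_one]
    exact orderOf_eq_prime (by rw [pow_two]; exact hzz) hz1
  have hzt : Commute t z := (hSt z hzS).symm
  set w := z * t with hwdef
  have hgw : Commute g w := by
    have hg2 : Commute (g * g) z := (hC _).mp (hSC hgg)
    show g * w = w * g
    calc g * (z * t) = (g * z * g⁻¹) * ((g * g) * z * (g * g)⁻¹) * g := by rw [htdef]; group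
      _ = t * z * g := by rw [hg2.eq, mul_inv_cancel_right, htdef]
      _ = z * t * g := by rw [hzt.eq]
  have hLw : L ≤ centralizer {w} := sup_le
    (fun s hs => mem_centralizer_singleton_iff.mpr (((hC s).mp (hSC hs)).mul_right (hSt s hs)).eq)
    (zpowers_le.mpr (mem_centralizer_singleton_iff.mpr hgw.eq))
  have htconj : IsConj z t := isConj_iff.mpr ⟨g, rfl⟩
  have hww : w * w = 1 := by
    rw [hwdef, mul_assoc, ← mul_assoc t, hzt.eq, mul_assoc, hinv t htconj, mul_one, hzz]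
  have hwone := hone t htconj htz hzt.eq
  have hCw : ∀ y, Commute y w → y ∈ H := fun y hy => (hwone y).mp (by
    rw [mul_assoc, ← hy.eq, inv_mul_cancel_left]
    simpa using (hwone 1).mpr H.one_mem)
  -- a conjugate outside `H`
  obtain ⟨x, -, hxH⟩ := SetLike.exists_of_lt (lt_top_iff_ne_top.mpr hH)
  set u := x * z * x⁻¹ with hudef
  have huz : IsConj z u := isConj_iff.mpr ⟨x, rfl⟩
  have hu := hinv u huz
  rcases Nat.even_or_odd' (orderOf (w * u)) with ⟨j, hj | hj⟩
  swap
  · refine hbig w ?_ hLw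
    have h1 := dihedral_odd hww hu j
    rw [← hj, pow_orderOf_eq_one, mul_one] at h1
    exact huz.trans h1
  obtain ⟨hkw, hku, hkk⟩ := dihedral_middle hww hu hj
  set k := (w * u) ^ j with hkdef
  have hk1 : k ≠ 1 := by
    intro e
    have h1 : orderOf (w * u) ∣ j := orderOf_dvd_of_pow_eq_one e
    have h2 := orderOf_pos (w * u)
    have h3 : j ≠ 0 := by omega
    have := Nat.le_of_dvd (Nat.pos_of_ne_zero h3) h1
    omega
  have hkH : k ∈ H := hCw k hkw
  have hvz : IsConj z (w * k) := by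
    rcases Nat.even_or_odd' j with ⟨i, hi | hi⟩
    · exfalso
      refine hnot x 1 (u * k) k ?_ ?_ ?_ ?_ ?_ (by simpa using hkH)
      · simpa using hxH
      · rw [hkdef, hi]; exact huz.trans (dihedral_even hww hu i).2
      · exact fun e => hk1 (mul_eq_left.mp e)
      · exact (Commute.refl u).mul_left hku
      · rw [← mul_assoc, hu, one_mul]
    · rw [hkdef, hi]; exact huz.trans (dihedral_odd hww hu i)
  set v := w * k with hvdef
  have hvk : Commute v k := hkw.symm.mul_left (Commute.refl k)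
  have hvH : v ∈ H := H.mul_mem (hCw w (Commute.refl w)) hkH
  let K := centralizer ({k} : Set G)
  have hK : ∀ y, y ∈ K ↔ Commute y k := fun y => mem_centralizer_singleton_iff
  have hKlt : Nat.card K < n := by
    rw [← hGn]
    refine lt_of_le_of_ne (Nat.card_le_card_of_injective _ K.subtype_injective) fun e => ?_
    refine hbig v hvz fun y hy => mem_centralizer_singleton_iff.mpr ?_
    have h1 : Commute y k := (hK y).mp ((eq_top_of_card_eq K e).ge (mem_top y))
    exact (Commute.mul_right (mem_centralizer_singleton_iff.mp (hLw hy)) h1).eq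
  obtain ⟨h, hv⟩ := isConj_iff.mp hvz
  have hh : h ∈ H := by
    have := (hpt h 1).mp (by rw [hv]; simpa using hvH)
    simpa using this
  have hvone : ∀ y, y⁻¹ * v * y ∈ H ↔ y ∈ H := fun y => by
    rw [← hv, hpt]
    exact Subgroup.mul_mem_cancel_left _ (inv_mem hh)
  -- all conjugates of `z` in `K` are conjugate in `K`
  have hlink : ∀ x₁ y₁ : G, x₁⁻¹ * y₁ ∉ H → Commute (x₁ * z * x₁⁻¹) k → Commute (y₁ * z * y₁⁻¹) k →
      ∃ c, Commute c k ∧ c * (x₁ * z * x₁⁻¹) * c⁻¹ = y₁ * z * y₁⁻¹ := by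
    intro x₁ y₁ hne ha hb
    obtain ⟨i, hi⟩ := hodd' x₁ y₁ hne
    have ha2 := hinv _ (isConj_iff.mpr ⟨x₁, rfl⟩)
    have hb2 := hinv _ (isConj_iff.mpr ⟨y₁, rfl⟩)
    generalize x₁ * z * x₁⁻¹ = a at ha ha2 hi ⊢
    generalize y₁ * z * y₁⁻¹ = b at hb hb2 hi ⊢
    -- `a = b (ab)^(2i)`, conjugate to `b` by a power of `ab`
    have hdinv : b * (a * b) * b = (a * b)⁻¹ := by
      rw [mul_inv_rev, inv_eq_of_mul_eq_one_right ha2, inv_eq_of_mul_eq_one_right hb2, mul_assoc,
        mul_assoc, hb2, mul_one]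
    have h1 := conj_inv_pow hb2 hdinv i
    have h2 : b * (a * b) ^ (2 * i) = a := by
      have := pow_orderOf_eq_one (a * b)
      rw [hi, pow_succ] at this
      have e : (a * b) ^ (2 * i) = (a * b)⁻¹ := eq_inv_of_mul_eq_one_left this
      rw [e, mul_inv_rev, inv_eq_of_mul_eq_one_right ha2, inv_eq_of_mul_eq_one_right hb2,
        ← mul_assoc, hb2, one_mul]
    refine ⟨(a * b) ^ i, (ha.mul_left hb).pow_left i, ?_⟩
    calc (a * b) ^ i * a * ((a * b) ^ i)⁻¹
        = (a * b) ^ i * (((a * b) ^ i)⁻¹ * b * (a * b) ^ i) * ((a * b) ^ i)⁻¹ := by rw [h1, h2]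
      _ = b := by group
  have huK : Commute u k := hku.symm
  have htrans : ∀ a, IsConj z a → Commute a k → ∃ c, Commute c k ∧ c * v * c⁻¹ = a := by
    intro a ha hak
    obtain ⟨y, rfl⟩ := isConj_iff.mp ha
    by_cases hy : y ∈ H
    · obtain ⟨c₁, hc₁, e₁⟩ := hlink h x (fun e => hxH (by simpa using H.mul_mem hh e))
        (hv ▸ hvk) huK
      obtain ⟨c₂, hc₂, e₂⟩ := hlink x y
        (fun e => hxH (inv_mem_iff.mp ((Subgroup.mul_mem_cancel_right _ hy).mp e))) huK hak
      refine ⟨c₂ * c₁, hc₂.mul_left hc₁, ?_⟩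
      rw [hv] at e₁
      rw [← e₁] at e₂
      rw [← e₂]; group
    · obtain ⟨c₁, hc₁, e₁⟩ := hlink h y (fun e => hy (by simpa using H.mul_mem hh e)) (hv ▸ hvk) hak
      exact ⟨c₁, hc₁, hv ▸ e₁⟩
  have hconjK : ∀ {a b : K}, IsConj a b → IsConj (a : G) (b : G) := fun hab => by
    obtain ⟨c, rfl⟩ := isConj_iff.mp hab
    exact isConj_iff.mpr ⟨c, rfl⟩
  have key := ih _ hKlt K rfl ⟨v, (hK v).mpr hvk⟩ (H.subgroupOf K)
    (fun e => by
      have e' : v = 1 := congrArg Subtype.val e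
      rw [← hv, mul_inv_eq_one, mul_eq_left] at e'
      exact hz1 e')
    (Subtype.ext (hinv v hvz))
    (fun e => hxH (by
      have hu' : u ∈ H := subgroupOf_eq_top.mp e ((hK u).mpr huK)
      have := (hpt x 1).mp (by simpa using hu')
      simpa using this))
    (fun y => by rw [mem_subgroupOf, mem_subgroupOf]; exact hvone y)
    (fun a ha hne hcomm y => by
      rw [mem_subgroupOf, mem_subgroupOf]
      have haz : IsConj z (a : G) := hvz.trans (hconjK ha)
      have hne' : (a : G) ≠ h * z * h⁻¹ := by rw [hv]; exact fun e => hne (Subtype.ext e)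
      have hc' : Commute (a : G) (h * z * h⁻¹) := by rw [hv]; exact congrArg Subtype.val hcomm
      constructor
      · intro hy
        have := hprod h y a haz hne' hc' (by rw [hv]; exact hy)
        simpa using H.mul_mem hh this
      · intro hy
        refine H.mul_mem (H.mul_mem (H.inv_mem hy) (H.mul_mem hvH ?_)) hy
        have := hCa h a hc'
        simpa [mul_assoc] using H.mul_mem (H.mul_mem hh this) (H.inv_mem hh))
  -- parity
  refine hodd ?_
  have e1 : Nat.card {a : K // IsConj (⟨v, (hK v).mpr hvk⟩ : K) a} =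
      Nat.card {a : G // IsConj z a ∧ Commute k a} := by
    refine Nat.card_congr
      { toFun := fun a => ⟨a.1, hvz.trans (hconjK a.2), ((hK _).mp a.1.2).symm⟩
        invFun := fun a => ⟨⟨a.1, (hK _).mpr a.2.2.symm⟩, by
          obtain ⟨c, hc, e⟩ := htrans a.1 a.2.1 a.2.2.symm
          exact isConj_iff.mpr ⟨⟨c, (hK _).mpr hc⟩, Subtype.ext e⟩⟩
        left_inv := fun a => rfl
        right_inv := fun a => rfl }
  rw [e1, Nat.odd_iff] at key
  rw [Nat.odd_iff, class_card_modEq z k hkk]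
  exact key

end CfsgLib.Frobenius.OnePoint
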