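import Mathlib
import Cfsg.Prelude.Def_PLocal
import Cfsg.Agent.Lib.FrobRealize.FixedPointFree
import Cfsg.Agent.Lib.FrobRealize.Quaternion
import Cfsg.Agent.Lib.Solvable.Cores
import Cfsg.Agent.S0144

/-!
Finite groups whose set of element orders is `{1, 2, 3, 4}`.
-/

set_option autoImplicit false

universe u

namespace CfsgLib.Frobenius.OrdersUpToFour

open Subgroup
open scoped commutatorElement

section TwoEngel

variable {G : Type u} [Group G]

/-- A group in which every element commutes with its conjugates has `[z, [x, y]] ^ 3 = 1`. -/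
theorem triple_pow_three (h : ∀ x g : G, Commute x (g * x * g⁻¹)) (x y z : G) :
    ⁅z, ⁅x, y⁆⁆ ^ 3 = 1 := by
  have hnc : ∀ x a b : G, a ∈ normalClosure ({x} : Set G) → b ∈ normalClosure ({x} : Set G) → a * b = b * a := by
    intro x
    have h1 : normalClosure ({x} : Set G) ≤ centralizer (normalClosure ({x} : Set G) : Set G) := by
      have h2 : ∀ g, g * x * g⁻¹ ∈ centralizer (normalClosure ({x} : Set G) : Set G) := by
        intro g
        rw [mem_centralizer_iff]
        intro a ha
        induction ha using closure_induction with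
        | mem c hc =>
          obtain ⟨w, hw, hcw⟩ := Group.mem_conjugatesOfSet_iff.1 hc
          rw [Set.mem_singleton_iff] at hw
          rw [hw] at hcw
          obtain ⟨k, rfl⟩ := isConj_iff.1 hcw
          have := (h x (k⁻¹ * g)).map (MulAut.conj k).toMonoidHom
          simpa [mul_assoc] using this.eq
        | one => simp
        | mul a b _ _ ha hb => rw [mul_assoc, hb, ← mul_assoc, ha, mul_assoc]
        | inv a _ ha => exact (Commute.inv_left (show Commute a _ from ha)).eq
      refine (closure_le _).2 fun c hc => ?_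
      obtain ⟨w, hw, hcw⟩ := Group.mem_conjugatesOfSet_iff.1 hc
      rw [Set.mem_singleton_iff] at hw
      rw [hw] at hcw
      obtain ⟨k, rfl⟩ := isConj_iff.1 hcw
      exact h2 k
    intro a b ha hb
    exact mem_centralizer_iff.1 (h1 hb) a ha
  have hself : ∀ x : G, x ∈ normalClosure ({x} : Set G) := fun x => subset_normalClosure rfl
  have hL : ∀ x y : G, ⁅x, y⁆ ∈ normalClosure ({x} : Set G) := fun x y => by
    have h1 := mul_mem (hself x) (Normal.conj_mem normalClosure_normal _ (inv_mem (hself x)) y)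
    simpa [commutatorElement_def, mul_assoc] using h1
  have hR : ∀ x y : G, ⁅x, y⁆ ∈ normalClosure ({y} : Set G) := fun x y => by
    have := inv_mem (hL y x)
    rwa [commutatorElement_inv] at this
  have hin : ∀ (w c : G) (g : G), c ∈ normalClosure ({w} : Set G) → ⁅g, c⁆ ∈ normalClosure ({w} : Set G) := by
    intro w c g hc
    exact mul_mem (Normal.conj_mem normalClosure_normal _ hc g) (inv_mem hc)
  -- `[z, [x, y]] = [y, [x, z]]⁻¹`
  have hA : ∀ x y z : G, ⁅z, ⁅x, y⁆⁆ = ⁅y, ⁅x, z⁆⁆⁻¹ := by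
    intro x y z
    set a := ⁅x, y⁆ with ha
    set b := ⁅x, z⁆ with hb
    set e := ⁅y, b⁆ with he
    set d := ⁅z, a⁆ with hd
    have e0 : ⁅x, y * z⁆ = a * e * b := by
      simp only [ha, hb, he, commutatorElement_def]; group
    have h1 : Commute ⁅x, y * z⁆ (y * z) := hnc _ _ _ (hR x (y * z)) (hself _)
    have hay : Commute a y := hnc y _ _ (hR x y) (hself y)
    have hey : Commute e y := hnc y _ _ (hL y b) (hself y)
    have hez : Commute e z := hnc z _ _ (hin z b y (hR x z)) (hself z)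
    have hbz : Commute b z := hnc z _ _ (hR x z) (hself z)
    have hdy : Commute d y := hnc y _ _ (hin y a z (hR x y)) (hself y)
    have hde : Commute d a := hnc x _ _ (hin x a z (hL x y)) (hL x y)
    have hae : Commute a e := hnc x _ _ (hL x y) (hin x b y (hL x z))
    have hza : z * a = d * a * z := by simp only [hd, commutatorElement_def]; group
    have hyb : y * b = e * b * y := by simp only [he, commutatorElement_def]; group
    rw [e0] at h1
    have h2 : (y * z) * (a * e * b) = d * a * e * e * b * (y * z) := by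
      calc (y * z) * (a * e * b) = y * ((z * a) * (e * b)) := by group
        _ = y * (d * a * (z * (e * b))) := by rw [hza]; group
        _ = y * (d * a * ((e * b) * z)) := by rw [(hez.mul_left hbz).eq]
        _ = (y * d) * a * e * b * z := by group
        _ = d * (y * a) * e * b * z := by rw [← hdy.eq]; group
        _ = d * a * (y * e) * b * z := by rw [← hay.eq]; group
        _ = d * a * e * (y * b) * z := by rw [← hey.eq]; group
        _ = d * a * e * (e * b * y) * z := by rw [hyb]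
        _ = _ := by group
    have h3 : a * e * b = d * a * e * e * b := mul_right_cancel (h1.eq.trans h2)
    have h4 : a * e = d * a * e * e := mul_right_cancel h3
    have h5 : a = d * a * e := mul_right_cancel h4
    refine eq_inv_of_mul_eq_one_left (mul_left_cancel (a := a) ?_)
    rw [mul_one]
    conv_rhs => rw [h5]
    rw [hde.eq, mul_assoc]
  have hB : ∀ x y z : G, ⁅z, ⁅y, x⁆⁆ = ⁅z, ⁅x, y⁆⁆⁻¹ := by
    intro x y z
    set a := ⁅x, y⁆ with ha
    rw [show ⁅y, x⁆ = a⁻¹ from (commutatorElement_inv x y).symm]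
    have hde : Commute ⁅z, a⁆ a := hnc x _ _ (hin x a z (hL x y)) (hL x y)
    refine eq_inv_of_mul_eq_one_left ?_
    calc ⁅z, a⁻¹⁆ * ⁅z, a⁆ = z * a⁻¹ * z⁻¹ * (a * ⁅z, a⁆) := by simp only [commutatorElement_def]; group
      _ = z * a⁻¹ * z⁻¹ * (⁅z, a⁆ * a) := by rw [hde.eq]
      _ = 1 := by simp only [commutatorElement_def]; group
  -- conjugating `[x, y]` by `z`
  set a := ⁅x, y⁆ with ha
  set u := ⁅z, x⁆ with hu
  set v := ⁅z, y⁆ with hv
  set f := ⁅z, a⁆ with hf
  have hux : Commute u x := hnc x _ _ (hR z x) (hself x)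
  have huv : Commute u v := hnc z _ _ (hL z x) (hL z y)
  have hvy : Commute v y := hnc y _ _ (hR z y) (hself y)
  have hua : Commute u a := hnc x _ _ (hR z x) (hL x y)
  have hva : Commute v a := hnc y _ _ (hR z y) (hR x y)
  have huxv : Commute u ⁅x, v⁆ := hnc x _ _ (hR z x) (hL x v)
  have huyu : Commute v ⁅y, u⁆ := hnc y _ _ (hR z y) (hL y u)
  have hyu : Commute ⁅y, u⁆ u := hnc x _ _ (hin x u y (hR z x)) (hR z x)
  have hkey : z * a * z⁻¹ = ⁅x, v⁆ * a * ⁅y, u⁆⁻¹ := by
    have h1 : z * a * z⁻¹ = (u * x) * (v * y) * (u * x)⁻¹ * (v * y)⁻¹ := by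
      simp only [ha, hu, hv, commutatorElement_def]; group
    rw [h1]
    calc (u * x) * (v * y) * (u * x)⁻¹ * (v * y)⁻¹
        = u * (⁅x, v⁆ * (v * (x * y * x⁻¹ * y⁻¹) * y)) * u⁻¹ * (v * y)⁻¹ := by
          simp only [commutatorElement_def]; group
      _ = (u * ⁅x, v⁆) * (v * a) * (y * u⁻¹ * y⁻¹) * v⁻¹ := by
          rw [show x * y * x⁻¹ * y⁻¹ = a from rfl]; group
      _ = ⁅x, v⁆ * (u * (v * a)) * (y * u⁻¹ * y⁻¹) * v⁻¹ := by rw [huxv.eq]; group
      _ = ⁅x, v⁆ * ((v * a) * u) * (y * u⁻¹ * y⁻¹) * v⁻¹ := by rw [(huv.mul_right hua).eq]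
      _ = ⁅x, v⁆ * (v * a) * (u * (y * u⁻¹ * y⁻¹)) * v⁻¹ := by group
      _ = ⁅x, v⁆ * (v * a) * ⁅y, u⁆⁻¹ * v⁻¹ := by
          rw [show u * (y * u⁻¹ * y⁻¹) = ⁅y, u⁆⁻¹ by simp only [commutatorElement_def]; group]
      _ = ⁅x, v⁆ * (a * v) * (⁅y, u⁆⁻¹ * v⁻¹) := by rw [hva.eq]; group
      _ = ⁅x, v⁆ * (a * v) * (v⁻¹ * ⁅y, u⁆⁻¹) := by rw [(huyu.inv_inv).eq]
      _ = _ := by group
  have hxv : ⁅x, v⁆ = f⁻¹ := by
    rw [hv, hf, ha, hB y z x, hA y z x, inv_inv]
    rw [hB x y z]
  have hyu' : ⁅y, u⁆ = f := by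
    rw [hu, hf, ha, hB x z y, hA x z y, inv_inv]
  have hfa : Commute f a := hnc x _ _ (hin x a z (hL x y)) (hL x y)
  rw [hxv, hyu'] at hkey
  have h7 : f * a = f⁻¹ * f⁻¹ * a := by
    calc f * a = z * a * z⁻¹ := by simp only [hf, commutatorElement_def]; group
      _ = f⁻¹ * (a * f⁻¹) := by rw [hkey, mul_assoc]
      _ = f⁻¹ * (f⁻¹ * a) := by rw [hfa.inv_left.eq]
      _ = _ := by rw [mul_assoc]
  have h8 : f = f⁻¹ * f⁻¹ := mul_right_cancel h7
  rw [pow_succ, pow_two]
  nth_rw 1 [h8]
  group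

end TwoEngel

variable {G : Type u} [Group G] [Finite G]

/-- Element orders at most four. -/
def Small (G : Type u) [Group G] : Prop := ∀ g : G, orderOf g ≤ 4

theorem pow_cases (hS : Small G) (g : G) : g = 1 ∨ g ^ 4 = 1 ∨ g ^ 3 = 1 := by
  have h1 := hS g
  have h2 := orderOf_pos g
  have h3 := pow_orderOf_eq_one g
  interval_cases h : orderOf g
  · left; simpa using h3
  · right; left; rw [show (4 : ℕ) = 2 * 2 from rfl, pow_mul, h3, one_pow]
  · right; right; exact h3
  · right; left; exact h3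

theorem two_part (hS : Small G) {S : Subgroup G} (h2 : IsPGroup 2 S) {a : G} (ha : a ∈ S) : a ^ 4 = 1 := by
  rcases pow_cases hS a with h | h | h
  · rw [h, one_pow]
  · exact h
  · obtain ⟨k, hk⟩ := IsPGroup.iff_orderOf.1 h2 ⟨a, ha⟩
    rw [Subgroup.orderOf_mk] at hk
    have h1 := orderOf_dvd_of_pow_eq_one h
    rw [hk] at h1
    rcases k with _ | k
    · rw [pow_zero, orderOf_eq_one_iff] at hk; rw [hk, one_pow]
    · exact absurd ((dvd_pow_self 2 k.succ_ne_zero).trans h1) (by norm_num)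

/-- Commuting elements of orders 2-power and 3-power: one of them is trivial. -/
theorem eq_one_of_commute (hS : Small G) {a b : G} {i j : ℕ} (ha : a ^ 2 ^ i = 1) (hb : b ^ 3 ^ j = 1)
    (hc : Commute a b) : a = 1 ∨ b = 1 := by
  obtain ⟨i', -, hi⟩ := (Nat.dvd_prime_pow Nat.prime_two).1 (orderOf_dvd_of_pow_eq_one ha)
  obtain ⟨j', -, hj⟩ := (Nat.dvd_prime_pow Nat.prime_three).1 (orderOf_dvd_of_pow_eq_one hb)
  have h := hc.orderOf_mul_eq_mul_orderOf_of_coprime (by
    rw [hi, hj]; exact Nat.Coprime.pow _ _ (by norm_num))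
  rcases Nat.eq_zero_or_pos i' with rfl | hi'
  · exact Or.inl (orderOf_eq_one_iff.1 hi)
  rcases Nat.eq_zero_or_pos j' with rfl | hj'
  · exact Or.inr (orderOf_eq_one_iff.1 hj)
  exfalso
  have h4 := hS (a * b)
  rw [h, hi, hj] at h4
  have : 2 * 3 ≤ 2 ^ i' * 3 ^ j' := Nat.mul_le_mul (Nat.le_self_pow hi'.ne' 2) (Nat.le_self_pow hj'.ne' 3)
  omega

theorem primes (hS : Small G) {q : ℕ} (hq : q.Prime) (hd : q ∣ Nat.card G) : q = 2 ∨ q = 3 := by
  haveI := Fact.mk hq
  obtain ⟨g, hg⟩ := exists_prime_orderOf_dvd_card' q hd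
  have h1 := hS g
  rw [hg] at h1
  have := hq.two_le
  interval_cases q
  · exact Or.inl rfl
  · exact Or.inr rfl
  · exact absurd hq (by norm_num)

theorem card_eq (hS : Small G) : ∃ a b : ℕ, Nat.card G = 2 ^ a * 3 ^ b := by
  have key : ∀ n : ℕ, n ≠ 0 → (∀ q : ℕ, q.Prime → q ∣ n → q = 2 ∨ q = 3) → ∃ a b : ℕ, n = 2 ^ a * 3 ^ b := by
    intro n
    induction n using induction_on_primes with
    | zero => intro h; exact absurd rfl h
    | one => intro _ _; exact ⟨0, 0, by simp⟩
    | prime_mul q m hq ih =>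
      intro h hpr
      obtain ⟨a, b, rfl⟩ := ih (fun e => h (by simp [e])) fun r hr hd => hpr r hr (dvd_mul_of_dvd_right hd q)
      rcases hpr q hq (dvd_mul_right q _) with rfl | rfl
      · exact ⟨a + 1, b, by rw [pow_succ]; ring⟩
      · exact ⟨a, b + 1, by rw [pow_succ]; ring⟩
  exact key _ Nat.card_pos.ne' fun q hq hd => primes hS hq hd

theorem isSolvable (hS : Small G) : Group.IsSolvable G := by
  obtain ⟨a, b, h⟩ := card_eq hS
  exact Cfsg.Agent.S0144.result 2 3 a b Nat.prime_two Nat.prime_three h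

/-- A nontrivial group with small element orders has a nontrivial normal 2- or 3-subgroup. -/
theorem exists_pCore_ne_bot (hS : Small G) [Nontrivial G] :
    Cfsg.pCore 2 G ≠ ⊥ ∨ Cfsg.pCore 3 G ≠ ⊥ := by
  haveI := isSolvable hS
  by_contra h
  push Not at h
  refine CfsgLib.Solvable.Cores.fittingSubgroup_ne_bot (G := G) ?_
  rw [CfsgLib.Solvable.Cores.fittingSubgroup_eq_iSup_pCore, iSup_eq_bot]
  intro q
  by_cases hd : (q : ℕ) ∣ Nat.card G
  · rcases primes hS q.2 hd with hq | hq <;> rw [hq]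
    · exact h.1
    · exact h.2
  · haveI := Fact.mk q.2
    obtain ⟨k, hk⟩ := IsPGroup.iff_card.1 (CfsgLib.Solvable.Cores.isPGroup_pCore (G := G) (q : ℕ))
    rcases k with _ | k
    · exact card_eq_one.1 (by rw [hk, pow_zero])
    · exact absurd ((dvd_pow_self (q : ℕ) k.succ_ne_zero).trans (hk ▸ card_subgroup_dvd_card _)) hd

section Operators

variable {H : Type u} [Group H] [Finite H]

/-- A fixed-point-free endomorphism of order dividing three gives `x · αx · α²x = 1`. -/
theorem prod_eq_one (α : H →* H) (h3 : ∀ x, α (α (α x)) = x) (hf : ∀ x, α x = x → x = 1) (x : H) :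
    x * α x * α (α x) = 1 := by
  have hinj : Function.Injective fun y : H => y⁻¹ * α y := by
    intro a b hab
    refine (mul_inv_eq_one).1 (hf _ ?_)
    have h1 : α a = a * (b⁻¹ * α b) := by
      have h0 : a⁻¹ * α a = b⁻¹ * α b := hab
      rw [← h0, mul_inv_cancel_left]
    rw [map_mul, map_inv, h1]
    group
  obtain ⟨y, rfl⟩ := (Finite.injective_iff_surjective.1 hinj) x
  simp only [map_mul, map_inv, h3]
  group

theorem commute_self (α : H →* H) (h3 : ∀ x, α (α (α x)) = x) (hf : ∀ x, α x = x → x = 1) (x : H) :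
    Commute x (α x) := by
  have h1 := prod_eq_one α h3 hf x
  have h2 := prod_eq_one α h3 hf x⁻¹
  rw [map_inv, map_inv] at h2
  have e1 : α (α x) = (α x)⁻¹ * x⁻¹ := by
    rw [eq_inv_of_mul_eq_one_right h1]; group
  rw [e1] at h2
  change x * α x = α x * x
  calc x * α x = x * α x * (x⁻¹ * (α x)⁻¹ * ((α x)⁻¹ * x⁻¹)⁻¹)⁻¹ := by rw [h2]; group
    _ = α x * x := by group

/-- Data: a fixed-point-free operator of order three, robust under inner twists. -/
structure FPF3 (α : MulAut H) : Prop where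
  cube : ∀ g x : H, g * α (g * α (g * α x * g⁻¹) * g⁻¹) * g⁻¹ = x
  fpf : ∀ g x : H, g * α x * g⁻¹ = x → x = 1

variable {α : MulAut H}

theorem FPF3.cube' (hα : FPF3 α) (x : H) : α (α (α x)) = x := by
  simpa using hα.cube 1 x

theorem FPF3.prod (hα : FPF3 α) (x : H) : x * α x * α (α x) = 1 :=
  prod_eq_one α.toMonoidHom hα.cube' (fun y hy => hα.fpf 1 y (by simpa using hy)) x

theorem FPF3.commute_twist (hα : FPF3 α) (g x : H) : Commute x (g * α x * g⁻¹) :=
  commute_self ((MulAut.conj g).toMonoidHom.comp α.toMonoidHom) (fun y => hα.cube g y)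
    (fun y hy => hα.fpf g y hy) x

theorem FPF3.commute_conj (hα : FPF3 α) (x g : H) : Commute x (g * x * g⁻¹) := by
  have h1 : ∀ g, Commute x (g * α x * g⁻¹) := fun g => hα.commute_twist g x
  have h2 : ∀ g, Commute x (g * α (α x) * g⁻¹) := fun g => by
    have h := hα.commute_twist g⁻¹ (α (α x))
    rw [hα.cube'] at h
    have h' := h.map (MulAut.conj g).toMonoidHom
    simp only [MulEquiv.coe_toMonoidHom, MulAut.conj_apply, inv_inv] at h'
    have : g * (g⁻¹ * x * g) * g⁻¹ = x := by group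
    rw [this] at h'
    exact h'.symm
  have e : g * x * g⁻¹ = ((g * α x * g⁻¹) * (g * α (α x) * g⁻¹))⁻¹ := by
    have hp := hα.prod x
    rw [mul_assoc] at hp
    conv_lhs => rw [eq_inv_of_mul_eq_one_left hp]
    group
  rw [e]
  exact ((h1 g).mul_right (h2 g)).inv_right

theorem FPF3.class_two (hα : FPF3 α) (h2 : IsPGroup 2 H) (x y : H) : ⁅x, y⁆ ∈ center H := by
  refine mem_center_iff.2 fun z => commutatorElement_eq_one_iff_mul_comm.1 ?_
  obtain ⟨k, hk⟩ := IsPGroup.iff_orderOf.1 h2 ⁅z, ⁅x, y⁆⁆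
  have h3 := orderOf_dvd_of_pow_eq_one (triple_pow_three hα.commute_conj x y z)
  rw [hk] at h3
  rcases k with _ | k
  · rwa [pow_zero, orderOf_eq_one_iff] at hk
  · exact absurd ((dvd_pow_self 2 k.succ_ne_zero).trans h3) (by norm_num)

variable {τ : MulAut H}

theorem inverting_conj (hτ : ∀ n, τ n * n * (τ n * n) = 1) (n : H) :
    α (τ (α⁻¹ n)) * n * (α (τ (α⁻¹ n)) * n) = 1 := by
  have h := congrArg α (hτ (α⁻¹ n))
  simpa using h

/-- Squares lie in any invariant central subgroup with commutative quotient. -/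
theorem sq_mem (hα : FPF3 α) (hrel : ∀ x, α (τ (α⁻¹ x)) = α (α (τ x)))
    (hτ : ∀ n, τ n * n * (τ n * n) = 1)
    (Z : Subgroup H) (hZc : Z ≤ center H) (hZα : ∀ z ∈ Z, α z ∈ Z)
    (hcomm : ∀ a b : H, ⁅a, b⁆ ∈ Z) (n : H) : n * n ∈ Z := by
  haveI : Z.Normal := ⟨fun z hz g => by rw [mem_center_iff.1 (hZc hz) g, mul_inv_cancel_right]; exact hz⟩
  let π := QuotientGroup.mk' Z
  have hc : ∀ a b : H, π a * π b = π b * π a := fun a b => by
    rw [← commutatorElement_eq_one_iff_mul_comm, ← map_commutatorElement]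
    exact (QuotientGroup.eq_one_iff _).2 (hcomm a b)
  have key : ∀ (σ : H → H), (∀ n, σ n * n * (σ n * n) = 1) → π (σ n * σ n) = (π (n * n))⁻¹ := by
    intro σ hσ
    refine eq_inv_of_mul_eq_one_left ?_
    have := congrArg π (hσ n)
    rw [map_one] at this
    rw [← this]
    simp only [map_mul]
    rw [show π (σ n) * π n * (π (σ n) * π n) = π (σ n) * (π n * π (σ n)) * π n by group,
      ← hc (σ n) n]
    group
  have h1 := key τ hτ
  have h2 := key (fun m => α (τ (α⁻¹ m))) (inverting_conj hτ)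
  simp only [hrel, ← map_mul] at h2
  have hZα2 : ∀ z ∈ Z, α (α z) ∈ Z := fun z hz => hZα _ (hZα z hz)
  rw [← map_mul τ] at h1
  have h3 : π (α (α (n * n))) = π (n * n) := by
    have hmem : n * n * τ (n * n) ∈ Z := by
      refine (QuotientGroup.eq_one_iff (N := Z) _).1 ?_
      change π (n * n * τ (n * n)) = 1
      rw [map_mul π, h1, mul_inv_cancel]
    have h4 : π (α (α (n * n * τ (n * n)))) = 1 := (QuotientGroup.eq_one_iff _).2 (hZα2 _ hmem)
    simp only [map_mul] at h4 h2 ⊢
    rw [h2] at h4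
    exact mul_inv_eq_one.1 h4
  set z := (n * n)⁻¹ * α (α (n * n)) with hz
  have hzZ : z ∈ Z := by
    refine (QuotientGroup.eq_one_iff (N := Z) _).1 ?_
    change π ((n * n)⁻¹ * α (α (n * n))) = 1
    rw [map_mul π, map_inv, h3, inv_mul_cancel]
  have hfpf2 : ∀ x, α (α x) = x → x = 1 := fun x hx => hα.fpf 1 x (by
    have h := congrArg α hx
    rw [hα.cube'] at h
    simpa using h.symm)
  let F : Z → Z := fun c => ⟨(c : H)⁻¹ * α (α c), mul_mem (inv_mem c.2) (hZα2 _ c.2)⟩
  have hF : Function.Injective F := by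
    intro a b hab
    have hab' : (a : H)⁻¹ * α (α a) = (b : H)⁻¹ * α (α b) := congrArg Subtype.val hab
    refine Subtype.ext (mul_inv_eq_one.1 (hfpf2 _ ?_))
    have h5 : α (α (a : H)) = a * ((b : H)⁻¹ * α (α b)) := by rw [← hab', mul_inv_cancel_left]
    rw [map_mul, map_mul, map_inv, map_inv, h5]
    group
  obtain ⟨c, hc'⟩ := (Finite.injective_iff_surjective.1 hF) ⟨z⁻¹, inv_mem hzZ⟩
  have hc'' : α (α (c : H)) = c * z⁻¹ := by
    rw [← show (c : H)⁻¹ * α (α (c : H)) = z⁻¹ from congrArg Subtype.val hc', mul_inv_cancel_left]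
  have hfix : α (α (n * n * c)) = n * n * c := by
    rw [map_mul, map_mul, hc'', show α (α (n * n)) = n * n * z by rw [hz, mul_inv_cancel_left],
      mem_center_iff.1 (hZc (inv_mem hzZ)) c]
    group
  rw [eq_inv_of_mul_eq_one_left (hfpf2 _ hfix)]
  exact inv_mem c.2

/-- With an inverting involution the group is elementary abelian. -/
theorem elementary (hα : FPF3 α) (h2 : IsPGroup 2 H) (hrel : ∀ x, α (τ (α⁻¹ x)) = α (α (τ x)))
    (hτ : ∀ n, τ n * n * (τ n * n) = 1) : ∀ a b : H, a * b = b * a ∧ a * a = 1 := by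
  have hC := hα.class_two h2
  have hαC : ∀ z ∈ center H, α z ∈ center H := fun z hz =>
    mem_center_iff.2 fun g => by
      have h := congrArg α (mem_center_iff.1 hz (α⁻¹ g))
      simpa using h
  have hsqZ : ∀ n : H, n * n ∈ center H := sq_mem hα hrel hτ _ le_rfl hαC hC
  have hlin : ∀ a b c : H, ⁅a * b, c⁆ = ⁅a, c⁆ * ⁅b, c⁆ := by
    intro a b c
    calc ⁅a * b, c⁆ = a * ⁅b, c⁆ * (b * b⁻¹) * c * a⁻¹ * c⁻¹ := by simp only [commutatorElement_def]; group
      _ = ⁅b, c⁆ * a * (b * b⁻¹) * c * a⁻¹ * c⁻¹ := by rw [mem_center_iff.1 (hC b c) a]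
      _ = ⁅b, c⁆ * ⁅a, c⁆ := by simp only [commutatorElement_def]; group
      _ = _ := mem_center_iff.1 (hC a c) _
  have hlin' : ∀ a b c : H, ⁅a, b * c⁆ = ⁅a, b⁆ * ⁅a, c⁆ := by
    intro a b c
    rw [← commutatorElement_inv (b * c) a, hlin, mul_inv_rev, commutatorElement_inv, commutatorElement_inv]
    exact (mem_center_iff.1 (hC a c) _).symm
  have hc2 : ∀ a b : H, ⁅a, b⁆ * ⁅a, b⁆ = 1 := fun a b => by
    rw [← hlin a a b, commutatorElement_eq_one_iff_mul_comm]
    exact (mem_center_iff.1 (hsqZ a) b).symm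
  have hsym : ∀ a b : H, ⁅b, a⁆ = ⁅a, b⁆ := fun a b => by
    rw [← commutatorElement_inv a b]; exact inv_eq_of_mul_eq_one_right (hc2 a b)
  let InU : H → Prop := fun u => ∃ n c, c ∈ center H ∧ c * c = 1 ∧ u = τ n * n * c
  have hUsq : ∀ u, InU u → u * u = 1 := by
    rintro _ ⟨n, c, hc, hc1, rfl⟩
    rw [mul_assoc (τ n * n) c, ← mul_assoc c, ← mem_center_iff.1 hc, mul_assoc (τ n * n) c c, hc1,
      mul_one, hτ n]
  have hUmul : ∀ u w, InU u → InU w → InU (u * w) := by
    rintro _ _ ⟨n, c, hc, hc1, rfl⟩ ⟨m, d, hd, hd1, rfl⟩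
    refine ⟨n * m, ⁅n, τ m⁆ * c * d, mul_mem (mul_mem (hC _ _) hc) hd, ?_, ?_⟩
    · have e1 : Commute (⁅n, τ m⁆ * c) d := mem_center_iff.1 hd _
      have e2 : Commute ⁅n, τ m⁆ c := mem_center_iff.1 hc _
      calc ⁅n, τ m⁆ * c * d * (⁅n, τ m⁆ * c * d)
          = ⁅n, τ m⁆ * c * (d * (⁅n, τ m⁆ * c)) * d := by group
        _ = ⁅n, τ m⁆ * c * ((⁅n, τ m⁆ * c) * d) * d := by rw [e1.eq]
        _ = ⁅n, τ m⁆ * (c * ⁅n, τ m⁆) * c * (d * d) := by group
        _ = 1 := by rw [← e2.eq, hd1, mul_one, ← mul_assoc, hc2, one_mul, hc1]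
    · have e3 : n * τ m = ⁅n, τ m⁆ * (τ m * n) := by simp only [commutatorElement_def]; group
      calc τ n * n * c * (τ m * m * d) = τ n * n * (c * (τ m * m)) * d := by group
        _ = τ n * n * ((τ m * m) * c) * d := by rw [mem_center_iff.1 hc]
        _ = τ n * (n * τ m) * m * c * d := by group
        _ = τ n * ⁅n, τ m⁆ * (τ m * n * m) * c * d := by rw [e3]; group
        _ = ⁅n, τ m⁆ * (τ n * (τ m * n * m)) * c * d := by
            rw [mem_center_iff.1 (hC n (τ m))]; group
        _ = _ := by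
            rw [← mem_center_iff.1 (hC n (τ m)), map_mul]; group
  have hUU : ∀ u w, InU u → InU w → Commute u w := by
    intro u w hu hw
    have h := hUsq _ (hUmul u w hu hw)
    change u * w = w * u
    calc u * w = (u * w)⁻¹ := eq_inv_of_mul_eq_one_left h
      _ = w * u := by
        rw [mul_inv_rev, ← eq_inv_of_mul_eq_one_left (hUsq u hu), ← eq_inv_of_mul_eq_one_left (hUsq w hw)]
  have hpair : ∀ u w, InU u → InU w → ⁅u, α w⁆ = 1 := by
    intro u w hu hw
    have hzero : ∀ a b : H, Commute a b → ⁅a, b⁆ = 1 := fun a b h =>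
      commutatorElement_eq_one_iff_mul_comm.2 h.eq
    have h1 : ∀ x, Commute x (α x) := fun x => by simpa using hα.commute_twist 1 x
    have h2' : ⁅u, α w⁆ = ⁅w, α u⁆ := by
      have h := hzero _ _ (h1 (u * w))
      rw [map_mul, hlin, hlin', hlin', hzero _ _ (h1 u), hzero _ _ (h1 w), one_mul, mul_one] at h
      rw [eq_inv_of_mul_eq_one_left h, commutatorElement_inv, hsym]
    have hw2 : α (α w) = α w * w := by
      rw [eq_inv_of_mul_eq_one_right (hα.prod w), mul_inv_rev,
        ← eq_inv_of_mul_eq_one_left (hUsq w hw),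
        ← eq_inv_of_mul_eq_one_left (show α w * α w = 1 by rw [← map_mul, hUsq w hw, map_one])]
    refine hα.fpf 1 _ ?_
    rw [one_mul, inv_one, mul_one, map_commutatorElement, hw2, hlin', ← map_commutatorElement,
      hzero _ _ (hUU u w hu hw), map_one, one_mul, hsym, ← h2']
  have hab : ∀ a b : H, a * b = b * a := by
    let Sset : Set H := {u | InU u} ∪ (α '' {u | InU u}) ∪ ((fun x => α (α x)) '' {u | InU u}) ∪ (center H : Set H)
    have hcc : ∀ a ∈ Sset, ∀ b ∈ Sset, a * b = b * a := by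
      have c01 : ∀ u w, InU u → InU w → Commute u (α w) := fun u w hu hw =>
        commutatorElement_eq_one_iff_mul_comm.1 (hpair u w hu hw)
      have c12 : ∀ u w, InU u → InU w → Commute (α u) (α (α w)) := fun u w hu hw =>
        (c01 u w hu hw).map α.toMonoidHom
      have c20 : ∀ u w, InU u → InU w → Commute (α (α u)) w := fun u w hu hw => by
        have := ((c01 u w hu hw).map α.toMonoidHom).map α.toMonoidHom
        simpa [hα.cube'] using this
      rintro a (((ha | ⟨u, hu, rfl⟩) | ⟨u, hu, rfl⟩) | ha) b (((hb | ⟨w, hw, rfl⟩) | ⟨w, hw, rfl⟩) | hb)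
      all_goals first
        | exact mem_center_iff.1 hb _
        | exact (mem_center_iff.1 ha _).symm
        | exact hUU _ _ ha hb
        | exact c01 _ _ ha hw
        | exact (c20 _ _ hw ha).symm
        | exact (c01 _ _ hb hu).symm
        | exact (hUU _ _ hu hw).map α.toMonoidHom
        | exact c12 _ _ hu hw
        | exact c20 _ _ hu hb
        | exact (c12 _ _ hw hu).symm
        | exact ((hUU _ _ hu hw).map α.toMonoidHom).map α.toMonoidHom
    have hall : ∀ v, v ∈ closure Sset := by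
      intro v
      have hU0 : ∀ n, InU (τ n * n) := fun n => ⟨n, 1, one_mem _, one_mul 1, (mul_one _).symm⟩
      have e0 : α (τ (α⁻¹ v) * α⁻¹ v) = α (α (τ v)) * v := by
        rw [map_mul, hrel, MulAut.apply_inv_self]
      have hswap : ∀ z, τ (α⁻¹ z) = α (τ z) := fun z => α.injective (hrel z)
      have hrel2 : ∀ y, α (α (τ (α⁻¹ (α⁻¹ y)))) = α (τ y) := fun y => by
        rw [hswap, hswap, hα.cube']
      have e1 : α (α (τ (α⁻¹ (α⁻¹ v)) * α⁻¹ (α⁻¹ v))) = α (τ v) * v := by
        rw [map_mul, map_mul, MulAut.apply_inv_self, MulAut.apply_inv_self, hrel2]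
      set T := τ v with hT
      have hP : (T * v) * (α (α T) * v) * (α T * v) ∈ closure Sset := by
        refine mul_mem (mul_mem (subset_closure ?_) (subset_closure ?_)) (subset_closure ?_)
        · exact Or.inl (Or.inl (Or.inl (hU0 v)))
        · exact Or.inl (Or.inl (Or.inr ⟨_, hU0 (α⁻¹ v), e0⟩))
        · exact Or.inl (Or.inr ⟨_, hU0 (α⁻¹ (α⁻¹ v)), e1⟩)
      have hz : v⁻¹ * ((T * v) * (α (α T) * v) * (α T * v)) ∈ center H := by
        let π := QuotientGroup.mk' (center H)
        have hc : ∀ a b : H, π a * π b = π b * π a := fun a b => by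
          rw [← commutatorElement_eq_one_iff_mul_comm, ← map_commutatorElement]
          exact (QuotientGroup.eq_one_iff _).2 (hC a b)
        have hT3 : π T * π (α T) * π (α (α T)) = 1 := by
          rw [← map_mul, ← map_mul, hα.prod T, map_one]
        have hv2 : π v * π v = 1 := by
          rw [← map_mul]; exact (QuotientGroup.eq_one_iff _).2 (hsqZ v)
        refine (QuotientGroup.eq_one_iff _).1 ?_
        change π (v⁻¹ * ((T * v) * (α (α T) * v) * (α T * v))) = 1
        simp only [map_mul, map_inv]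
        calc (π v)⁻¹ * (π T * π v * (π (α (α T)) * π v) * (π (α T) * π v))
            = (π v)⁻¹ * (π T * π v * ((π (α (α T)) * π v) * π (α T)) * π v) := by group
          _ = (π v)⁻¹ * (π T * π v * (π (α T) * (π (α (α T)) * π v)) * π v) := by
              rw [← map_mul π (α (α T)) v, hc (α (α T) * v) (α T)]
          _ = (π v)⁻¹ * (π T * (π v * π (α T)) * π (α (α T)) * (π v * π v)) := by group
          _ = (π v)⁻¹ * (π T * (π (α T) * π v) * π (α (α T))) := by rw [hc v (α T), hv2, mul_one]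
          _ = (π v)⁻¹ * (π T * π (α T) * (π v * π (α (α T)))) := by group
          _ = (π v)⁻¹ * (π T * π (α T) * π (α (α T)) * π v) := by rw [hc v (α (α T))]; group
          _ = 1 := by rw [hT3, one_mul, inv_mul_cancel]
      have := mul_mem hP (inv_mem (subset_closure (show v⁻¹ * ((T * v) * (α (α T) * v) * (α T * v)) ∈ Sset from Or.inr hz)))
      simpa [mul_assoc] using this
    intro a b
    haveI := isMulCommutative_closure (k := Sset) hcc
    exact congrArg Subtype.val ((isMulCommutative_closure (k := Sset) hcc).is_comm.comm ⟨a, hall a⟩ ⟨b, hall b⟩)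
  intro a b
  refine ⟨hab a b, ?_⟩
  have hbot := sq_mem hα hrel hτ ⊥ bot_le (fun z hz => by rw [mem_bot] at hz ⊢; rw [hz, map_one])
    (fun x y => mem_bot.2 (commutatorElement_eq_one_iff_mul_comm.2 (hab x y))) a
  exact mem_bot.1 hbot

end Operators

/-- A Sylow `2`-subgroup meeting a nontrivial normal `3`-subgroup is fixed-point-free on it. -/
theorem fpf_of_pGroups (hS : Small G) {p q : ℕ} (hpq : p = 2 ∧ q = 3 ∨ p = 3 ∧ q = 2)
    {A K : Subgroup G} (hA : IsPGroup p A) (hK : IsPGroup q K) :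
    ∀ a ∈ A, a ≠ 1 → K ⊓ centralizer {a} = ⊥ := by
  intro a ha ha1
  rw [eq_bot_iff]
  intro k hk
  obtain ⟨i, hi⟩ := hA ⟨a, ha⟩
  obtain ⟨j, hj⟩ := hK ⟨k, hk.1⟩
  have hc : Commute a k := (mem_centralizer_singleton_iff.1 hk.2).symm
  have hi' : a ^ p ^ i = 1 := congrArg Subtype.val hi
  have hj' : k ^ q ^ j = 1 := congrArg Subtype.val hj
  rw [mem_bot]
  rcases hpq with ⟨rfl, rfl⟩ | ⟨rfl, rfl⟩
  · exact (eq_one_of_commute hS hi' hj' hc).resolve_left ha1
  · exact (eq_one_of_commute hS hj' hi' hc.symm).resolve_right ha1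

theorem small_quotient (hS : Small G) (N : Subgroup G) [N.Normal] : Small (G ⧸ N) := by
  intro g
  obtain ⟨g, rfl⟩ := QuotientGroup.mk'_surjective N g
  exact (Nat.le_of_dvd (orderOf_pos g) (orderOf_map_dvd _ g)).trans (hS g)

/-- The case of a nontrivial normal `3`-subgroup. -/
theorem case_three (hS : Small G) (h4 : ∃ g : G, orderOf g = 4) (hN1 : Cfsg.pCore 3 G ≠ ⊥) :
    ∃ (N : Subgroup G) (_ : N.Normal), Cfsg.IsElementaryAbelian 3 N ∧
      ((IsCyclic (G ⧸ N) ∧ N.index = 4) ∨ Nonempty (G ⧸ N ≃* QuaternionGroup 2)) := by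
  classical
  haveI : Fact (Nat.Prime 2) := ⟨Nat.prime_two⟩
  haveI : Fact (Nat.Prime 3) := ⟨Nat.prime_three⟩
  set N := Cfsg.pCore 3 G with hN
  have hN3 : IsPGroup 3 N := CfsgLib.Solvable.Cores.isPGroup_pCore 3
  haveI hNn : N.Normal := CfsgLib.Solvable.Cores.pCore_normal 3
  obtain ⟨g, hg⟩ := h4
  obtain ⟨S, hgS⟩ := (IsPGroup.of_card (p := 2) (G := zpowers g) (n := 2)
    (by rw [Nat.card_zpowers, hg]; norm_num)).exists_le_sylow
  have hgS' : g ∈ (S : Subgroup G) := hgS (mem_zpowers g)
  have hfpf := fpf_of_pGroups hS (Or.inl ⟨rfl, rfl⟩) S.2 hN3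
  have hAK : (S : Subgroup G) ≤ normalizer (N : Set G) := le_normalizer_of_normal
  have hfew := CfsgLib.FrobRealize.FPF.card_roots_le hN1 hAK hfpf S.2
  have hexp : ∀ a : S, orderOf a ≤ 4 := fun a => by
    rw [← Subgroup.orderOf_coe]; exact hS a
  have hgo : orderOf (⟨g, hgS'⟩ : S) = 4 := by rw [Subgroup.orderOf_mk]; exact hg
  have htype : (IsCyclic S ∧ Nat.card S = 4) ∨ Nonempty (S ≃* QuaternionGroup 2) := by
    rcases CfsgLib.FrobRealize.Quaternion.cyclic_or_quaternion S.2 hfew with hc | ⟨-, n, ⟨e⟩⟩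
    · refine Or.inl ⟨hc, ?_⟩
      obtain ⟨a, ha⟩ := hc.exists_generator
      have h1 : Nat.card S = orderOf a := (orderOf_eq_card_of_forall_mem_zpowers ha).symm
      have h2 := hexp a
      have h3 : orderOf (⟨g, hgS'⟩ : S) ≤ Nat.card S :=
        Nat.le_of_dvd Nat.card_pos (orderOf_dvd_natCard _)
      omega
    · have hn : n ≤ 1 := by
        by_contra hlt
        have h1 := hexp (e.symm (QuaternionGroup.a 1))
        rw [MulEquiv.orderOf_eq, QuaternionGroup.orderOf_a_one] at h1
        have : 2 ^ 2 ≤ 2 ^ n := Nat.pow_le_pow_right (by norm_num) (by omega)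
        omega
      interval_cases n
      · left
        have h4' : Nat.card S = 4 := by
          rw [Nat.card_congr e.toEquiv, Nat.card_eq_fintype_card, QuaternionGroup.card]; norm_num
        exact ⟨isCyclic_of_orderOf_eq_card (⟨g, hgS'⟩ : S) (by rw [hgo, h4']), h4'⟩
      · exact Or.inr ⟨by simpa using e⟩
  -- the quotient is a `2`-group
  have hinf : (S : Subgroup G) ⊓ N = ⊥ := IsPGroup.disjoint_of_ne 2 3 (by norm_num) _ _ S.2 hN3 |>.eq_bot
  have hndvd : ¬ 3 ∣ N.index := by
    intro hd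
    rw [index_eq_card] at hd
    obtain ⟨y, hy⟩ := exists_prime_orderOf_dvd_card' 3 hd
    have hSq := small_quotient hS N
    haveI : Nontrivial (G ⧸ N) := ⟨⟨y, 1, fun h => by rw [h, orderOf_one] at hy; exact absurd hy (by norm_num)⟩⟩
    have h3q : Cfsg.pCore 3 (G ⧸ N) = ⊥ := by
      rw [eq_bot_iff]
      intro x hx
      obtain ⟨x, rfl⟩ := QuotientGroup.mk'_surjective N x
      haveI := CfsgLib.Solvable.Cores.pCore_normal (G := G ⧸ N) 3
      have h1 : IsPGroup 3 ((Cfsg.pCore 3 (G ⧸ N)).comap (QuotientGroup.mk' N)) :=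
        (CfsgLib.Solvable.Cores.isPGroup_pCore 3).comap_of_ker_isPGroup _ (by rw [QuotientGroup.ker_mk']; exact hN3)
      have h2 := CfsgLib.Solvable.Cores.le_pCore h1 (show x ∈ (Cfsg.pCore 3 (G ⧸ N)).comap (QuotientGroup.mk' N) from hx)
      exact mem_bot.2 ((QuotientGroup.eq_one_iff x).2 h2)
    have h2q : Cfsg.pCore 2 (G ⧸ N) ≠ ⊥ := (exists_pCore_ne_bot hSq).resolve_right fun h => h h3q
    set O := Cfsg.pCore 2 (G ⧸ N) with hO
    haveI : O.Normal := CfsgLib.Solvable.Cores.pCore_normal 2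
    have hO2 : IsPGroup 2 O := CfsgLib.Solvable.Cores.isPGroup_pCore 2
    set Sq := S.mapSurjective (QuotientGroup.mk'_surjective N) with hSqdef
    have hOS : O ≤ (Sq : Subgroup (G ⧸ N)) := by
      obtain ⟨T, hT⟩ := hO2.exists_le_sylow
      obtain ⟨c, hc⟩ := MulAction.exists_smul_eq (G ⧸ N) T Sq
      rw [← hc]
      intro x hx
      refine ⟨c⁻¹ * x * c, hT ?_, ?_⟩
      · simpa using Normal.conj_mem (inferInstance : O.Normal) x hx c⁻¹
      · simp [mul_assoc]
    have hbot : 2 ∣ Nat.card O := by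
      obtain ⟨k, hk⟩ := IsPGroup.iff_card.1 hO2
      rcases k with _ | k
      · exact absurd (card_eq_one.1 (by rw [hk, pow_zero])) h2q
      · exact hk ▸ dvd_pow_self 2 k.succ_ne_zero
    obtain ⟨u, hu⟩ := exists_prime_orderOf_dvd_card' 2 hbot
    have hu' : orderOf (u : G ⧸ N) = 2 := by rw [Subgroup.orderOf_coe]; exact hu
    have huniq : ∀ x ∈ O, x ^ 2 = 1 → x ≠ 1 → x = u := by
      intro x hx hx2 hx1
      by_contra hne
      have hmem : ∀ z ∈ (Sq : Subgroup (G ⧸ N)), ∃ a : S, (QuotientGroup.mk' N) (a : G) = z := by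
        rintro z ⟨a, ha, rfl⟩; exact ⟨⟨a, ha⟩, rfl⟩
      obtain ⟨a, ha⟩ := hmem x (hOS hx)
      obtain ⟨b, hb⟩ := hmem u (hOS u.2)
      have hinjS : ∀ c : S, (QuotientGroup.mk' N) (c : G) = 1 → c = 1 := fun c hc => by
        have h' : (c : G) ∈ (S : Subgroup G) ⊓ N := ⟨c.2, (QuotientGroup.eq_one_iff _).1 hc⟩
        rw [hinf, mem_bot] at h'
        exact Subtype.ext h'
      have ha2 : a ^ 2 = 1 := hinjS _ (by rw [SubmonoidClass.coe_pow, map_pow, ha, hx2])
      have hb2 : b ^ 2 = 1 := hinjS _ (by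
        rw [SubmonoidClass.coe_pow, map_pow, hb, ← hu', pow_orderOf_eq_one])
      have ha1 : a ≠ 1 := fun h => hx1 (by rw [← ha, h]; exact map_one _)
      have hb1 : b ≠ 1 := fun h => by
        rw [h] at hb; rw [← hb, OneMemClass.coe_one, map_one, orderOf_one] at hu'; norm_num at hu'
      have hab : a ≠ b := fun h => hne (by rw [← ha, h, hb])
      let F : Fin 3 → {c : S // c ^ 2 = 1} := ![⟨1, one_pow 2⟩, ⟨a, ha2⟩, ⟨b, hb2⟩]
      have hF : Function.Injective F := by
        intro i j h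
        have h' := congrArg Subtype.val h
        fin_cases i <;> fin_cases j <;>
          first
            | rfl
            | exact (ha1 h'.symm).elim
            | exact (ha1 h').elim
            | exact (hb1 h'.symm).elim
            | exact (hb1 h').elim
            | exact (hab h').elim
            | exact (hab h'.symm).elim
      have h := (Nat.card_le_card_of_injective F hF).trans hfew
      simp at h
    have hu1 : (u : G ⧸ N) ≠ 1 := fun h => by rw [h, orderOf_one] at hu'; norm_num at hu'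
    have hcomm : Commute (u : G ⧸ N) y := by
      have h := huniq (y * u * y⁻¹) (Normal.conj_mem inferInstance _ u.2 y)
        (by rw [conj_pow, ← hu', pow_orderOf_eq_one]; group) (by simpa using hu1)
      exact (mul_inv_eq_iff_eq_mul.1 h).symm
    rcases eq_one_of_commute hSq (i := 1) (j := 1) (by rw [pow_one, ← hu', pow_orderOf_eq_one])
      (by rw [pow_one, ← hy, pow_orderOf_eq_one]) hcomm with h | h
    · exact hu1 h
    · rw [h, orderOf_one] at hy; exact absurd hy (by norm_num)
  -- `S` is a complement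
  have hbij : Function.Bijective ((QuotientGroup.mk' N).comp (S : Subgroup G).subtype) := by
    have hinj : Function.Injective ((QuotientGroup.mk' N).comp (S : Subgroup G).subtype) := by
      rw [injective_iff_map_eq_one]
      intro x hx
      have h' : (x : G) ∈ (S : Subgroup G) ⊓ N := ⟨x.2, (QuotientGroup.eq_one_iff _).1 hx⟩
      rw [hinf, mem_bot] at h'
      exact Subtype.ext h'
    refine ⟨hinj, ?_⟩
    have hle := Nat.card_le_card_of_injective _ hinj
    have hge : Nat.card (G ⧸ N) ≤ Nat.card S := by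
      rw [← index_eq_card]
      have hpos : N.index ≠ 0 := index_ne_zero_of_finite
      obtain ⟨a, b, hab⟩ := card_eq hS
      have hd : N.index ∣ 2 ^ a * 3 ^ b := hab ▸ N.index_dvd_card
      have hd2 : N.index ∣ 2 ^ a :=
        (Nat.Coprime.pow_right b ((Nat.Prime.coprime_iff_not_dvd Nat.prime_three).2 hndvd).symm).dvd_of_dvd_mul_right hd
      refine Nat.le_of_dvd Nat.card_pos ?_
      rw [S.card_eq_multiplicity]
      obtain ⟨i, hi, hieq⟩ := (Nat.dvd_prime_pow Nat.prime_two).1 hd2
      rw [hieq]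
      refine pow_dvd_pow 2 ((Nat.Prime.pow_dvd_iff_le_factorization Nat.prime_two Nat.card_pos.ne').1 ?_)
      rw [← hieq]; exact N.index_dvd_card
    exact ((Nat.bijective_iff_injective_and_card _).2 ⟨hinj, le_antisymm hle hge⟩).2
  let e := MulEquiv.ofBijective _ hbij
  refine ⟨N, hNn, ?_, ?_⟩
  · -- an involution of `S` inverts `N`
    have hg2 : orderOf (g ^ 2) = 2 := by rw [orderOf_pow, hg]; norm_num
    have hz1 : g ^ 2 ≠ 1 := fun h => by rw [h, orderOf_one] at hg2; norm_num at hg2
    let φ : N →* N := (MulAut.conjNormal (g ^ 2) : MulAut N).toMonoidHom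
    have hfix : MonoidHom.FixedPointFree φ := by
      intro x hx
      have hx' : (g ^ 2) * (x : G) * (g ^ 2)⁻¹ = x := congrArg Subtype.val hx
      have := hfpf (g ^ 2) (pow_mem hgS' 2) hz1
      have hm : (x : G) ∈ N ⊓ centralizer {g ^ 2} :=
        ⟨x.2, mem_centralizer_singleton_iff.2 (mul_inv_eq_iff_eq_mul.1 hx').symm⟩
      rw [this, mem_bot] at hm
      exact Subtype.ext hm
    have hinv : Function.Involutive φ := by
      intro x
      apply Subtype.ext
      change g ^ 2 * (g ^ 2 * (x : G) * (g ^ 2)⁻¹) * (g ^ 2)⁻¹ = (x : G)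
      have h22 : (g ^ 2) * (g ^ 2) = 1 := by
        rw [← pow_two]; exact orderOf_dvd_iff_pow_eq_one.1 hg2.dvd
      calc g ^ 2 * (g ^ 2 * (x : G) * (g ^ 2)⁻¹) * (g ^ 2)⁻¹
          = (g ^ 2 * g ^ 2) * (x : G) * (g ^ 2 * g ^ 2)⁻¹ := by group
        _ = (x : G) := by rw [h22]; group
    refine ⟨⟨⟨fun a b => hfix.commute_all_of_involutive hinv a b⟩⟩, fun a ha => ?_⟩
    obtain ⟨j, hj⟩ := hN3 ⟨a, ha⟩
    rcases pow_cases hS a with h | h | h
    · rw [h, one_pow]
    · obtain ⟨j', -, hj'⟩ := (Nat.dvd_prime_pow Nat.prime_three).1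
        (orderOf_dvd_of_pow_eq_one (show a ^ 3 ^ j = 1 from congrArg Subtype.val hj))
      have h1 := orderOf_dvd_of_pow_eq_one h
      rw [hj'] at h1
      rcases j' with _ | j'
      · rw [pow_zero, orderOf_eq_one_iff] at hj'; rw [hj', one_pow]
      · exact absurd ((dvd_pow_self 3 j'.succ_ne_zero).trans h1) (by norm_num)
    · exact h
  · rcases htype with ⟨hc, h4'⟩ | ⟨⟨e'⟩⟩
    · exact Or.inl ⟨isCyclic_of_surjective e e.surjective, by
        rw [index_eq_card, ← Nat.card_congr e.toEquiv, h4']⟩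
    · exact Or.inr ⟨e.symm.trans e'⟩

/-- The case of a nontrivial normal `2`-subgroup and trivial `3`-core. -/
theorem case_two (hS : Small G) (h4 : ∃ g : G, orderOf g = 4) (h3d : 3 ∣ Nat.card G)
    (hO3 : Cfsg.pCore 3 G = ⊥) :
    ∃ (N : Subgroup G) (_ : N.Normal),
      (IsPGroup 2 N ∧ Monoid.exponent N = 4 ∧ Group.nilpotencyClass N ≤ 2 ∧ N.index = 3) ∨
      (Cfsg.IsElementaryAbelian 2 N ∧ Nonempty (G ⧸ N ≃* Equiv.Perm (Fin 3))) := by
  classical
  haveI : Fact (Nat.Prime 2) := ⟨Nat.prime_two⟩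
  haveI : Fact (Nat.Prime 3) := ⟨Nat.prime_three⟩
  haveI : Nontrivial G := Finite.one_lt_card_iff_nontrivial.1
    (lt_of_lt_of_le (by norm_num) (Nat.le_of_dvd Nat.card_pos h3d))
  have hN1 : Cfsg.pCore 2 G ≠ ⊥ := (exists_pCore_ne_bot hS).resolve_right fun h => h hO3
  set N := Cfsg.pCore 2 G with hN
  have hN2 : IsPGroup 2 N := CfsgLib.Solvable.Cores.isPGroup_pCore 2
  haveI hNn : N.Normal := CfsgLib.Solvable.Cores.pCore_normal 2
  obtain ⟨R⟩ : Nonempty (Sylow 3 G) := inferInstance
  have hfpf := fpf_of_pGroups hS (Or.inr ⟨rfl, rfl⟩) R.2 hN2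
  have hfew := CfsgLib.FrobRealize.FPF.card_roots_le hN1 le_normalizer_of_normal hfpf R.2
  have hR3 : Nat.card R = 3 := by
    obtain ⟨k, hk⟩ := IsPGroup.iff_card.1 R.2
    have hall : ∀ x : R, x ^ 3 = 1 := by
      intro x
      obtain ⟨j, hj⟩ := R.2 x
      rcases pow_cases hS (x : G) with h | h | h
      · rw [show x = 1 from Subtype.ext h, one_pow]
      · have h1 : orderOf x ∣ 4 := orderOf_dvd_of_pow_eq_one (Subtype.ext h)
        obtain ⟨j', -, hj'⟩ := (Nat.dvd_prime_pow Nat.prime_three).1 (orderOf_dvd_of_pow_eq_one hj)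
        rw [hj'] at h1
        rcases j' with _ | j'
        · rw [pow_zero, orderOf_eq_one_iff] at hj'; rw [hj', one_pow]
        · exact absurd ((dvd_pow_self 3 j'.succ_ne_zero).trans h1) (by norm_num)
      · exact Subtype.ext h
    have hle : Nat.card R ≤ 3 := by
      refine le_trans ?_ hfew
      exact Nat.card_le_card_of_injective (fun x => (⟨x, hall x⟩ : {x : R // x ^ 3 = 1}))
        fun a b h => congrArg Subtype.val h
    have hd := R.dvd_card_of_dvd_card h3d
    have := Nat.le_of_dvd Nat.card_pos hd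
    omega
  obtain ⟨S⟩ : Nonempty (Sylow 2 G) := inferInstance
  obtain ⟨a, b, hcard⟩ := card_eq hS
  have hf2 : (Nat.card G).factorization 2 = a ∧ (Nat.card G).factorization 3 = b := by
    rw [hcard, Nat.factorization_mul (by positivity) (by positivity), Nat.prime_two.factorization_pow,
      Nat.prime_three.factorization_pow]
    simp
  have hS2c : Nat.card S = 2 ^ a := by rw [S.card_eq_multiplicity, hf2.1]
  have hR3c : Nat.card R = 3 ^ b := by rw [R.card_eq_multiplicity, hf2.2]
  have hSi : (S : Subgroup G).index = 3 := by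
    have h := (S : Subgroup G).card_mul_index
    rw [hcard, ← hR3c, hR3, hS2c] at h
    exact Nat.eq_of_mul_eq_mul_left (by positivity) h
  have hcore : (S : Subgroup G).normalCore = N := by
    refine le_antisymm ?_ ?_
    · exact CfsgLib.Solvable.Cores.le_pCore (S.2.to_le (normalCore_le _))
    · rw [normal_le_normalCore]
      obtain ⟨T, hT⟩ := hN2.exists_le_sylow
      obtain ⟨c, hc⟩ := MulAction.exists_smul_eq G T S
      rw [← hc]
      intro x hx
      refine ⟨c⁻¹ * x * c, hT ?_, ?_⟩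
      · simpa using Normal.conj_mem hNn x hx c⁻¹
      · simp [mul_assoc]
  let ρ := MulAction.toPermHom G (G ⧸ (S : Subgroup G))
  have hker : ρ.ker = N := by rw [← hcore, Subgroup.normalCore_eq_ker]
  have hNle : N ≤ (S : Subgroup G) := hcore ▸ normalCore_le _
  have hidx : N.index = 3 ∨ N.index = 6 := by
    have h1 : N.index ∣ 6 := by
      rw [← hker, index_ker]
      refine (card_subgroup_dvd_card _).trans ?_
      rw [Nat.card_perm, ← index_eq_card, hSi]
      norm_num [Nat.factorial]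
    have h2 : 3 ∣ N.index := hSi ▸ index_dvd_of_le hNle
    have h3 := Nat.le_of_dvd (by norm_num) h1
    obtain ⟨c, hc⟩ := h2
    have h4 : c ≤ 2 := by omega
    interval_cases c
    · exact absurd hc index_ne_zero_of_finite
    · exact Or.inl hc
    · exact Or.inr hc
  obtain ⟨r, hr⟩ := exists_prime_orderOf_dvd_card' (G := R) 3 (by rw [hR3])
  have hrG : orderOf (r : G) = 3 := by rw [Subgroup.orderOf_coe]; exact hr
  have hrN : (r : G) ∉ N := by
    intro h
    obtain ⟨k, hk⟩ := IsPGroup.iff_orderOf.1 hN2 ⟨(r : G), h⟩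
    rw [Subgroup.orderOf_mk, hrG] at hk
    rcases k with _ | k
    · norm_num at hk
    · have : 2 ∣ 3 := hk ▸ dvd_pow_self 2 k.succ_ne_zero
      norm_num at this
  have hr3' : (r : G) ^ 3 = 1 := orderOf_dvd_iff_pow_eq_one.1 hrG.dvd
  have hord : ∀ n ∈ N, (n * (r : G)) ^ 3 = 1 := by
    intro n hn
    have hq : (QuotientGroup.mk' N) n = 1 := (QuotientGroup.eq_one_iff _).2 hn
    rcases pow_cases hS (n * (r : G)) with h | h | h
    · rw [h, one_pow]
    · exfalso
      refine hrN ((QuotientGroup.eq_one_iff _).1 ?_)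
      have h' := congrArg (QuotientGroup.mk' N) h
      rw [map_pow, map_mul, hq, one_mul, map_one, show (4 : ℕ) = 3 + 1 from rfl, pow_succ, ← map_pow,
        hr3', map_one, one_mul] at h'
      exact h'
    · exact h
  let α : MulAut N := MulAut.conjNormal (r : G)
  have hα : FPF3 α := by
    constructor
    · intro g x
      apply Subtype.ext
      have h := hord g g.2
      simp only [pow_succ, pow_zero, one_mul] at h
      simp only [α, coe_mul, coe_inv, MulAut.conjNormal_apply]
      calc _ = ((g : G) * r * ((g : G) * r) * ((g : G) * r)) * (x : G) * ((g : G) * r * ((g : G) * r) * ((g : G) * r))⁻¹ := by group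
        _ = x := by rw [h]; group
    · intro g x hx
      have hx' : (g : G) * ((r : G) * x * (r : G)⁻¹) * (g : G)⁻¹ = x := congrArg Subtype.val hx
      have hc : Commute (x : G) ((g : G) * r) := by
        have e : ((g : G) * r) * (x : G) * ((g : G) * r)⁻¹ = x :=
          (show _ = (g : G) * ((r : G) * x * (r : G)⁻¹) * (g : G)⁻¹ by group).trans hx'
        exact (mul_inv_eq_iff_eq_mul.1 e).symm
      obtain ⟨i, hi⟩ := hN2 x
      rcases eq_one_of_commute hS (show (x : G) ^ 2 ^ i = 1 from congrArg Subtype.val hi)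
        (j := 1) (by rw [pow_one]; exact hord g g.2) hc with h | h
      · exact Subtype.ext h
      · refine absurd ?_ hrN
        rw [eq_inv_of_mul_eq_one_right h]
        exact inv_mem g.2
  refine ⟨N, hNn, ?_⟩
  rcases hidx with h3 | h6
  · -- `G / N` of order three
    have hSN : (S : Subgroup G) = N := by
      have h1 := Subgroup.relIndex_mul_index hNle
      rw [hSi, h3] at h1
      refine le_antisymm (relIndex_eq_one.1 ?_) hNle
      omega
    left
    refine ⟨hN2, ?_, ?_, h3⟩
    · obtain ⟨g, hg⟩ := h4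
      obtain ⟨T, hT⟩ := (IsPGroup.of_card (p := 2) (G := zpowers g) (n := 2)
        (by rw [Nat.card_zpowers, hg]; norm_num)).exists_le_sylow
      obtain ⟨c, hc⟩ := MulAction.exists_smul_eq G S T
      have hgN : g ∈ N := by
        have h := hT (mem_zpowers g)
        rw [← hc] at h
        obtain ⟨y, hy, rfl⟩ := h
        exact Normal.conj_mem hNn y (hSN ▸ hy) c
      refine Nat.dvd_antisymm (Monoid.exponent_dvd_of_forall_pow_eq_one fun x => Subtype.ext
        (two_part hS hN2 x.2)) ?_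
      rw [← hg, ← Subgroup.orderOf_mk g hgN]
      exact Monoid.order_dvd_exponent _
    · haveI : Group.IsNilpotent N := hN2.isNilpotent
      rw [← Subgroup.lowerCentralSeries_eq_bot_iff_nilpotencyClass_le, eq_bot_iff,
        Subgroup.lowerCentralSeries_succ, Subgroup.lowerCentralSeries_succ,
        Subgroup.lowerCentralSeries_zero]
      refine le_of_eq (commutator_eq_bot_iff_le_centralizer.2 ?_)
      refine (commutator_le.2 fun x _ y _ => ?_)
      exact center_le_centralizer _ (hα.class_two hN2 x y)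
  · -- `G / N` of order six
    right
    have hRN : (R : Subgroup G) ⊓ N = ⊥ := IsPGroup.disjoint_of_ne 3 2 (by norm_num) _ _ R.2 hN2 |>.eq_bot
    set NR := normalizer ((R : Subgroup G) : Set G) with hNR
    have hNRN : NR ⊓ N = ⊥ := by
      rw [eq_bot_iff]
      intro n hn
      have h1 : (r : G) * n * (r : G)⁻¹ * n⁻¹ ∈ (R : Subgroup G) ⊓ N := by
        refine ⟨?_, N.mul_mem (Normal.conj_mem hNn n hn.2 _) (N.inv_mem hn.2)⟩
        have hr2 : (r : G) ∈ (R : Subgroup G) := r.2
        have hri : (r : G)⁻¹ ∈ (R : Subgroup G) := (R : Subgroup G).inv_mem hr2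
        have h3 : n * (r : G)⁻¹ * n⁻¹ ∈ (R : Subgroup G) := (mem_normalizer_iff.1 hn.1 _).1 hri
        have h4 := mul_mem hr2 h3
        rw [show (r : G) * n * (r : G)⁻¹ * n⁻¹ = (r : G) * (n * (r : G)⁻¹ * n⁻¹) by group]
        exact h4
      rw [hRN, mem_bot, mul_inv_eq_one] at h1
      have h5 : (n : G) ∈ N ⊓ centralizer {(r : G)} :=
        ⟨hn.2, mem_centralizer_singleton_iff.2 (mul_inv_eq_iff_eq_mul.1 h1).symm⟩
      rw [hfpf r r.2 (fun h => by rw [h, orderOf_one] at hrG; norm_num at hrG)] at h5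
      exact h5
    have heven : 2 ∣ Nat.card NR := by
      have hsup : NR ⊔ N ⊔ (N ⊔ (R : Subgroup G)) = ⊤ := by
        set M := N ⊔ (R : Subgroup G) with hM
        have hMi : M.index ∣ 2 := by
          have h1 : M.index ∣ 6 := h6 ▸ index_dvd_of_le le_sup_left
          have hRi : ¬ 3 ∣ M.index := fun h =>
            R.not_dvd_index (h.trans (index_dvd_of_le le_sup_right))
          exact ((Nat.prime_three.coprime_iff_not_dvd.2 hRi).symm).dvd_of_dvd_mul_right
            (show M.index ∣ 2 * 3 from h1)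
        haveI hMn : M.Normal := by
          rcases (Nat.dvd_prime Nat.prime_two).1 hMi with h | h
          · rw [index_eq_one.1 h]; infer_instance
          · exact normal_of_index_eq_two h
        have := Sylow.normalizer_sup_eq_top' (R : Sylow 3 G) (le_sup_right : (R : Subgroup G) ≤ M)
        rw [eq_top_iff, ← this]
        exact sup_le (le_sup_left.trans le_sup_left) le_sup_right
      have htop : NR ⊔ N = ⊤ := by
        rw [eq_top_iff, ← hsup]
        exact sup_le le_rfl (sup_le le_sup_right (Subgroup.le_normalizer.trans le_sup_left))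
      have h1 : N.relIndex NR = N.index := by
        rw [← relIndex_sup_right, htop, relIndex_top_right]
      have h2 : N.relIndex NR = Nat.card NR := by
        rw [relIndex, show N.subgroupOf NR = ⊥ by
          rw [← Subgroup.inf_subgroupOf_left, hNRN, Subgroup.bot_subgroupOf], index_bot]
      rw [← h2, h1, h6]; norm_num
    obtain ⟨t, ht⟩ := exists_prime_orderOf_dvd_card' 2 heven
    have htG : orderOf (t : G) = 2 := by rw [Subgroup.orderOf_coe]; exact ht
    have htt : (t : G) * t = 1 := by rw [← pow_two, ← htG, pow_orderOf_eq_one]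
    have ht1 : (t : G) ≠ 1 := fun h => by rw [h, orderOf_one] at htG; norm_num at htG
    have htN : (t : G) ∉ N := fun h => by
      have hb : (t : G) ∈ NR ⊓ N := ⟨t.2, h⟩
      rw [hNRN, mem_bot] at hb; exact ht1 hb
    -- `t` inverts `r`
    have hinvr : (t : G) * r * (t : G)⁻¹ = (r : G)⁻¹ := by
      have hmem : (t : G) * r * (t : G)⁻¹ ∈ (R : Subgroup G) := (mem_normalizer_iff.1 t.2 _).1 r.2
      have hgen : zpowers r = ⊤ := eq_top_of_card_eq _ (by rw [Nat.card_zpowers, hr, hR3])
      obtain ⟨k, hk⟩ := mem_zpowers_iff.1 (hgen ▸ mem_top (⟨_, hmem⟩ : R) : (⟨_, hmem⟩ : R) ∈ zpowers r)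
      have hk' : (r : G) ^ k = (t : G) * r * (t : G)⁻¹ := by
        rw [← SubgroupClass.coe_zpow, hk]
      rw [← zpow_mod_orderOf, hrG] at hk'
      have hk0 : k % 3 = 0 ∨ k % 3 = 1 ∨ k % 3 = 2 := by omega
      rcases hk0 with h | h | h <;> simp only [Nat.cast_ofNat, h] at hk'
      · rw [zpow_zero] at hk'
        exfalso
        have : (r : G) = 1 := by simpa using conj_eq_one_iff.1 hk'.symm
        rw [this, orderOf_one] at hrG; norm_num at hrG
      · rw [zpow_one] at hk'
        exfalso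
        have hc : Commute (t : G) (r : G) := mul_inv_eq_iff_eq_mul.1 hk'.symm
        rcases eq_one_of_commute hS (i := 1) (j := 1) (by rw [pow_one, pow_two, htt])
          (by rw [pow_one]; exact hr3') hc with h' | h'
        · exact ht1 h'
        · rw [h', orderOf_one] at hrG; norm_num at hrG
      · rw [← hk']
        refine eq_inv_of_mul_eq_one_left ?_
        rw [← zpow_add_one, show (2 : ℤ) + 1 = ((3 : ℕ) : ℤ) from rfl, zpow_natCast, hr3']
    let τ : MulAut N := MulAut.conjNormal (t : G)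
    have hτ : ∀ n : N, τ n * n * (τ n * n) = 1 := by
      intro n
      have h4' : ((t : G) * n) ^ 4 = 1 := by
        rcases pow_cases hS ((t : G) * n) with h | h | h
        · rw [h, one_pow]
        · exact h
        · exfalso
          refine htN ((QuotientGroup.eq_one_iff _).1 ?_)
          have h' := congrArg (QuotientGroup.mk' N) h
          rw [map_pow, map_mul, show (QuotientGroup.mk' N) (n : G) = 1 from (QuotientGroup.eq_one_iff _).2 n.2,
            mul_one, map_one, pow_succ, ← map_pow, pow_two, htt, map_one, one_mul] at h'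
          exact h'
      apply Subtype.ext
      simp only [coe_mul, τ, MulAut.conjNormal_apply, coe_one]
      rw [inv_eq_of_mul_eq_one_right htt]
      calc (t : G) * n * t * n * ((t : G) * n * t * n) = ((t : G) * n) ^ 4 := by
            simp only [pow_succ, pow_zero, one_mul, mul_assoc]
        _ = 1 := h4'
    have hrel : ∀ x : N, α (τ (α⁻¹ x)) = α (α (τ x)) := by
      intro x
      apply Subtype.ext
      simp only [α, τ, ← map_inv, MulAut.conjNormal_apply]
      have e : (t : G) * (r : G)⁻¹ = r * t := by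
        have h' := congrArg (fun w => w⁻¹ * (t : G)) hinvr
        simp only [mul_inv_rev, inv_inv, mul_assoc, inv_mul_cancel, mul_one] at h'
        exact h'
      rw [inv_inv]
      calc (r : G) * ((t : G) * ((r : G)⁻¹ * x * r) * (t : G)⁻¹) * (r : G)⁻¹
          = (r : G) * ((t : G) * (r : G)⁻¹) * x * ((r : G) * ((t : G) * (r : G)⁻¹))⁻¹ := by group
        _ = _ := by rw [e]; group
    obtain hel := elementary hα hN2 hrel hτ
    refine ⟨⟨⟨⟨fun x y => (hel x y).1⟩⟩, fun x hx => ?_⟩, ?_⟩
    · rw [pow_two]; exact congrArg Subtype.val (hel ⟨x, hx⟩ 1).2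
    · have hperm : Nat.card (Equiv.Perm (G ⧸ (S : Subgroup G))) = 6 := by
        rw [Nat.card_perm, ← index_eq_card, hSi]; norm_num [Nat.factorial]
      have hbij : Function.Bijective (QuotientGroup.kerLift ρ) :=
        (Nat.bijective_iff_injective_and_card _).2 ⟨QuotientGroup.kerLift_injective ρ, by
          rw [← index_eq_card, hker, h6, hperm]⟩
      haveI : Finite (G ⧸ (S : Subgroup G)) := inferInstance
      exact ⟨((QuotientGroup.quotientMulEquivOfEq hker).symm.trans (MulEquiv.ofBijective _ hbij)).trans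
        (Finite.equivFinOfCardEq (by rw [← index_eq_card, hSi])).permCongrHom⟩

end CfsgLib.Frobenius.OrdersUpToFour
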