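import Mathlib
import Cfsg.Agent.Lib.Perm.Basic

/-!
# Coordinates in prime degree adapted to an inverting involution
-/

set_option autoImplicit false

namespace CfsgLib.Frobenius.PrimeDegree

open scoped Pointwise

variable {α : Type*} [Fintype α] {p : ℕ} [Fact p.Prime]

/-- In a transitive group of odd prime degree whose Sylow `p`-normaliser has even order, the
points can be labelled by `ZMod p` so that one element adds one and another negates. -/
theorem exists_coord_neg [DecidableEq α] (hα : Fintype.card α = p) (hp4 : 3 ≤ p)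
    (G : Subgroup (Equiv.Perm α)) [MulAction.IsPretransitive G α] (P : Sylow p G)
    (heven : Even (Nat.card (Subgroup.normalizer ((P : Subgroup G) : Set G)))) :
    ∃ (s t : G) (e : α ≃ ZMod p), (P : Subgroup G) = Subgroup.zpowers s ∧ orderOf s = p ∧
      (∀ x, e (s • x) = e x + 1) ∧ (∀ x, e (t • x) = - e x) := by
  classical
  have hp : p.Prime := Fact.out
  have hα' : Nat.card α = p := by rw [Nat.card_eq_fintype_card]; exact hα
  have hodd : Odd p := hp.odd_of_ne_two (by omega)
  haveI : Fact (Nat.Prime 2) := ⟨Nat.prime_two⟩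
  obtain ⟨t, ht⟩ := exists_prime_orderOf_dvd_card' (G := Subgroup.normalizer ((P : Subgroup G) : Set G)) 2 heven.two_dvd
  have ht' : orderOf (t : G) = 2 := by rw [Subgroup.orderOf_coe, ht]
  obtain ⟨a⟩ : Nonempty α := Fintype.card_pos_iff.mp (hα ▸ hp.pos)
  -- a generator `s` of the Sylow subgroup, inverted by `t`
  have hPc : Nat.card (P : Subgroup G) = p := by
    have hd : p ∣ Nat.card G := hα' ▸ (by
      have : Nonempty α := ⟨a⟩
      exact CfsgLib.Perm.Basic.card_dvd_card (G := G) (Ω := α))
    have h1 : Nat.card G ∣ p.factorial := by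
      rw [← hα', ← Nat.card_perm]; exact Subgroup.card_subgroup_dvd_card G
    rw [P.card_eq_multiplicity]
    have h2 : (Nat.card G).factorization p ≤ 1 := by
      by_contra hlt
      have h3 : p ^ 2 ∣ p.factorial :=
        ((pow_dvd_pow p (by omega : 2 ≤ (Nat.card G).factorization p)).trans
          (Nat.ordProj_dvd _ _)).trans h1
      rw [← Nat.mul_factorial_pred hp.ne_zero, pow_two] at h3
      have h4 := Nat.dvd_of_mul_dvd_mul_left hp.pos h3
      rw [hp.dvd_factorial] at h4
      omega
    have h5 := (Nat.Prime.dvd_iff_one_le_factorization hp Nat.card_pos.ne').mp hd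
    rw [show (Nat.card G).factorization p = 1 by omega, pow_one]
  haveI : IsCyclic (P : Subgroup G) := isCyclic_of_prime_card hPc
  obtain ⟨s, hs⟩ := IsCyclic.exists_ofOrder_eq_natCard (α := (P : Subgroup G))
  rw [hPc] at hs
  have hPtr := CfsgLib.Perm.Basic.sylow_isPretransitive (f := 1) (Ω := α) (by rw [hα', pow_one]) P
  have hgen : ∀ g : (P : Subgroup G), ∃ n : ℕ, s ^ n = g := fun g => by
    have : g ∈ Subgroup.zpowers s := mem_zpowers_of_prime_card hPc fun h => by
      rw [h, orderOf_one] at hs; exact hp.one_lt.ne hs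
    exact (mem_powers_iff_mem_zpowers.mpr this)
  let s' : G := s
  have hstr : ∀ x y : α, ∃ n : ℕ, (s' ^ n) • x = y := fun x y => by
    obtain ⟨g, hg⟩ := MulAction.exists_smul_eq (P : Subgroup G) x y
    obtain ⟨n, rfl⟩ := hgen g
    exact ⟨n, hg⟩
  have hts : (t : G) * s' * (t : G)⁻¹ = (s' : G)⁻¹ := by
    obtain ⟨k, hk⟩ := hgen ⟨(t : G) * s' * (t : G)⁻¹, (Subgroup.mem_normalizer_iff.mp t.2 _).mp s.2⟩
    have hk' : s' ^ k = (t : G) * s' * (t : G)⁻¹ := congrArg Subtype.val hk
    have ht2 : (t : G) * (t : G) = 1 := by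
      rw [← pow_two, ← ht']; exact pow_orderOf_eq_one _
    have hsq : s' ^ (k * k) = s' := by
      have : (s' ^ k) ^ k = (t : G) * (s' ^ k) * (t : G)⁻¹ := by
        conv_lhs => rw [hk', conj_pow]
      rw [pow_mul, this, hk']
      have hti : (t : G)⁻¹ = t := inv_eq_of_mul_eq_one_right ht2
      simp only [hti, ← mul_assoc, ht2, one_mul]
      rw [mul_assoc, ht2, mul_one]
    have hmod : k * k ≡ 1 [MOD p] := by
      have : s' ^ (k * k) = s' ^ 1 := by rw [hsq, pow_one]
      rwa [pow_eq_pow_iff_modEq, Subgroup.orderOf_coe, hs] at this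
    have hz : ((k : ZMod p) - 1) * ((k : ZMod p) + 1) = 0 := by
      have : ((k * k : ℕ) : ZMod p) = ((1 : ℕ) : ZMod p) := (ZMod.natCast_eq_natCast_iff _ _ _).mpr hmod
      push_cast at this
      linear_combination this
    rcases mul_eq_zero.mp hz with h0 | h0
    · exfalso
      have hcomm : (t : G) * s' * (t : G)⁻¹ = s' := by
        rw [← hk']
        conv_rhs => rw [← pow_one s']
        rw [pow_eq_pow_iff_modEq, Subgroup.orderOf_coe, hs, ← ZMod.natCast_eq_natCast_iff]
        simpa [sub_eq_zero] using h0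
      have hc : Commute (t : G) s' := mul_inv_eq_iff_eq_mul.mp hcomm
      obtain ⟨x, hx⟩ : ∃ x : α, (t : G) • x = x := by
        obtain ⟨x, hx⟩ := (IsPGroup.of_card (G := Subgroup.zpowers (t : G)) (p := 2) (n := 1)
          (by rw [Nat.card_zpowers, ht', pow_one])).nonempty_fixed_point_of_prime_not_dvd_card α
          (by rw [hα']; exact fun hd => absurd ((Nat.prime_dvd_prime_iff_eq Nat.prime_two hp).mp hd) (by omega))
        exact ⟨x, hx ⟨t, Subgroup.mem_zpowers _⟩⟩
      have : (t : G) = 1 := by
        apply Subtype.ext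
        refine Equiv.ext fun y => ?_
        obtain ⟨n, rfl⟩ := hstr x y
        change (t : G) • (s' ^ n) • x = (1 : G) • (s' ^ n) • x
        rw [one_smul, smul_smul, (hc.pow_right n).eq, mul_smul, hx]
      rw [this, orderOf_one] at ht'; omega
    · rw [← hk']
      apply eq_inv_of_mul_eq_one_left
      rw [← pow_succ, ← orderOf_dvd_iff_pow_eq_one, Subgroup.orderOf_coe, hs,
        ← ZMod.natCast_eq_zero_iff]
      push_cast
      exact h0
  obtain ⟨x₀, hx₀⟩ : ∃ x : α, (t : G) • x = x := by
    obtain ⟨x, hx⟩ := (IsPGroup.of_card (G := Subgroup.zpowers (t : G)) (p := 2) (n := 1)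
      (by rw [Nat.card_zpowers, ht', pow_one])).nonempty_fixed_point_of_prime_not_dvd_card α
      (by rw [hα']; exact fun hd => absurd ((Nat.prime_dvd_prime_iff_eq Nat.prime_two hp).mp hd) (by omega))
    exact ⟨x, hx ⟨t, Subgroup.mem_zpowers _⟩⟩
  let F : ZMod p → α := fun j => (s' ^ j.val) • x₀
  have hsp : ∀ n : ℕ, (s' ^ (n % p)) • x₀ = (s' ^ n) • x₀ := fun n => by
    rw [← hs, ← Subgroup.orderOf_coe, pow_mod_orderOf]
  have hF : Function.Bijective F := (Nat.bijective_iff_surjective_and_card F).mpr ⟨fun y => by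
    obtain ⟨n, hn⟩ := hstr x₀ y
    exact ⟨n, by change s' ^ (n : ZMod p).val • x₀ = y; rw [ZMod.val_natCast, hsp, hn]⟩,
    by rw [Nat.card_zmod, hα']⟩
  let e := (Equiv.ofBijective F hF).symm
  have he : ∀ j, e (F j) = j := fun j => (Equiv.ofBijective F hF).symm_apply_apply j
  have hFn : ∀ n : ℕ, F (n : ZMod p) = (s' ^ n) • x₀ := fun n => by
    change s' ^ (n : ZMod p).val • x₀ = _; rw [ZMod.val_natCast, hsp]
  have hes : ∀ x, e (s' • x) = e x + 1 := fun x => by
    obtain ⟨j, rfl⟩ := hF.2 x
    rw [he]
    have : s' • F j = F (j + 1) := by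
      rw [show j + 1 = ((j.val + 1 : ℕ) : ZMod p) by simp, hFn, pow_succ', mul_smul]
    rw [this, he]
  have het : ∀ x, e ((t : G) • x) = - e x := fun x => by
    obtain ⟨j, rfl⟩ := hF.2 x
    rw [he]
    have : (t : G) • F j = F (-j) := by
      have h1 : (t : G) • F j = ((t : G) * s' * (t : G)⁻¹) ^ j.val • x₀ := by
        have hi : (t : G)⁻¹ • x₀ = x₀ := by rw [inv_smul_eq_iff, hx₀]
        rw [conj_pow, mul_smul, mul_smul, hi]
      rw [h1, hts, show -j = (((p - 1) * j.val : ℕ) : ZMod p) by simp [Nat.cast_sub hp.one_le], hFn]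
      congr 1
      have key : ∀ v : ℕ, v + (p - 1) * v = p * v := fun v => by
        calc v + (p - 1) * v = (p - 1 + 1) * v := by ring
          _ = p * v := by rw [Nat.sub_add_cancel hp.one_le]
      have hsp1 : s' ^ p = 1 := by
        have := pow_orderOf_eq_one s
        rw [hs] at this
        exact congrArg Subtype.val this
      rw [inv_pow, inv_eq_iff_mul_eq_one, ← pow_add, key, pow_mul, hsp1, one_pow]
    rw [this, he]
  refine ⟨s', t, e, ?_, by rw [Subgroup.orderOf_coe, hs], hes, het⟩
  refine le_antisymm (fun g hg => ?_) (Subgroup.zpowers_le.mpr s.2)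
  obtain ⟨n, hn⟩ := hgen ⟨g, hg⟩
  exact ⟨n, (zpow_natCast s' n).trans (congrArg Subtype.val hn)⟩

end CfsgLib.Frobenius.PrimeDegree

namespace CfsgLib.Frobenius.PrimeDegree

open scoped Pointwise

variable {α : Type*} [Fintype α] {p : ℕ} [Fact p.Prime]

/-- In a doubly transitive group of degree `p` containing a translation and the negation, a
subgroup of index `p` fixes a point: its orbit would be a cyclic difference set fixed by `-1`. -/
theorem exists_eq_stabilizer (G : Subgroup (Equiv.Perm α))
    (h2 : MulAction.IsMultiplyPretransitive G α 2) (H : Subgroup G) (hpH : ¬ p ∣ Nat.card H)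
    (s t : G) (e : α ≃ ZMod p) (hs : orderOf s = p) (hes : ∀ x, e (s • x) = e x + 1)
    (het : ∀ x, e (t • x) = - e x) (hesn : ∀ (n : ℕ) (x : α), e (s ^ n • x) = e x + n)
    (heq : ∀ a : α, H ≤ MulAction.stabilizer G a → H = MulAction.stabilizer G a)
    (hH : H.index = p) : ∃ a : α, H = MulAction.stabilizer G a := by
  classical
  have hp : p.Prime := Fact.out
  by_contra hcon
  have hnofix : ∀ a : α, ∃ h : H, h • a ≠ a := fun a => by
    by_contra h
    push Not at h
    exact hcon ⟨a, heq a fun x hx => h ⟨x, hx⟩⟩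
  let D : Set α := MulAction.orbit H (e.symm 0)
  have hDH : ∀ h ∈ H, ∀ x, x ∈ D → h • x ∈ D := fun h hh x hx =>
    MulAction.mem_orbit_of_mem_orbit (⟨h, hh⟩ : H) hx
  -- the left cosets of `H` are those of the powers of `s`
  have hsH : ∀ i j : ZMod p, (s ^ i.val)⁻¹ * s ^ j.val ∈ H → i = j := by
    intro i j hij
    let y : G := s ^ ((j.val : ℤ) - i.val)
    have hy : y ∈ H := by
      have : y = (s ^ i.val)⁻¹ * s ^ j.val := by
        simp only [y, sub_eq_neg_add, zpow_add, zpow_neg, zpow_natCast]
      rw [this]; exact hij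
    have h1 : orderOf y ∣ p := orderOf_dvd_of_pow_eq_one (by
      have hsp : s ^ (p : ℤ) = 1 := by rw [zpow_natCast, ← hs]; exact pow_orderOf_eq_one s
      rw [← zpow_natCast, ← zpow_mul, mul_comm, zpow_mul, hsp, one_zpow])
    rcases (Nat.dvd_prime hp).mp h1 with h | h
    · have h0 : (orderOf s : ℤ) ∣ (j.val : ℤ) - i.val :=
        orderOf_dvd_iff_zpow_eq_one.mpr (orderOf_eq_one_iff.mp h)
      rw [hs] at h0
      rw [← ZMod.intCast_zmod_eq_zero_iff_dvd] at h0 <;> try exact p
      · push_cast at h0
        rw [ZMod.natCast_zmod_val, ZMod.natCast_zmod_val, sub_eq_zero] at h0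
        exact h0.symm
    · exfalso
      have h3 := orderOf_dvd_natCard (G := H) ⟨y, hy⟩
      rw [← Subgroup.orderOf_coe] at h3
      exact hpH (h ▸ h3)
  have hcos : Function.Bijective (fun i : ZMod p => (QuotientGroup.mk (s ^ i.val) : G ⧸ H)) :=
    (Nat.bijective_iff_injective_and_card _).mpr
      ⟨fun i j hij => hsH i j (QuotientGroup.eq.mp hij), by
        rw [Nat.card_zmod, ← H.index_eq_card, hH]⟩
  let D' : Finset (ZMod p) := Finset.univ.filter fun z => e.symm z ∈ D
  have hblock : ∀ g : G, ∃ i : ZMod p, ∀ x, g • x ∈ (fun y => s ^ i.val • y) '' D ↔ x ∈ D := by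
    intro g
    obtain ⟨i, hi⟩ := hcos.2 (QuotientGroup.mk g)
    have hh : (s ^ i.val)⁻¹ * g ∈ H := QuotientGroup.eq.mp hi
    refine ⟨i, fun x => ⟨fun ⟨y, hy, hy'⟩ => ?_, fun hx => ⟨((s ^ i.val)⁻¹ * g) • x, hDH _ hh x hx, ?_⟩⟩⟩
    · have : x = ((s ^ i.val)⁻¹ * g)⁻¹ • y := by
        rw [eq_inv_smul_iff, mul_smul, inv_smul_eq_iff]; exact hy'.symm
      rw [this]; exact hDH _ (H.inv_mem hh) y hy
    · change s ^ i.val • _ = g • x
      rw [smul_smul, mul_inv_cancel_left]
  have hmem : ∀ (i : ZMod p) (x : α), x ∈ (fun y => s ^ i.val • y) '' D ↔ e x - i ∈ D' := by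
    intro i x
    simp only [D', Finset.mem_filter, Finset.mem_univ, true_and, Set.mem_image]
    constructor
    · rintro ⟨y, hy, rfl⟩
      rwa [hesn, ZMod.natCast_zmod_val, add_sub_cancel_right, e.symm_apply_apply]
    · intro h
      exact ⟨_, h, e.injective (by rw [hesn, ZMod.natCast_zmod_val, e.apply_symm_apply, sub_add_cancel])⟩
  -- every element permutes the translates of `D'`
  have hperm : ∀ g : G, ∀ i : ZMod p, ∃ j : ZMod p, ∀ x, e x - i ∈ D' ↔ e (g • x) - j ∈ D' := by
    intro g i
    obtain ⟨j, hj⟩ := hblock (g * s ^ i.val)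
    refine ⟨j, fun x => ?_⟩
    rw [← hmem, ← hmem]
    have := hj ((s ^ i.val)⁻¹ • x)
    rw [mul_smul, smul_inv_smul] at this
    rw [this]
    exact ⟨fun ⟨y, hy, hyx⟩ => by rw [← hyx, inv_smul_smul]; exact hy,
      fun h => ⟨_, h, smul_inv_smul _ _⟩⟩
  have hne : D'.Nonempty := ⟨0, Finset.mem_filter.mpr ⟨Finset.mem_univ _, MulAction.mem_orbit_self _⟩⟩
  have htrans : ∀ c : ZMod p, c ≠ 0 → (∀ z, z ∈ D' → z + c ∈ D') → ∀ z, z ∈ D' := by
    intro c hc h z
    obtain ⟨d, hd⟩ := hne
    have : ∀ n : ℕ, d + n * c ∈ D' := fun n => by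
      induction n with
      | zero => simpa using hd
      | succ n ih => have := h _ ih; push_cast; rwa [add_mul, one_mul, ← add_assoc]
    have h3 := this ((z - d) / c).val
    rwa [ZMod.natCast_zmod_val, div_mul_cancel₀ _ hc, add_sub_cancel] at h3
  have hnotall : ¬ ∀ z, z ∈ D' := by
    intro hall
    have hD : D = Set.univ := Set.eq_univ_of_forall fun x => by
      have := (Finset.mem_filter.mp (hall (e x))).2
      rwa [e.symm_apply_apply] at this
    have h1 : Nat.card D ∣ Nat.card H := by
      have := MulAction.index_stabilizer H (e.symm 0)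
      rw [← Nat.card_coe_set_eq] at this
      exact this ▸ (MulAction.stabilizer H (e.symm 0)).index_dvd_card
    rw [hD, Nat.card_coe_set_eq, Set.ncard_univ, Nat.card_congr e, Nat.card_zmod] at h1
    exact hpH h1
  have hinj : ∀ i j : ZMod p, (∀ z, z - i ∈ D' ↔ z - j ∈ D') → i = j := by
    intro i j hij
    by_contra hne'
    refine hnotall (htrans (i - j) (sub_ne_zero.mpr hne') fun z hz => ?_)
    have := (hij (z + i)).mp (by simpa using hz)
    rwa [show z + (i - j) = z + i - j by ring]
  let N : ZMod p → ZMod p → ℕ := fun a b =>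
    (Finset.univ.filter fun i : ZMod p => a - i ∈ D' ∧ b - i ∈ D').card
  have hN : ∀ (g : G) (x y : α), N (e x) (e y) = N (e (g • x)) (e (g • y)) := by
    intro g x y
    choose j hj using hperm g
    refine Finset.card_bij (fun i _ => j i) ?_ ?_ ?_
    · intro i hi
      simpa [← hj] using hi
    · intro i _ i' _ hii'
      exact hinj i i' fun z => by
        have h1 := hj i (e.symm z); have h2 := hj i' (e.symm z)
        rw [e.apply_symm_apply] at h1 h2
        rw [h1, h2, hii']
    · intro k hk
      choose j' hj' using hperm g⁻¹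
      have hk' : j (j' k) = k := hinj _ _ fun z => by
        have h1 := hj (j' k) (g⁻¹ • e.symm z); have h2 := hj' k (e.symm z)
        rw [smul_inv_smul] at h1
        rw [e.apply_symm_apply] at h1 h2
        rw [← h1, ← h2]
      exact ⟨j' k, by simp [hj (j' k), hk'] at hk ⊢; exact hk, hk'⟩
  -- normalise `D'` to a symmetric translate
  obtain ⟨c, hc⟩ := hperm t 0
  let d : ZMod p := c / 2
  have h2ne : (2 : ZMod p) ≠ 0 := by
    intro h
    have h' : ((2 : ℕ) : ZMod p) = 0 := by exact_mod_cast h
    rw [ZMod.natCast_eq_zero_iff] at h'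
    have hp2 : p = 2 := (Nat.prime_dvd_prime_iff_eq hp Nat.prime_two).mp h'
    -- in degree two every subgroup of index two fixes a point
    have hle : ∀ z, z ∈ D' := by
      obtain ⟨h0, hh0⟩ := hnofix (e.symm 0)
      intro z
      subst hp2
      have h01 : ∀ w : ZMod 2, w = 0 ∨ w = 1 := fun w => by
        fin_cases w
        · exact Or.inl rfl
        · exact Or.inr rfl
      rcases h01 z with rfl | rfl
      · exact Finset.mem_filter.mpr ⟨Finset.mem_univ _, MulAction.mem_orbit_self _⟩
      · refine Finset.mem_filter.mpr ⟨Finset.mem_univ _, h0, ?_⟩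
        rcases h01 (e (h0 • e.symm 0)) with h1 | h1
        · exact absurd (e.injective (h1.trans (e.apply_symm_apply 0).symm)) hh0
        · exact e.injective (h1.trans (e.apply_symm_apply 1).symm)
    exact hnotall hle
  let E : Finset (ZMod p) := Finset.univ.filter fun z => z - d ∈ D'
  have hEsym : ∀ z, z ∈ E ↔ -z ∈ E := by
    intro z
    simp only [E, Finset.mem_filter, Finset.mem_univ, true_and]
    have h1 := hc (e.symm (z - d))
    rw [het, e.apply_symm_apply, sub_zero] at h1
    rw [h1, show -(z - d) - c = -z - d by simp only [d]; field_simp; ring]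
  have hlam : ∀ z w : ZMod p, z ≠ 0 → w ≠ 0 →
      (E.filter fun x => x + z ∈ E).card = (E.filter fun x => x + w ∈ E).card := by
    have key : ∀ z : ZMod p, N 0 z = (E.filter fun x => x + z ∈ E).card := fun z => by
      refine Finset.card_bij (fun i _ => d - i) ?_ ?_ ?_
      · intro i hi
        simp only [E, Finset.mem_filter, Finset.mem_univ, true_and] at hi ⊢
        exact ⟨by rw [show d - i - d = 0 - i by ring]; exact hi.1,
          by rw [show d - i + z - d = z - i by ring]; exact hi.2⟩
      · intro i _ j _ h; simpa using h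
      · intro x hx
        simp only [E, Finset.mem_filter, Finset.mem_univ, true_and] at hx
        refine ⟨d - x, ?_, sub_sub_cancel d x⟩
        simp only [Finset.mem_filter, Finset.mem_univ, true_and]
        exact ⟨by rw [show 0 - (d - x) = x - d by ring]; exact hx.1,
          by rw [show z - (d - x) = x + z - d by ring]; exact hx.2⟩
    intro z w hz hw
    have hex : ∀ {a b c d : α}, a ≠ b → c ≠ d → ∃ g : G, g • a = c ∧ g • b = d :=
      MulAction.is_two_pretransitive_iff.mp h2
    obtain ⟨g, hg0, hgz⟩ := hex (a := e.symm 0) (b := e.symm z) (c := e.symm 0) (d := e.symm w)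
      (fun h => hz (e.symm.injective h).symm) (fun h => hw (e.symm.injective h).symm)
    rw [← key, ← key]
    have := hN g (e.symm 0) (e.symm z)
    rwa [hg0, hgz, e.apply_symm_apply, e.apply_symm_apply, e.apply_symm_apply] at this
  have hpar : ∀ z : ZMod p, z ≠ 0 →
      (E.filter fun x => x + z ∈ E).card % 2 = if -z / 2 ∈ E then 1 else 0 := by
    intro z hz
    have hinv : ∀ x, x ∈ E.filter (fun x => x + z ∈ E) → -z - x ∈ E.filter (fun x => x + z ∈ E) := by
      intro x hx
      simp only [Finset.mem_filter] at hx ⊢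
      exact ⟨by rw [hEsym, show -(-z - x) = x + z by ring]; exact hx.2,
        by rw [show -z - x + z = -x by ring]; exact (hEsym x).mp hx.1⟩
    set S := E.filter (fun x => x + z ∈ E) with hS
    have hfix : S.filter (fun x => -z - x = x) = if -z / 2 ∈ E then {-z / 2} else ∅ := by
      ext x
      simp only [Finset.mem_filter]
      have hiff : -z - x = x ↔ x = -z / 2 := by
        rw [eq_div_iff h2ne]; constructor <;> intro h <;> linear_combination -h
      rw [hiff]
      split_ifs with h
      · rw [Finset.mem_singleton]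
        refine ⟨fun hx => hx.2, fun hx => ⟨?_, hx⟩⟩
        subst hx
        refine Finset.mem_filter.mpr ⟨h, ?_⟩
        rw [hEsym] at h
        rwa [show -z / 2 + z = -(-z / 2) by field_simp; ring]
      · simp only [Finset.notMem_empty, iff_false, not_and]
        intro hx h'
        exact h (h' ▸ (Finset.mem_filter.mp hx).1)
    have hrest : Even (S.filter (fun x => ¬ (-z - x = x))).card := by
      rw [← ZMod.natCast_eq_zero_iff_even, Finset.cast_card]
      refine Finset.sum_involution (fun x _ => -z - x) (fun x _ => by decide)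
        (fun x hx _ => (Finset.mem_filter.mp hx).2) (fun x hx => ?_) (fun x _ => by ring)
      refine Finset.mem_filter.mpr ⟨hinv x (Finset.mem_filter.mp hx).1, fun h => ?_⟩
      exact (Finset.mem_filter.mp hx).2 (by linear_combination -h)
    rw [← Finset.card_filter_add_card_filter_not (s := S) (fun x => -z - x = x), hfix,
      Nat.add_mod, Nat.even_iff.mp hrest]
    split_ifs <;> simp
  -- so `E` is contained in `{0}` or contains every nonzero element
  have hconst : ∀ a b : ZMod p, a ≠ 0 → b ≠ 0 → a ∈ E → b ∈ E := by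
    intro a b ha hb hmem
    have hane : -(2 * a) ≠ 0 := neg_ne_zero.mpr (mul_ne_zero h2ne ha)
    have hbne : -(2 * b) ≠ 0 := neg_ne_zero.mpr (mul_ne_zero h2ne hb)
    have h1 := hpar _ hane
    have h2 := hpar _ hbne
    rw [hlam _ _ hane hbne, h2, neg_neg, neg_neg, mul_div_cancel_left₀ a h2ne,
      mul_div_cancel_left₀ b h2ne, if_pos hmem] at h1
    by_contra hbE
    rw [if_neg hbE] at h1
    omega
  -- both cases give a point fixed by `H`
  have hDE : ∀ x, x ∈ D ↔ e x + d ∈ E := fun x => by simp [E, D']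
  obtain ⟨h, hh⟩ := hnofix (e.symm 0)
  have hx0 : e.symm 0 ∈ D := MulAction.mem_orbit_self _
  have hx1 : h • e.symm 0 ∈ D := hDH h h.2 _ hx0
  by_cases hE : ∃ a ∈ E, a ≠ 0
  · obtain ⟨a, haE, ha⟩ := hE
    have hall : ∀ b, b ≠ 0 → b ∈ E := fun b hb => hconst a b ha hb haE
    by_cases h0 : (0 : ZMod p) ∈ E
    · refine hnotall fun z => ?_
      have : z + d ∈ E := by
        by_cases hzd : z + d = 0
        · rw [hzd]; exact h0
        · exact hall _ hzd
      simpa [E] using this
    · -- the complement is one fixed point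
      obtain ⟨k, hk⟩ := hnofix (e.symm (-d))
      have hin : k • e.symm (-d) ∈ D := by
        rw [hDE]
        refine hall _ fun h0' => hk (e.injective ?_)
        rw [e.apply_symm_apply]; linear_combination h0'
      have hout : e.symm (-d) ∈ D := by
        have := hDH (k : G)⁻¹ (H.inv_mem k.2) _ hin
        change (k : G)⁻¹ • ((k : G) • e.symm (-d)) ∈ D at this
        rwa [inv_smul_smul] at this
      rw [hDE, e.apply_symm_apply, neg_add_cancel] at hout
      exact h0 hout
  · push Not at hE
    have e0 := hE _ ((hDE _).mp hx0)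
    have e1 := hE _ ((hDE _).mp hx1)
    exact hh (e.injective (by linear_combination e1 - e0))

end CfsgLib.Frobenius.PrimeDegree

namespace CfsgLib.Frobenius.PrimeDegree

variable {α : Type*} {p : ℕ} [Fact p.Prime]

/-- The automorphism group of a cyclic group is abelian. -/
theorem mulAut_comm {G : Type*} [Group G] [Finite G] (P : Subgroup G) [IsCyclic P]
    (u v : MulAut P) : u * v = v * u := by
  have e := IsCyclic.mulAutMulEquiv P
  exact e.injective (by rw [map_mul, map_mul, mul_comm])

/-- In degree `p` the index of a Sylow `p`-subgroup in its normaliser divides `p - 1`. -/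
theorem relIndex_dvd [Finite α] (G : Subgroup (Equiv.Perm α)) [MulAction.IsPretransitive G α]
    (hα : Nat.card α = p) (P : Sylow p G) (hP : Nat.card (P : Subgroup G) = p) :
    (P : Subgroup G).relIndex (Subgroup.normalizer ((P : Subgroup G) : Set G)) ∣ p - 1 := by
  classical
  have hp : p.Prime := Fact.out
  haveI : IsCyclic (P : Subgroup G) := isCyclic_of_prime_card hP
  have hne : Nonempty α := (Nat.card_pos_iff.mp (hα ▸ hp.pos)).1
  obtain ⟨a⟩ := hne
  have hPtr := CfsgLib.Perm.Basic.sylow_isPretransitive (f := 1) (Ω := α) (by rw [hα, pow_one]) P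
  let N := Subgroup.normalizer ((P : Subgroup G) : Set G)
  have hC : N ⊓ Subgroup.centralizer ((P : Subgroup G) : Set G) ≤ (P : Subgroup G) := by
    intro g hg
    obtain ⟨y, hy⟩ := MulAction.exists_smul_eq (P : Subgroup G) a (g • a)
    have hgy : g = (y : G) := Subtype.ext (Equiv.ext fun b => by
      obtain ⟨x, rfl⟩ := MulAction.exists_smul_eq (P : Subgroup G) a b
      have hgx : (x : G) * g = g * x := Subgroup.mem_centralizer_iff.mp hg.2 x x.2
      have hxy : (x : G) * y = (y : G) * x := by
        haveI : IsMulCommutative (P : Subgroup G) := IsCyclic.isMulCommutative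
        exact congrArg Subtype.val (mul_comm' x y)
      change g • (x : G) • a = (y : G) • (x : G) • a
      rw [smul_smul, ← hgx, mul_smul, ← hy, smul_smul, ← hxy, mul_smul]
      rfl)
    rw [hgy]; exact y.2
  have h1 : (P : Subgroup G).relIndex N ∣ (N ⊓ Subgroup.centralizer ((P : Subgroup G) : Set G)).relIndex N :=
    Subgroup.relIndex_dvd_of_le_left N hC
  refine h1.trans ?_
  rw [Subgroup.inf_relIndex_left, Subgroup.relIndex]
  haveI : Finite (MulAut (P : Subgroup G)) := Finite.of_injective (fun e => e.toEquiv) fun a b h => MulEquiv.ext (fun x => congrArg (fun f : _ ≃ _ => f x) h)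
  have h2 : Nat.card (MulAut (P : Subgroup G)) = p - 1 := by
    rw [IsCyclic.card_mulAut, hP, Nat.totient_prime hp]
  rw [← h2, ← Subgroup.normalizerMonoidHom_ker, Subgroup.index_ker]
  exact Subgroup.card_subgroup_dvd_card _

end CfsgLib.Frobenius.PrimeDegree
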