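import Cfsg.Agent.Lib.Char.Orth
import Cfsg.Agent.Lib.Char.Linear

/-! # Counting square roots of the identity with characters -/

namespace CfsgLib.Frobenius.SquareRoots

universe u

open scoped ComplexConjugate
open Finset

variable {G : Type u} [Group G]

theorem trace_swap_kron {n : Type*} [Fintype n] [DecidableEq n] (A : Matrix n n ℂ) :
    Matrix.trace ((Matrix.of fun p q : n × n => if p.1 = q.2 ∧ p.2 = q.1 then (1 : ℂ) else 0) *
      Matrix.kroneckerMap (· * ·) A A) = Matrix.trace (A * A) := by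
  simp only [Matrix.trace, Matrix.diag_apply, Matrix.mul_apply, Matrix.of_apply,
    Matrix.kroneckerMap_apply, Fintype.sum_prod_type, ite_and, ite_mul, one_mul, zero_mul,
    Finset.sum_ite_eq, Finset.mem_univ, if_true, Finset.sum_ite_irrel, Finset.sum_const_zero]
  exact Finset.sum_congr rfl fun i _ => Finset.sum_congr rfl fun j _ => mul_comm _ _

/-- For a character `χ`, the function `(g, 1) ↦ χ(g)², (g, -1) ↦ χ(g²)` on `G × ℤˣ` is a character. -/
theorem isCharacter_square {χ : G → ℂ} (hχ : Cfsg.IsCharacter G χ) :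
    Cfsg.IsCharacter (G × ℤˣ) fun x => if x.2 = 1 then χ x.1 * χ x.1 else χ (x.1 ^ 2) := by
  classical
  obtain ⟨n, ρ, rfl⟩ := hχ
  let M : G →* Matrix (Fin n) (Fin n) ℂ :=
    { toFun := fun g => LinearMap.toMatrix' (ρ g)
      map_one' := by rw [map_one]; exact LinearMap.toMatrix'_one
      map_mul' := fun g h => by rw [map_mul]; exact LinearMap.toMatrix'_mul _ _ }
  let S : Matrix (Fin n × Fin n) (Fin n × Fin n) ℂ :=
    Matrix.of fun p q => if p.1 = q.2 ∧ p.2 = q.1 then (1 : ℂ) else 0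
  have hSS : S * S = 1 := by
    ext ⟨i, j⟩ ⟨k, l⟩
    simp only [S, Matrix.mul_apply, Matrix.of_apply, Fintype.sum_prod_type, ite_and, ite_mul,
      one_mul, zero_mul, Finset.sum_ite_eq, Finset.mem_univ, if_true, Matrix.one_apply,
      Prod.mk.injEq, Finset.sum_ite_irrel, Finset.sum_const_zero]
    by_cases h1 : i = k <;> by_cases h2 : j = l <;> simp [h1, h2]
  let f : G →* Matrix (Fin n × Fin n) (Fin n × Fin n) ℂ :=
    { toFun := fun g => Matrix.kroneckerMap (· * ·) (M g) (M g)
      map_one' := by rw [map_one]; exact Matrix.one_kronecker_one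
      map_mul' := fun g h => by rw [map_mul]; exact Matrix.mul_kronecker_mul _ _ _ _ }
  let s : ℤˣ →* Matrix (Fin n × Fin n) (Fin n × Fin n) ℂ :=
    { toFun := fun u => if u = 1 then 1 else S
      map_one' := if_pos rfl
      map_mul' := fun a b => by
        rcases Int.units_eq_one_or a with rfl | rfl <;> rcases Int.units_eq_one_or b with rfl | rfl <;>
          simp [hSS] }
  have hcomm : ∀ (g : G) (u : ℤˣ), Commute (f g) (s u) := by
    intro g u
    rcases Int.units_eq_one_or u with rfl | rfl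
    · simp [s]
    · show f g * S = S * f g
      ext ⟨i, j⟩ ⟨k, l⟩
      simp [f, S, Matrix.mul_apply, Matrix.kroneckerMap_apply, Fintype.sum_prod_type, ite_and,
        Finset.sum_ite_irrel, mul_comm]
  let F : G × ℤˣ →* Matrix (Fin n × Fin n) (Fin n × Fin n) ℂ := f.noncommCoprod s hcomm
  let R : Representation ℂ (G × ℤˣ) (Fin n × Fin n → ℂ) :=
    (Matrix.toLinAlgEquiv' (R := ℂ)).toMonoidHom.comp F
  have hR : R.character = fun x => if x.2 = 1 then ρ.character x.1 * ρ.character x.1
      else ρ.character (x.1 ^ 2) := by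
    funext ⟨g, u⟩
    have hM : ∀ h, Matrix.trace (M h) = ρ.character h := fun h => by
      rw [Representation.character, LinearMap.trace_eq_matrix_trace ℂ (Pi.basisFun ℂ (Fin n)),
        LinearMap.toMatrix_eq_toMatrix']
      rfl
    show LinearMap.trace ℂ _ (Matrix.toLin' (f g * s u)) = _
    rw [Matrix.trace_toLin'_eq]
    rcases Int.units_eq_one_or u with rfl | rfl
    · rw [if_pos rfl, map_one, mul_one, ← hM]
      exact Matrix.trace_kronecker (M g) (M g)
    · rw [if_neg (show ¬((-1 : ℤˣ) = 1) by decide), ← hM, sq, map_mul, (hcomm g (-1)).eq]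
      exact trace_swap_kron (M g)
  exact hR ▸ CfsgLib.Char.isCharacter_of_rep R

/-- The sign character of the second factor. -/
noncomputable def signHom (G : Type u) [Group G] : G × ℤˣ →* ℂˣ :=
  (Units.map (Int.castRingHom ℂ).toMonoidHom).comp (MonoidHom.snd G ℤˣ)

variable [Fintype G]

/-- `|G|⁻¹ ∑ χ(g²)` is an integer. -/
theorem exists_int_indicator {χ : G → ℂ} (hχ : Cfsg.IsCharacter G χ) :
    ∃ a : ℤ, (Nat.card G : ℂ)⁻¹ * ∑ g : G, χ (g ^ 2) = a := by
  classical
  obtain ⟨a, ha⟩ := CfsgLib.Char.IsCharacter.classInner_nat (isCharacter_square hχ)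
    (CfsgLib.Char.isCharacter_one (G := G × ℤˣ))
  obtain ⟨b, hb⟩ := CfsgLib.Char.IsCharacter.classInner_nat (isCharacter_square hχ)
    (CfsgLib.Char.isCharacter_hom (signHom G))
  refine ⟨(a : ℤ) - b, ?_⟩
  push_cast
  rw [← ha, ← hb, Cfsg.classInner, Cfsg.classInner, ← mul_sub, ← Finset.sum_sub_distrib,
    Fintype.sum_prod_type, Nat.card_prod, Finset.mul_sum, Finset.mul_sum]
  refine Finset.sum_congr rfl fun g _ => ?_
  rw [UnitsInt.univ, Finset.sum_pair (by decide)]
  simp [signHom]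
  ring

/-- The number of square roots of the identity is `∑ χ(1) ν(χ)`. -/
theorem card_square_roots :
    (Nat.card {x : G // x ^ 2 = 1} : ℂ) =
      ∑ χ : Cfsg.IrrCharacter G,
        conj ((Nat.card G : ℂ)⁻¹ * ∑ g : G, (χ : G → ℂ) (g ^ 2)) * (χ : G → ℂ) 1 := by
  classical
  let θ : G → ℂ := fun g => ∑ x : G, if x ^ 2 = g then 1 else 0
  have hθ : Cfsg.IsClassFunction G θ := fun g h => by
    refine Fintype.sum_equiv (MulAut.conj h⁻¹).toEquiv _ _ fun x => ?_
    have he : x ^ 2 = h * g * h⁻¹ ↔ (h⁻¹ * x * h) ^ 2 = g := by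
      constructor <;> intro e
      · rw [show (h⁻¹ * x * h) ^ 2 = h⁻¹ * x ^ 2 * h by simp [sq, mul_assoc], e]; group
      · rw [← e]; simp [sq, mul_assoc]
    simp [he, MulAut.conj_apply]
  have h1 : (Nat.card {x : G // x ^ 2 = 1} : ℂ) = θ 1 := by
    simp [θ, Nat.card_eq_fintype_card, Fintype.card_subtype, Finset.sum_boole]
  rw [h1]
  conv_lhs => rw [CfsgLib.Char.IsClassFunction.eq_sum_irr hθ, Finset.sum_apply]
  refine Finset.sum_congr rfl fun χ _ => ?_
  rw [Pi.smul_apply, smul_eq_mul]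
  congr 1
  rw [Cfsg.classInner, map_mul, map_inv₀, Complex.conj_natCast, map_sum]
  congr 1
  simp only [θ, Finset.sum_mul, ite_mul, one_mul, zero_mul]
  rw [Finset.sum_comm]
  simp

/-- A character of norm one is irreducible. -/
theorem isIrrCharacter_of_norm_one {ψ : G → ℂ} (hψ : Cfsg.IsCharacter G ψ)
    (h : Cfsg.classInner ψ ψ = 1) : Cfsg.IsIrrCharacter G ψ := by
  classical
  have hc := CfsgLib.Char.IsCharacter.isClassFunction hψ
  choose n hn using fun χ : Cfsg.IrrCharacter G =>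
    CfsgLib.Char.IsCharacter.classInner_nat hψ (CfsgLib.Char.isCharacter_irr χ)
  have hsum : ∑ χ, n χ * n χ = 1 := by
    have := CfsgLib.Char.classInner_eq_sum_irr hc ψ
    rw [h] at this
    have e : (1 : ℂ) = ((∑ χ, n χ * n χ : ℕ) : ℂ) := by
      rw [this, Nat.cast_sum]
      refine Finset.sum_congr rfl fun χ _ => ?_
      rw [CfsgLib.Char.IsCharacter.classInner_comm (CfsgLib.Char.isCharacter_irr χ) hψ, hn,
        Nat.cast_mul]
    exact_mod_cast e.symm
  obtain ⟨χ₀, -, hχ₀⟩ := Finset.exists_ne_zero_of_sum_ne_zero (hsum.trans_ne one_ne_zero)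
  have hone : n χ₀ * n χ₀ = 1 := le_antisymm
    (hsum ▸ Finset.single_le_sum (f := fun χ => n χ * n χ) (fun i _ => Nat.zero_le _) (Finset.mem_univ χ₀))
    (Nat.pos_of_ne_zero hχ₀)
  have hzero : ∀ χ, χ ≠ χ₀ → n χ = 0 := fun χ hne => by
    have h2 := Finset.sum_erase_add Finset.univ (fun χ => n χ * n χ) (Finset.mem_univ χ₀)
    simp only [hsum, hone] at h2
    have h3 : ∑ x ∈ Finset.univ.erase χ₀, n x * n x = 0 := by omega
    have := Finset.sum_eq_zero_iff.mp h3 χ (Finset.mem_erase.mpr ⟨hne, Finset.mem_univ _⟩)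
    exact mul_self_eq_zero.mp this
  have : ψ = (χ₀ : G → ℂ) := by
    conv_lhs => rw [CfsgLib.Char.IsClassFunction.eq_sum_irr hc]
    rw [Finset.sum_eq_single χ₀ (fun χ _ hne => by rw [hn, hzero χ hne, Nat.cast_zero, zero_smul])
      (fun h' => absurd (Finset.mem_univ _) h'), hn]
    have : n χ₀ = 1 := Nat.eq_one_of_mul_eq_one_right hone
    rw [this, Nat.cast_one, one_smul]
  exact this ▸ χ₀.2

end CfsgLib.Frobenius.SquareRoots
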