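import Cfsg.Agent.S3634
import Cfsg.Agent.Lib.Solvable.Hall
import Cfsg.Agent.Lib.Solvable.Basic
import Cfsg.Agent.Lib.Solvable.Cores

/-!
Three primes dividing the order of a solvable group: two of them occur in the order of one element
(Lucido).
-/

set_option autoImplicit false

namespace CfsgLib.Frobenius.ThreePrimes

/-- In a solvable group of order `p^a q^b r^c` two of the primes occur in one element order. -/
theorem exists_orderOf_aux {G : Type*} [Group G] [Finite G] [Group.IsSolvable G] (S : Finset ℕ)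
    (hS : ∀ s ∈ S, s.Prime) (hS3 : S.card = 3) (hdvd : ∀ s ∈ S, s ∣ Nat.card G)
    (honly : ∀ s : ℕ, s.Prime → s ∣ Nat.card G → s ∈ S) :
    ∃ s ∈ S, ∃ t ∈ S, s ≠ t ∧ ∃ x : G, orderOf x = s * t := by
  classical
  have : Nontrivial G := by
    obtain ⟨s, hs⟩ := Finset.card_pos.1 (by omega : 0 < S.card)
    exact Finite.one_lt_card_iff_nontrivial.1
      (lt_of_lt_of_le (hS s hs).one_lt (Nat.le_of_dvd Nat.card_pos (hdvd s hs)))
  obtain ⟨N, p, hp, hNn, hN0, -, -, hNp, -⟩ :=
    CfsgLib.Solvable.Basic.exists_minimal_normal_pgroup (G := G) (H := ⊤) top_ne_bot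
  have : Fact p.Prime := ⟨hp⟩
  set K := Cfsg.pCore p G
  have hK0 : K ≠ ⊥ := fun h => hN0 (le_bot_iff.1 (h ▸ CfsgLib.Solvable.Cores.le_pCore hNp))
  obtain ⟨a, ha⟩ := (CfsgLib.Solvable.Cores.isPGroup_pCore (G := G) p).exists_card_eq
  have ha0 : a ≠ 0 := fun h => hK0 (Subgroup.card_eq_one.1 (by rw [ha, h, pow_zero]))
  have hpK : p ∣ Nat.card K := ha ▸ dvd_pow_self p ha0
  have hpS : p ∈ S := honly p hp (hpK.trans (Subgroup.card_subgroup_dvd_card K))
  have hQnt : Nontrivial (G ⧸ K) := by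
    obtain ⟨s, hs, hsp⟩ : ∃ s ∈ S, s ≠ p := S.exists_mem_ne (by omega) p
    rw [← Finite.one_lt_card_iff_nontrivial]
    by_contra hle
    have h1 := K.card_eq_card_quotient_mul_card_subgroup
    rw [show Nat.card (G ⧸ K) = 1 from le_antisymm (not_lt.1 hle) Nat.card_pos, one_mul, ha] at h1
    have h2 := hdvd s hs
    rw [h1] at h2
    exact hsp ((Nat.prime_dvd_prime_iff_eq (hS s hs) hp).1 ((hS s hs).dvd_of_dvd_pow h2))
  obtain ⟨L, q, hq, hLn, hL0, -, -, hLq, -⟩ :=
    CfsgLib.Solvable.Basic.exists_minimal_normal_pgroup (G := G ⧸ K) (H := ⊤) top_ne_bot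
  set M := L.comap (QuotientGroup.mk' K)
  have hMn : M.Normal := hLn.comap _
  have hMc : Nat.card M = Nat.card L * Nat.card K := CfsgLib.Solvable.Basic.card_comap_mk K L
  have : Fact q.Prime := ⟨hq⟩
  obtain ⟨b, hb⟩ := IsPGroup.iff_card.1 hLq
  have hb0 : b ≠ 0 := fun h => hL0 (Subgroup.card_eq_one.1 (by rw [hb, h, pow_zero]))
  have hqp : q ≠ p := by
    rintro rfl
    have hMp : IsPGroup q M := IsPGroup.of_card (n := b + a) (by rw [hMc, hb, ha, pow_add])
    have hMK : M ≤ K := CfsgLib.Solvable.Cores.le_pCore hMp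
    refine hL0 (le_bot_iff.1 fun y hy => ?_)
    obtain ⟨x, rfl⟩ := QuotientGroup.mk'_surjective K y
    exact Subgroup.mem_bot.2 ((QuotientGroup.eq_one_iff x).2 (hMK hy))
  have hKM : K ≤ M := fun x hx => by
    show QuotientGroup.mk' K x ∈ L
    rw [show QuotientGroup.mk' K x = 1 from (QuotientGroup.eq_one_iff x).2 hx]
    exact one_mem L
  have hqd : q ∣ Nat.card M / Nat.card K := by
    rw [hMc, Nat.mul_div_cancel _ Nat.card_pos, hb]; exact dvd_pow_self q hb0
  have hqS : q ∈ S := honly q hq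
    ((hqd.trans (Nat.div_dvd_of_dvd (Subgroup.card_dvd_of_le hKM))).trans M.card_subgroup_dvd_card)
  obtain ⟨r, hrS, hrp, hrq⟩ : ∃ r ∈ S, r ≠ p ∧ r ≠ q := by
    by_contra h
    push Not at h
    have hsub : S ⊆ {p, q} := fun s hs => by
      by_cases hsp : s = p
      · simp [hsp]
      · simp [h s hs hsp]
    have := (Finset.card_le_card hsub).trans (Finset.card_insert_le _ _)
    simp at this
    omega
  have hr := hS r hrS
  have hrd : r ∣ Nat.card G / Nat.card M := by
    have h1 := hdvd r hrS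
    rw [← M.card_mul_index] at h1
    rw [show Nat.card G / Nat.card M = M.index by
      rw [← M.card_mul_index, Nat.mul_div_cancel_left _ Nat.card_pos]]
    refine (hr.dvd_mul.1 h1).resolve_left fun h2 => ?_
    rw [hMc, hb, ha] at h2
    rcases hr.dvd_mul.1 h2 with h3 | h3
    · exact hrq ((Nat.prime_dvd_prime_iff_eq hr hq).1 (hr.dvd_of_dvd_pow h3))
    · exact hrp ((Nat.prime_dvd_prime_iff_eq hr hp).1 (hr.dvd_of_dvd_pow h3))
  rcases Cfsg.Agent.S3634.result K M hKM p q r hp hq hr hqp.symm hrp.symm hrq.symm hpK hqd hrd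
    with h | h | h
  · exact ⟨p, hpS, q, hqS, hqp.symm, h⟩
  · exact ⟨p, hpS, r, hrS, hrp.symm, h⟩
  · exact ⟨q, hqS, r, hrS, hrq.symm, h⟩

/-- Lucido's lemma for a solvable group. -/
theorem exists_orderOf {G : Type*} [Group G] [Finite G] [Group.IsSolvable G] (S : Finset ℕ)
    (hS : ∀ s ∈ S, s.Prime) (hS3 : S.card = 3) (hdvd : ∀ s ∈ S, s ∣ Nat.card G) :
    ∃ s ∈ S, ∃ t ∈ S, s ≠ t ∧ ∃ x : G, orderOf x = s * t := by
  classical
  set m := ∏ s ∈ S, s ^ (Nat.card G).factorization s with hm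
  have hfac : ∀ s : ℕ, m.factorization s = if s ∈ S then (Nat.card G).factorization s else 0 := by
    intro s
    rw [hm, Nat.factorization_prod_apply (fun t ht => pow_ne_zero _ (hS t ht).ne_zero),
      Finset.sum_congr rfl (fun t ht => by
        rw [(hS t ht).factorization_pow, Finsupp.single_apply]), Finset.sum_ite_eq']
  have hm0 : m ≠ 0 := Finset.prod_ne_zero_iff.2 fun t ht => pow_ne_zero _ (hS t ht).ne_zero
  have hmd : m ∣ Nat.card G := by
    refine (Nat.factorization_le_iff_dvd hm0 Nat.card_pos.ne').1 fun s => ?_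
    rw [hfac]; split_ifs <;> simp
  have hmS : ∀ s : ℕ, s.Prime → s ∣ m → s ∈ S := fun s hs hsd => by
    by_contra h
    have := hs.factorization_pos_of_dvd hm0 hsd
    rw [hfac, if_neg h] at this
    omega
  have hcop : m.Coprime (Nat.card G / m) := by
    refine Nat.coprime_of_dvd fun s hs h1 h2 => ?_
    have h3 := hs.factorization_pos_of_dvd
      (Nat.div_pos (Nat.le_of_dvd Nat.card_pos hmd) (Nat.pos_of_ne_zero hm0)).ne' h2
    rw [Nat.factorization_div hmd, Finsupp.tsub_apply, hfac, if_pos (hmS s hs h1)] at h3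
    omega
  obtain ⟨H, hH⟩ := CfsgLib.Solvable.Hall.exists_card_eq (Nat.mul_div_cancel' hmd).symm hcop
  have hdvdH : ∀ s ∈ S, s ∣ Nat.card H := fun s hs => by
    rw [hH]
    have h1 := (hS s hs).factorization_pos_of_dvd Nat.card_pos.ne' (hdvd s hs)
    exact (dvd_pow_self s h1.ne').trans
      (Finset.dvd_prod_of_mem (fun t => t ^ (Nat.card G).factorization t) hs)
  obtain ⟨s, hs, t, ht, hst, x, hx⟩ := exists_orderOf_aux (G := H) S hS hS3 hdvdH
    (fun s hs' hsd => hmS s hs' (hH ▸ hsd))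
  exact ⟨s, hs, t, ht, hst, x, by rw [Subgroup.orderOf_coe, hx]⟩

end CfsgLib.Frobenius.ThreePrimes
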