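import Mathlib

/-!
Wielandt's zipper lemma, joins of mutually normalising subnormal subgroups, subgroups of
nilpotent groups are subnormal.
-/

set_option autoImplicit false

namespace CfsgLib.Frobenius.Zipper

open Subgroup

universe u

variable {G : Type u} [Group G]

/-- In a finite nilpotent group every subgroup is subnormal. -/
theorem isSubnormal_of_isNilpotent [Finite G] [Group.IsNilpotent G] (A : Subgroup G) :
    A.IsSubnormal := by
  induction A using WellFoundedGT.induction with
  | _ A ih =>
    by_cases hA : A = ⊤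
    · subst hA; exact Subgroup.IsSubnormal.top
    have hlt := Group.normalizerCondition_of_isNilpotent (G := G) A (lt_top_iff_ne_top.2 hA)
    exact Subgroup.IsSubnormal.step A _ hlt.le (ih _ hlt)
      ((normal_subgroupOf_iff_le_normalizer hlt.le).2 le_rfl)

/-- Conjugation preserves subnormality inside an overgroup. -/
theorem conj_isSubnormal_subgroupOf {A K : Subgroup G} (g : G)
    (h : ((A.map (MulAut.conj g).toMonoidHom).subgroupOf (K.map (MulAut.conj g).toMonoidHom)).IsSubnormal) :
    (A.subgroupOf K).IsSubnormal := by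
  have h2 := h.comap ((Subgroup.equivMapOfInjective K (MulAut.conj g).toMonoidHom
    (MulAut.conj g).injective).toMonoidHom)
  convert h2 using 1
  ext ⟨x, hx⟩
  simp only [Subgroup.mem_comap, Subgroup.mem_subgroupOf]
  exact ⟨fun hxA => ⟨x, hxA, rfl⟩,
    fun ⟨y, hy, e⟩ => (MulAut.conj g).injective (show MulAut.conj g y = MulAut.conj g x from e) ▸ hy⟩

/-- The join of two subnormal subgroups, one normalising the other, is subnormal. -/
theorem sup_isSubnormal [Finite G] {A B : Subgroup G} (hA : A.IsSubnormal) (hB : B.IsSubnormal)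
    (hBA : B ≤ normalizer (A : Set G)) : (A ⊔ B).IsSubnormal := by
  suffices key : ∀ K : Subgroup G, A ≤ K → B ≤ normalizer (K : Set G) → (K ⊔ B).IsSubnormal →
      (A ⊔ B).IsSubnormal from key ⊤ le_top (le_top.trans_eq (normalizer_eq_top_iff.2 inferInstance).symm)
        (by rw [top_sup_eq]; exact Subgroup.IsSubnormal.top)
  intro K
  induction K using WellFoundedLT.induction with
  | _ K ih =>
    intro hAK hBK hKB
    by_cases heq : A = K
    · exact heq ▸ hKB
    -- the normal closure of `A` in `K`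
    set A' := A.subgroupOf K with hA'
    have hA'sn : A'.IsSubnormal := hA.subgroupOf
    have hA'ne : A' ≠ ⊤ := fun e => heq (le_antisymm hAK (subgroupOf_eq_top.1 e))
    obtain ⟨M, hMn, hAM, hMlt⟩ := (hA'sn.lt_normal).resolve_left hA'ne
    set N := Subgroup.normalClosure ((A' : Subgroup K) : Set K) with hN
    have hNM : N ≤ M := normalClosure_le_normal hAM
    set K' := N.map K.subtype with hK'
    have hK'K : K' ≤ K := map_subtype_le _
    have hlt : K' < K := by
      refine lt_of_le_of_ne hK'K fun e => ?_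
      have hNtop : N = ⊤ := by
        rw [eq_top_iff]
        intro x _
        obtain ⟨y, hy, hyx⟩ := (e.ge x.2 : (x : G) ∈ K')
        exact Subtype.ext hyx ▸ hy
      exact hMlt.not_ge (hNtop ▸ hNM)
    have hAK' : A ≤ K' := fun a ha => ⟨⟨a, hAK ha⟩, subset_normalClosure (show (⟨a, hAK ha⟩ : K) ∈ A' from ha), rfl⟩
    -- `K'` is the subgroup generated by the `K`-conjugates of `A`
    have hK'cl : K' = closure {x | ∃ k ∈ K, ∃ a ∈ A, x = k * a * k⁻¹} := by
      rw [hK', hN, Subgroup.normalClosure, MonoidHom.map_closure]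
      congr 1
      ext x
      simp only [Set.mem_image, Group.conjugatesOfSet, Set.mem_iUnion, conjugatesOf,
        Set.mem_setOf_eq, isConj_iff]
      constructor
      · rintro ⟨y, ⟨a, ha, c, rfl⟩, rfl⟩
        exact ⟨c, c.2, a, ha, rfl⟩
      · rintro ⟨k, hk, a, ha, rfl⟩
        exact ⟨⟨k, hk⟩ * ⟨a, hAK ha⟩ * ⟨k, hk⟩⁻¹, ⟨⟨a, hAK ha⟩, ha, ⟨k, hk⟩, rfl⟩, rfl⟩
    have hBK' : B ≤ normalizer (K' : Set G) := by
      intro b hb
      refine Subgroup.mem_normalizer_iff_map_conj_eq.2 ?_
      rw [hK'cl, MonoidHom.map_closure]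
      refine congrArg Subgroup.closure (Set.ext fun x => ⟨?_, ?_⟩)
      · rintro ⟨_, ⟨k, hk, a, ha, rfl⟩, rfl⟩
        refine ⟨b * k * b⁻¹, (mem_normalizer_iff.1 (hBK hb) k).1 hk, b * a * b⁻¹,
          (mem_normalizer_iff.1 (hBA hb) a).1 ha, ?_⟩
        simp [mul_assoc]
      · rintro ⟨k, hk, a, ha, rfl⟩
        have hk' : b⁻¹ * k * b ∈ K := by
          simpa using (mem_normalizer_iff.1 (inv_mem (hBK hb)) k).1 hk
        have ha' : b⁻¹ * a * b ∈ A := by
          simpa using (mem_normalizer_iff.1 (inv_mem (hBA hb)) a).1 ha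
        exact ⟨b⁻¹ * k * b * (b⁻¹ * a * b) * (b⁻¹ * k * b)⁻¹, ⟨_, hk', _, ha', rfl⟩, by simp [mul_assoc]⟩
    refine ih K' hlt hAK' hBK' ?_
    -- `K' ⊔ B` is subnormal in `K ⊔ B`
    set L := K ⊔ B with hL
    have hK'L : K' ≤ L := hK'K.trans le_sup_left
    haveI hKn : (K'.subgroupOf L).Normal := by
      refine (normal_subgroupOf_iff_le_normalizer hK'L).2 (sup_le ?_ hBK')
      exact (normal_subgroupOf_iff_le_normalizer hK'K).1 (by
        rw [hK', Subgroup.subgroupOf, comap_map_eq_self_of_injective K.subtype_injective, hN]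
        exact normalClosure_normal)
    refine Subgroup.IsSubnormal.trans (sup_le_sup_right hK'K B) ?_ hKB
    have h1 : (((B.subgroupOf L).map (QuotientGroup.mk' (K'.subgroupOf L))).comap
        (QuotientGroup.mk' (K'.subgroupOf L))).IsSubnormal :=
      ((hB.subgroupOf (K := L)).map (QuotientGroup.mk'_surjective _)).comap _
    rwa [comap_map_eq, QuotientGroup.ker_mk', ← subgroupOf_sup le_sup_right hK'L, sup_comm] at h1

/-- A subnormal subgroup which is not normal has another conjugate inside its normaliser. -/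
theorem exists_conj_of_not_normal {A : Subgroup G} (hA : A.IsSubnormal) (hn : ¬ A.Normal) :
    ∃ x : G, A.map (MulAut.conj x).toMonoidHom ≠ A ∧
      A.map (MulAut.conj x).toMonoidHom ≤ normalizer (A : Set G) := by
  suffices key : ∀ K : Subgroup G, K.IsSubnormal → ∀ H : Subgroup G, H ≤ K →
      (H.subgroupOf K).Normal → H.Normal ∨ ∃ x : G, H.map (MulAut.conj x).toMonoidHom ≠ H ∧
        H.map (MulAut.conj x).toMonoidHom ≤ normalizer (H : Set G) by
    cases hA with
    | top => exact absurd (inferInstance : (⊤ : Subgroup G).Normal) hn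
    | step _ K h1 h2 h3 => exact (key K h2 A h1 h3).resolve_left hn
  intro K hK
  induction hK with
  | top =>
    intro H hH hHn
    left
    rw [← normalizer_eq_top_iff, eq_top_iff]
    exact (normal_subgroupOf_iff_le_normalizer hH).1 hHn
  | step K L hKL hL hKn ih =>
    intro H hH hHn
    by_cases hHL : (H.subgroupOf L).Normal
    · exact ih H (hH.trans hKL) hHL
    right
    rw [normal_subgroupOf_iff_le_normalizer (hH.trans hKL)] at hHL
    obtain ⟨x, hxL, hx⟩ := SetLike.not_le_iff_exists.1 hHL
    refine ⟨x, fun e => hx (Subgroup.mem_normalizer_iff_map_conj_eq.2 e), ?_⟩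
    have h1 : K.map (MulAut.conj x).toMonoidHom = K := Subgroup.mem_normalizer_iff_map_conj_eq.1
      ((normal_subgroupOf_iff_le_normalizer hKL).1 hKn hxL)
    exact ((map_mono hH).trans h1.le).trans ((normal_subgroupOf_iff_le_normalizer hH).1 hHn)

/-- Wielandt's zipper lemma. -/
theorem existsUnique_coatom [Finite G] {A : Subgroup G}
    (hsub : ∀ K : Subgroup G, A ≤ K → K ≠ ⊤ → (A.subgroupOf K).IsSubnormal)
    (hns : ¬ A.IsSubnormal) : ∃! M : Subgroup G, IsCoatom M ∧ A ≤ M := by
  induction A using WellFoundedGT.induction with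
  | _ A ih =>
    have hNtop : normalizer (A : Set G) ≠ ⊤ := fun e =>
      hns (normalizer_eq_top_iff.1 e).isSubnormal
    obtain ⟨M₀, hM₀, hNM₀⟩ := (eq_top_or_exists_le_coatom (normalizer (A : Set G))).resolve_left hNtop
    refine ⟨M₀, ⟨hM₀, le_normalizer.trans hNM₀⟩, ?_⟩
    rintro M ⟨hM, hAM⟩
    by_contra hne
    have hnn : ¬ (A.subgroupOf M).Normal := by
      intro h
      have := ((normal_subgroupOf_iff_le_normalizer hAM).1 h).trans hNM₀
      exact hne ((hM.le_iff.1 this).resolve_left hM₀.1).symm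
    obtain ⟨⟨x, hx⟩, hx1, hx2⟩ := exists_conj_of_not_normal (hsub M hAM hM.1) hnn
    set B := A.map (MulAut.conj x).toMonoidHom with hB
    have hBM : B ≤ M := by
      rintro _ ⟨a, ha, rfl⟩
      exact mul_mem (mul_mem hx (hAM ha)) (inv_mem hx)
    have hBA : B ≤ normalizer (A : Set G) := by
      rintro _ ⟨a, ha, rfl⟩
      have h1 := hx2 ⟨(⟨a, hAM ha⟩ : M), ha, rfl⟩
      rw [← subgroupOf_normalizer_eq hAM, mem_subgroupOf] at h1
      exact h1
    set T := A ⊔ B with hT
    have hAT : A < T := by
      refine lt_of_le_of_ne le_sup_left fun e => hx1 ?_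
      have hBA' : B ≤ A := e.symm ▸ le_sup_right
      have hBeq : B = A := eq_of_le_of_card_ge hBA'
        (by rw [hB, card_map_of_injective (MulAut.conj x).injective])
      apply Subgroup.map_injective M.subtype_injective
      rw [Subgroup.map_map, show M.subtype.comp (MulAut.conj (⟨x, hx⟩ : M)).toMonoidHom =
        (MulAut.conj x).toMonoidHom.comp M.subtype from rfl, ← Subgroup.map_map,
        map_subgroupOf_eq_of_le hAM]
      exact hBeq
    have hTM : T ≤ M := sup_le hAM hBM
    have hTM₀ : T ≤ M₀ := (sup_le le_normalizer hBA).trans hNM₀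
    have hTtop : T ≠ ⊤ := fun e => hM.1 (top_le_iff.1 (e ▸ hTM))
    have hT1 : ∀ K : Subgroup G, T ≤ K → K ≠ ⊤ → (T.subgroupOf K).IsSubnormal := by
      intro K hK hKtop
      have hAK : A ≤ K := le_sup_left.trans hK
      have hBK : B ≤ K := le_sup_right.trans hK
      have hBsn : (B.subgroupOf K).IsSubnormal := by
        refine conj_isSubnormal_subgroupOf x⁻¹ ?_
        have e : B.map (MulAut.conj x⁻¹).toMonoidHom = A := by
          rw [hB, Subgroup.map_map]
          convert Subgroup.map_id A
          ext; simp [mul_assoc]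
        rw [e]
        refine hsub _ (e ▸ map_mono hBK) fun h => hKtop ?_
        apply Subgroup.map_injective (f := (MulAut.conj x⁻¹).toMonoidHom) (MulAut.conj x⁻¹).injective
        rw [h, Subgroup.map_top_of_surjective _ (MulAut.conj x⁻¹).surjective]
      rw [hT, subgroupOf_sup hAK hBK]
      refine sup_isSubnormal (hsub K hAK hKtop) hBsn ?_
      rw [← subgroupOf_normalizer_eq hAK]
      exact fun y hy => hBA hy
    have hT2 : ¬ T.IsSubnormal := fun h =>
      hns (Subgroup.IsSubnormal.trans le_sup_left (hsub T le_sup_left hTtop) h)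
    obtain ⟨M₁, -, huniq⟩ := ih T hAT hT1 hT2
    exact hne ((huniq M ⟨hM, hTM⟩).trans (huniq M₀ ⟨hM₀, hTM₀⟩).symm)

end CfsgLib.Frobenius.Zipper
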